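import Cfsg.Agent.H29.OW.Persp

/-!
Transitivity consequences of a collineation group which is 2-transitive on points.
-/

set_option autoImplicit false
set_option linter.unusedSectionVars false

namespace Cfsg.Agent.H29.OW

namespace Plane

variable {P : Type*} {L : Type*}

/-- The collineation group is 2-transitive on points. -/
def TwoTrans (π : Plane P L) : Prop :=
  ∀ p₁ p₂ q₁ q₂ : P, p₁ ≠ p₂ → q₁ ≠ q₂ → ∃ g : π.Aut, g • p₁ = q₁ ∧ g • p₂ = q₂

/-- No nontrivial collineation has an axis. -/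
def NoPersp (π : Plane P L) : Prop := ∀ (g : π.Aut) (l : L), π.Axis g l → g = 1

variable {π : Plane P L} [Finite P] [Finite L]

/-- The collineations fixing two points. -/
def pairFix (π : Plane P L) (A B : P) : Subgroup π.Aut :=
  MulAction.stabilizer π.Aut A ⊓ MulAction.stabilizer π.Aut B

theorem mem_pairFix {A B : P} {g : π.Aut} : g ∈ π.pairFix A B ↔ g • A = A ∧ g • B = B :=
  Iff.rfl

theorem TwoTrans.flag (h : TwoTrans π) {A B : P} {l m : L} (hA : π.I A l) (hB : π.I B m) :
    ∃ g : π.Aut, g • l = m ∧ g • A = B := by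
  obtain ⟨A', hA', hAA⟩ := π.exists_point_ne l A
  obtain ⟨B', hB', hBB⟩ := π.exists_point_ne m B
  obtain ⟨g, h1, h2⟩ := h A A' B B' (Ne.symm hAA) (Ne.symm hBB)
  refine ⟨g, ?_, h1⟩
  rw [← join_eq (Ne.symm hAA) hA hA', smul_join g (Ne.symm hAA), h1, h2,
    join_eq (Ne.symm hBB) hB hB']

omit [Finite P] [Finite L] in
/-- pigeonhole for orbits -/
theorem same_orbit {K : Type*} [Group K] {Ω : Type*} [MulAction K Ω] [Finite Ω]
    (hc : Nat.card (Quotient (MulAction.orbitRel K Ω)) ≤ 2) {x y z : Ω}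
    (hxy : y ∉ MulAction.orbit K x) (hxz : z ∉ MulAction.orbit K x) :
    z ∈ MulAction.orbit K y := by
  classical
  have := Fintype.ofFinite (Quotient (MulAction.orbitRel K Ω))
  by_contra hyz
  set qx : Quotient (MulAction.orbitRel K Ω) := Quotient.mk'' x with hqx
  set qy : Quotient (MulAction.orbitRel K Ω) := Quotient.mk'' y with hqy
  set qz : Quotient (MulAction.orbitRel K Ω) := Quotient.mk'' z with hqz
  have h1 : qx ≠ qy := fun e => hxy (MulAction.orbitRel_apply.mp (Quotient.exact' e.symm))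
  have h2 : qx ≠ qz := fun e => hxz (MulAction.orbitRel_apply.mp (Quotient.exact' e.symm))
  have h3 : qy ≠ qz := fun e => hyz (MulAction.orbitRel_apply.mp (Quotient.exact' e.symm))
  have : ({qx, qy, qz} : Finset _).card = 3 := Finset.card_eq_three.mpr ⟨_, _, _, h1, h2, h3, rfl⟩
  have := Finset.card_le_univ ({qx, qy, qz} : Finset (Quotient (MulAction.orbitRel K Ω)))
  rw [← Nat.card_eq_fintype_card] at this
  omega

omit [Finite P] [Finite L] in
theorem two_classes {K : Type*} [Group K] {Ω : Type*} [MulAction K Ω] [Finite Ω] (a b : Ω)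
    (h : ∀ x, x ∈ MulAction.orbit K a ∨ x ∈ MulAction.orbit K b) :
    Nat.card (Quotient (MulAction.orbitRel K Ω)) ≤ 2 := by
  classical
  refine le_trans (Nat.card_le_card_of_surjective
    (fun t : Bool => (Quotient.mk'' (if t then a else b) : Quotient (MulAction.orbitRel K Ω))) ?_)
    (by simp)
  intro q
  induction q using Quotient.inductionOn' with
  | h x =>
    rcases h x with hx | hx
    · exact ⟨true, Quotient.sound' (MulAction.orbitRel_apply.mpr
        (MulAction.mem_orbit_symm.mp hx))⟩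
    · exact ⟨false, Quotient.sound' (MulAction.orbitRel_apply.mpr
        (MulAction.mem_orbit_symm.mp hx))⟩

theorem TwoTrans.antiflag (h : TwoTrans π) {C : P} {l m : L} (hl : ¬ π.I C l) (hm : ¬ π.I C m) :
    ∃ g : π.Aut, g • C = C ∧ g • l = m := by
  classical
  set K := MulAction.stabilizer π.Aut C
  obtain ⟨k, hk⟩ := π.exists_line_through C
  obtain ⟨D, -, hD⟩ := π.exists_point_ne k C
  have hP : ∀ x : P, x ∈ MulAction.orbit K C ∨ x ∈ MulAction.orbit K D := by
    intro x
    by_cases hx : x = C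
    · exact Or.inl (hx ▸ MulAction.mem_orbit_self x)
    · obtain ⟨g, h1, h2⟩ := h C D C x (Ne.symm hD) (Ne.symm hx)
      exact Or.inr ⟨⟨g, h1⟩, h2⟩
  have hc := two_classes C D hP
  rw [π.card_orbits_eq K] at hc
  have hno : ∀ j, ¬ π.I C j → j ∉ MulAction.orbit K k := by
    rintro j hj ⟨g, rfl⟩
    apply hj
    have := (smul_I_iff (g : π.Aut) C k).mpr hk
    rwa [show (g : π.Aut) • C = C from g.2] at this
  obtain ⟨g, hg⟩ := same_orbit hc (hno l hl) (hno m hm)
  exact ⟨g, g.2, hg⟩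

theorem TwoTrans.off (h : TwoTrans π) {l : L} {C D : P} (hC : ¬ π.I C l) (hD : ¬ π.I D l) :
    ∃ g : π.Aut, g • l = l ∧ g • C = D := by
  obtain ⟨u, huC, huD⟩ : ∃ u : π.Aut, u • C = D ∧ True := by
    obtain ⟨C', -, hC'⟩ := π.exists_point_ne l C
    obtain ⟨D', -, hD'⟩ := π.exists_point_ne l D
    obtain ⟨u, hu, -⟩ := h C C' D D' (Ne.symm hC') (Ne.symm hD')
    exact ⟨u, hu, trivial⟩
  have hul : ¬ π.I D (u • l) := by rw [← huC, smul_I_iff]; exact hC
  obtain ⟨g, hg, hgl⟩ := h.antiflag hul hD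
  exact ⟨g * u, by rw [mul_smul, hgl], by rw [mul_smul, huC, hg]⟩

theorem TwoTrans.dual (h : TwoTrans π) : TwoTrans π.dual := by
  intro l m l' m' hlm hlm'
  obtain ⟨A, hA⟩ := π.exists_point_on l
  obtain ⟨B, hB⟩ := π.exists_point_on l'
  obtain ⟨u, hu, -⟩ := h.flag hA hB
  have hum : u • m ≠ l' := fun e => hlm (MulAction.injective u (hu.trans e.symm))
  set K := MulAction.stabilizer π.Aut l'
  obtain ⟨C, hC⟩ := π.exists_off l'
  have hP : ∀ x : P, x ∈ MulAction.orbit K B ∨ x ∈ MulAction.orbit K C := by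
    intro x
    by_cases hx : π.I x l'
    · obtain ⟨g, h1, h2⟩ := h.flag hB hx
      exact Or.inl ⟨⟨g, h1⟩, h2⟩
    · obtain ⟨g, h1, h2⟩ := h.off hC hx
      exact Or.inr ⟨⟨g, h1⟩, h2⟩
  have hc := two_classes B C hP
  rw [π.card_orbits_eq K] at hc
  have hno : ∀ j, j ≠ l' → j ∉ MulAction.orbit K l' := by
    rintro j hj ⟨g, rfl⟩
    exact hj g.2
  obtain ⟨g, hg⟩ := same_orbit hc (hno _ hum) (hno _ (Ne.symm hlm'))
  refine ⟨π.flipAut ((g : π.Aut) * u), ?_, ?_⟩
  · show ((g : π.Aut) * u) • l = l'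
    rw [mul_smul, hu]
    exact g.2
  · show ((g : π.Aut) * u) • m = m'
    rw [mul_smul]
    exact hg

/-- The order of a two point stabiliser. -/
theorem TwoTrans.card_pair (h : TwoTrans π) {A B : P} (hAB : A ≠ B) :
    Nat.card π.Aut =
      (π.n * π.n + π.n + 1) * (π.n * (π.n + 1)) * Nat.card (π.pairFix A B) := by
  classical
  have h1 := card_orbit_mul_stab (K := π.Aut) A
  have ho : MulAction.orbit π.Aut A = Set.univ := by
    refine Set.eq_univ_of_forall fun x => ?_
    by_cases hx : x = A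
    · exact hx ▸ MulAction.mem_orbit_self x
    · obtain ⟨g, hg, -⟩ := h A B x A hAB hx
      exact ⟨g, hg⟩
  rw [ho, Nat.card_univ, π.card_P] at h1
  set K := MulAction.stabilizer π.Aut A
  have h2 := card_orbit_mul_stab (K := K) B
  have ho2 : MulAction.orbit K B = {x | x ≠ A} := by
    ext x
    constructor
    · rintro ⟨g, rfl⟩ e
      exact hAB ((MulAction.injective (g : π.Aut)) (g.2.trans e.symm))
    · intro hx
      obtain ⟨g, h1, h2⟩ := h A B A x hAB (Ne.symm hx)
      exact ⟨⟨g, h1⟩, h2⟩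
  have hc : Nat.card ({x | x ≠ A} : Set P) = π.n * (π.n + 1) := by
    have := Fintype.ofFinite P
    rw [Set.coe_ofPred, Nat.card_eq_fintype_card, Fintype.card_subtype_compl,
      Fintype.card_subtype_eq, ← Nat.card_eq_fintype_card, π.card_P]
    have : π.n * (π.n + 1) = π.n * π.n + π.n := by ring
    omega
  have hs : Nat.card (MulAction.stabilizer K B) = Nat.card (π.pairFix A B) :=
    Nat.card_congr ⟨fun g => ⟨g.1.1, g.1.2, g.2⟩, fun g => ⟨⟨g.1, g.2.1⟩, g.2.2⟩,
      fun _ => rfl, fun _ => rfl⟩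
  rw [ho2, hc, hs] at h2
  rw [← h1, ← h2]
  ring

/-- The stabiliser of a line and of a point off it is transitive on the line. -/
theorem TwoTrans.off_trans (h : TwoTrans π) {g : L} {C X Y : P} (hC : ¬ π.I C g) (hX : π.I X g)
    (hY : π.I Y g) : ∃ u : π.Aut, u • g = g ∧ u • C = C ∧ u • X = Y := by
  classical
  set H := MulAction.stabilizer π.Aut g
  set HC := MulAction.stabilizer H C
  have h1 := card_orbit_mul_stab (K := H) C
  have h2 := card_orbit_mul_stab (K := H) X
  have hoC : MulAction.orbit H C = {x | ¬ π.I x g} := by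
    ext x
    constructor
    · rintro ⟨u, rfl⟩ e
      apply hC
      rw [← smul_I_iff (u : π.Aut), show (u : π.Aut) • g = g from u.2]
      exact e
    · intro hx
      obtain ⟨u, h1, h2⟩ := h.off hC hx
      exact ⟨⟨u, h1⟩, h2⟩
  have hoX : MulAction.orbit H X = {x | π.I x g} := by
    ext x
    constructor
    · rintro ⟨u, rfl⟩
      show π.I ((u : π.Aut) • X) g
      conv => rhs; rw [← (show (u : π.Aut) • g = g from u.2)]
      exact (smul_I_iff _ _ _).mpr hX
    · intro hx
      obtain ⟨u, h1, h2⟩ := h.flag hX hx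
      exact ⟨⟨u, h1⟩, h2⟩
  rw [hoC, Set.coe_ofPred, π.card_off g] at h1
  rw [hoX, Set.coe_ofPred, π.card_line g] at h2
  have h3 := card_orbit_mul_stab (K := HC) X
  have h4 := card_orbit_mul_stab (K := MulAction.stabilizer H X) C
  have hs : Nat.card (MulAction.stabilizer HC X) =
      Nat.card (MulAction.stabilizer (MulAction.stabilizer H X) C) :=
    Nat.card_congr ⟨fun u => ⟨⟨u.1.1, u.2⟩, u.1.2⟩, fun u => ⟨⟨u.1.1, u.2⟩, u.1.2⟩,
      fun _ => rfl, fun _ => rfl⟩
  set o := Nat.card (MulAction.orbit HC X) with ho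
  set o' := Nat.card (MulAction.orbit (MulAction.stabilizer H X) C)
  set s := Nat.card (MulAction.stabilizer HC X)
  rw [← hs] at h4
  have heq : π.n * π.n * o = (π.n + 1) * o' := by
    refine Nat.eq_of_mul_eq_mul_right (Nat.card_pos : 0 < s) ?_
    calc π.n * π.n * o * s = π.n * π.n * (o * s) := by ring
      _ = Nat.card H := by rw [h3]; exact h1
      _ = (π.n + 1) * (o' * s) := by rw [h4]; exact h2.symm
      _ = (π.n + 1) * o' * s := by ring
  have hcop : Nat.Coprime (π.n + 1) (π.n * π.n) := by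
    have : Nat.Coprime (π.n + 1) π.n := by simp
    exact this.mul_right this
  have hdvd : π.n + 1 ∣ o := hcop.dvd_of_dvd_mul_left ⟨o', heq⟩
  have hsub : MulAction.orbit HC X ⊆ {x | π.I x g} := by
    rintro x ⟨u, rfl⟩
    rw [← hoX]
    exact ⟨u.1, rfl⟩
  have hle : o ≤ Nat.card ({x | π.I x g} : Set P) := Nat.card_mono (Set.toFinite _) hsub
  rw [Set.coe_ofPred, π.card_line g] at hle
  have hpos : 0 < o := by
    have : Nonempty (MulAction.orbit HC X) := ⟨⟨X, MulAction.mem_orbit_self X⟩⟩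
    exact Nat.card_pos
  have hoeq : o = π.n + 1 := le_antisymm hle (Nat.le_of_dvd hpos hdvd)
  have hset : MulAction.orbit HC X = {x | π.I x g} := by
    refine Set.eq_of_subset_of_ncard_le hsub ?_
    rw [← Nat.card_coe_set_eq, ← Nat.card_coe_set_eq, Set.coe_ofPred, π.card_line g]
    exact hoeq.ge
  obtain ⟨u, hu⟩ : Y ∈ MulAction.orbit HC X := hset ▸ hY
  exact ⟨u.1.1, u.1.2, u.2, hu⟩

/-- The stabiliser of two points is transitive on the other lines through one of them. -/
theorem TwoTrans.lines_trans (h : TwoTrans π) {B C : P} {g g' : L} (_hBC : B ≠ C)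
    (hg : π.I B g) (hgC : ¬ π.I C g) (hg' : π.I B g') (hgC' : ¬ π.I C g') :
    ∃ u ∈ π.pairFix B C, u • g = g' := by
  obtain ⟨v, hvC, hvg⟩ := h.antiflag hgC hgC'
  have hvB : π.I (v • B) g' := by rw [← hvg, smul_I_iff]; exact hg
  obtain ⟨w, hwg, hwC, hwB⟩ := h.off_trans hgC' hvB hg'
  refine ⟨w * v, ⟨?_, ?_⟩, by rw [mul_smul, hvg, hwg]⟩
  · show (w * v) • B = B
    rw [mul_smul, hwB]
  · show (w * v) • C = C
    rw [mul_smul, hvC, hwC]

end Plane

end Cfsg.Agent.H29.OW
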