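import Mathlib

/-!
The Artin–Zorn theorem for finite division rings with the two Hua identities: such a ring is a
field.
-/

set_option autoImplicit false
set_option linter.unusedSectionVars false
set_option linter.style.haveILetI false

namespace Cfsg.Agent.H29.OW.Artin

/-- Abstract form of the Hua identity. -/
theorem hua {A : Type*} [AddCommGroup A] (L : A → A →+ A) (e : A) (he : e ≠ 0)
    (hadd : ∀ a b x, L (a + b) x = L a x + L b x) (hle : ∀ x, L e x = x)
    (hre : ∀ a, L a e = a) (hinj : ∀ a, a ≠ 0 → Function.Injective (L a))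
    (H : ∀ a c, a ≠ 0 → c ≠ 0 → a + c ≠ 0 →
      ∃ d, ∀ u v t, L a u = t → L c v = t → L d (u + v) = t) :
    ∀ a b s, L a (L b (L a s)) = L (L a (L b a)) s := by
  have h0 : ∀ x, L 0 x = 0 := fun x => by
    have h := hadd 0 0 x
    rw [add_zero] at h
    exact add_eq_left.mp h.symm
  have hsub : ∀ a b x, L (a - b) x = L a x - L b x := fun a b x => by
    rw [eq_sub_iff_add_eq, ← hadd, sub_add_cancel]
  have key : ∀ a b, b ≠ 0 → ∃ d, ∀ s w, L b w = L a s → L d s = L a w := by
    intro a b hb
    by_cases ha : a = 0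
    · exact ⟨0, fun s w _ => by rw [ha, h0, h0]⟩
    by_cases hab : a = b
    · exact ⟨a, fun s w h => by subst hab; rw [hinj a hb h]⟩
    obtain ⟨d, hd⟩ := H a (b - a) ha (sub_ne_zero.mpr (Ne.symm hab)) (by rwa [add_sub_cancel])
    refine ⟨a - d, fun s w h => ?_⟩
    have h1 : L a (s - w) = L (b - a) w := by rw [map_sub, hsub, h]
    have h2 := hd (s - w) w _ h1 rfl
    rw [sub_add_cancel] at h2
    rw [hsub, h2, hsub, h]
    abel
  have inv : ∀ b, b ≠ 0 → ∃ b', b' ≠ 0 ∧ ∀ x, L b' (L b x) = x := by
    intro b hb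
    obtain ⟨d, hd⟩ := key e b hb
    have h1 : ∀ x, L d (L b x) = x := fun x =>
      (hd (L b x) x (hle _).symm).trans (hle x)
    exact ⟨d, fun hd0 => he (by rw [← h1 e, hd0, h0]), h1⟩
  intro a b s
  have : ∃ d, ∀ s, L d s = L a (L b (L a s)) := by
    by_cases hb : b = 0
    · exact ⟨0, fun s => by rw [h0, hb, h0, map_zero]⟩
    obtain ⟨b', hb', hbb⟩ := inv b hb
    obtain ⟨d, hd⟩ := key a b' hb'
    exact ⟨d, fun s => hd s _ (hbb _)⟩
  obtain ⟨d, hd⟩ := this
  have hde : d = L a (L b a) := by rw [← hre d, hd, hre]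
  rw [← hde, hd]

section Alt

variable {A : Type*} [NonAssocRing A]

/-- The associator. -/
def asso (x y z : A) : A := x * y * z - x * (y * z)

/-- An alternative ring satisfying the right Moufang identity. -/
structure IsAlt (A : Type*) [NonAssocRing A] : Prop where
  left : ∀ x y : A, asso x x y = 0
  right : ∀ x y : A, asso y x x = 0
  moufang : ∀ x y z : A, z * x * y * x = z * (x * y * x)

theorem asso_add₁ (x x' y z : A) : asso (x + x') y z = asso x y z + asso x' y z := by
  simp only [asso, add_mul]; abel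

theorem asso_add₂ (x y y' z : A) : asso x (y + y') z = asso x y z + asso x y' z := by
  simp only [asso, add_mul, mul_add]; abel

theorem asso_add₃ (x y z z' : A) : asso x y (z + z') = asso x y z + asso x y z' := by
  simp only [asso, mul_add]; abel

theorem teich (w x y z : A) :
    asso (w * x) y z - asso w (x * y) z + asso w x (y * z) =
      w * asso x y z + asso w x y * z := by
  simp only [asso, mul_sub, sub_mul]; abel

variable (hA : IsAlt A)
include hA

theorem swap₁ (x y z : A) : asso y x z = - asso x y z := by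
  have h := hA.left (x + y) z
  rw [asso_add₁, asso_add₂, asso_add₂, hA.left, hA.left, zero_add, add_zero] at h
  exact eq_neg_of_add_eq_zero_right h

theorem swap₂ (x y z : A) : asso x z y = - asso x y z := by
  have h := hA.right (y + z) x
  rw [asso_add₂, asso_add₃, asso_add₃, hA.right, hA.right, zero_add, add_zero] at h
  exact eq_neg_of_add_eq_zero_right h

theorem cyc (x y z : A) : asso y z x = asso x y z := by
  rw [swap₂ hA y x z, swap₁ hA x y z, neg_neg]

theorem ident (x y z : A) : asso x (x * y) z = asso x y z * x := by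
  have h1 : asso z (x * y) x = - (asso z x y * x) := by
    simp only [asso, sub_mul, neg_sub]
    rw [hA.moufang]
  calc asso x (x * y) z = asso z x (x * y) := cyc hA z x (x * y)
    _ = - asso z (x * y) x := swap₂ hA z (x * y) x
    _ = asso z x y * x := by rw [h1, neg_neg]
    _ = asso x y z * x := by rw [cyc hA z x y]

end Alt

section Words

variable {A : Type*} [NonAssocRing A] (a b : A)

/-- Words in two letters. -/
inductive Word : ℕ → A → Prop
  | fst : Word 1 a
  | snd : Word 1 b
  | mul {i j : ℕ} {u v : A} : Word i u → Word j v → Word (i + j) (u * v)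

variable {a b}

theorem Word.pos {n : ℕ} {w : A} (h : Word a b n w) : 1 ≤ n := by
  induction h with
  | fst => exact le_rfl
  | snd => exact le_rfl
  | mul _ _ ih _ => omega

theorem word_gen {g : A} (hg : g = a ∨ g = b) : Word a b 1 g := by
  rcases hg with rfl | rfl
  · exact Word.fst
  · exact Word.snd

theorem Word.decomp {N : ℕ}
    (hP : ∀ M < N, ∀ i j k u v w, i + j + k = M → Word a b i u → Word a b j v → Word a b k w →
      asso u v w = 0) {n : ℕ} {w : A} (h : Word a b n w) :
    n < N → (n = 1 ∧ (w = a ∨ w = b)) ∨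
      ∃ g w' m, (g = a ∨ g = b) ∧ Word a b m w' ∧ n = 1 + m ∧ w = g * w' := by
  induction h with
  | fst => exact fun _ => Or.inl ⟨rfl, Or.inl rfl⟩
  | snd => exact fun _ => Or.inl ⟨rfl, Or.inr rfl⟩
  | @mul i j u v hu hv ihu _ =>
    intro hn
    have := hv.pos
    rcases ihu (by omega) with ⟨rfl, hg⟩ | ⟨g, u', m, hg, hu', hi, rfl⟩
    · exact Or.inr ⟨u, v, j, hg, hv, rfl, rfl⟩
    · refine Or.inr ⟨g, u' * v, m + j, hg, hu'.mul hv, by omega, ?_⟩
      exact sub_eq_zero.mp (hP (1 + m + j) (by omega) 1 m j g u' v rfl (word_gen hg) hu' hv)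

/-- All associators of words of total length `N` vanish. -/
def Vanish (a b : A) (N : ℕ) : Prop :=
  ∀ i j k u v w, i + j + k = N → Word a b i u → Word a b j v → Word a b k w → asso u v w = 0

variable (hA : IsAlt A)
include hA

theorem gen_starts {N : ℕ} (hP : ∀ M < N, Vanish a b M) {g x y : A} {j k : ℕ}
    (hg : g = a ∨ g = b) (hx : Word a b j x) (hy : Word a b k y) (hN : 1 + (1 + j) + k ≤ N) :
    asso g (g * x) y = 0 := by
  rw [ident hA, hP (1 + j + k) (by omega) 1 j k g x y rfl (word_gen hg) hx hy, zero_mul]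

theorem gen_gen {N : ℕ} (hP : ∀ M < N, Vanish a b M) {g h y : A} {k : ℕ}
    (hg : g = a ∨ g = b) (hh : h = a ∨ h = b) (hy : Word a b k y) (hN : 1 + 1 + k ≤ N) :
    asso g h y = 0 := by
  by_cases hgh : g = h
  · rw [hgh, hA.left]
  have two : ∀ x : A, (x = a ∨ x = b) → x = g ∨ x = h := by
    intro x hx
    rcases hg with rfl | rfl <;> rcases hh with rfl | rfl
    · exact absurd rfl hgh
    · exact hx
    · exact hx.symm
    · exact absurd rfl hgh
  rcases hy.decomp hP (by omega) with ⟨-, hy'⟩ | ⟨c, y', m, hc, hy', hk, rfl⟩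
  · rcases two y hy' with rfl | rfl
    · rw [← cyc hA, ← cyc hA, hA.left]
    · rw [hA.right]
  · rcases two c hc with rfl | rfl
    · rw [swap₂ hA, gen_starts hA hP hg hy' (word_gen hh) (by omega), neg_zero]
    · rw [← cyc hA, gen_starts hA hP hh hy' (word_gen hg) (by omega)]

theorem gen_first {N : ℕ} (hP : ∀ M < N, Vanish a b M) {g x y : A} {j k : ℕ}
    (hg : g = a ∨ g = b) (hx : Word a b j x) (hy : Word a b k y) (hN : 1 + j + k ≤ N) :
    asso g x y = 0 := by
  have hj := hx.pos
  have hk := hy.pos
  rcases hx.decomp hP (by omega) with ⟨-, hx'⟩ | ⟨h, x', m, hh, hx', hjm, rfl⟩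
  · exact gen_gen hA hP hg hx' hy (by omega)
  by_cases hhg : h = g
  · subst hhg; exact gen_starts hA hP hg hx' hy (by omega)
  rcases hy.decomp hP (by omega) with ⟨-, hy'⟩ | ⟨h', y', m', hh', hy', hkm, rfl⟩
  · rw [swap₂ hA, gen_gen hA hP hg hy' hx (by omega), neg_zero]
  by_cases hhg' : h' = g
  · subst hhg'; rw [swap₂ hA, gen_starts hA hP hg hy' hx (by omega), neg_zero]
  have heq : h' = h := by
    rcases hg with rfl | rfl <;> rcases hh with rfl | rfl <;> rcases hh' with rfl | rfl <;>
      first | rfl | exact absurd rfl hhg | exact absurd rfl hhg'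
  subst heq
  -- both start with the same letter, different from `g`
  have := hx'.pos
  have := hy'.pos
  have hw := word_gen (a := a) (b := b) hh'
  have hgw := word_gen (a := a) (b := b) hg
  have h1 : asso h' (x' * (h' * y')) g = 0 := by
    rw [swap₂ hA, gen_gen hA hP hh' hg (hx'.mul (hw.mul hy')) (by omega), neg_zero]
  have h2 : asso h' x' (h' * y' * g) = 0 := by
    rw [sub_eq_zero.mp (hP (1 + m' + 1) (by omega) 1 m' 1 h' y' g rfl hw hy' hgw),
      swap₂ hA, gen_starts hA hP hh' (hy'.mul hgw) hx' (by omega), neg_zero]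
  have h3 := hP (m + (1 + m') + 1) (by omega) m (1 + m') 1 x' (h' * y') g rfl hx' (hw.mul hy') hgw
  have h4 := hP (1 + m + (1 + m')) (by omega) 1 m (1 + m') h' x' (h' * y') rfl hw hx' (hw.mul hy')
  have ht := teich h' x' (h' * y') g
  rw [h1, h2, h3, h4, sub_zero, add_zero, mul_zero, zero_mul, add_zero] at ht
  rwa [cyc hA] at ht

theorem vanish : ∀ N, Vanish a b N := by
  intro N
  induction N using Nat.strong_induction_on with
  | _ N hP =>
    intro i j k u v w hN hu hv hw
    have := hu.pos
    have := hv.pos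
    have := hw.pos
    rcases hu.decomp hP (by omega) with ⟨-, hu'⟩ | ⟨g, u', m, hg, hu', him, rfl⟩
    · exact gen_first hA hP hu' hv hw (by omega)
    have := hu'.pos
    have h1 := gen_first hA hP hg (hu'.mul hv) hw (by omega)
    have h2 := gen_first hA hP hg hu' (hv.mul hw) (by omega)
    have h3 := hP (m + j + k) (by omega) m j k u' v w rfl hu' hv hw
    have h4 := hP (1 + m + j) (by omega) 1 m j g u' v rfl (word_gen hg) hu' hv
    have ht := teich g u' v w
    rwa [h1, h2, h3, h4, sub_zero, add_zero, mul_zero, zero_mul, add_zero] at ht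

end Words

section Gen

variable {A : Type*} [NonAssocRing A]

/-- The subring generated by two elements, as an additive subgroup. -/
def gen (a b : A) : AddSubgroup A :=
  AddSubgroup.closure (insert 1 {w | ∃ n, Word a b n w})

theorem one_mem_gen (a b : A) : (1 : A) ∈ gen a b :=
  AddSubgroup.subset_closure (Set.mem_insert _ _)

theorem fst_mem_gen (a b : A) : a ∈ gen a b :=
  AddSubgroup.subset_closure (Set.mem_insert_of_mem _ ⟨1, Word.fst⟩)

theorem snd_mem_gen (a b : A) : b ∈ gen a b :=
  AddSubgroup.subset_closure (Set.mem_insert_of_mem _ ⟨1, Word.snd⟩)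

theorem mul_mem_gen {a b x y : A} (hx : x ∈ gen a b) (hy : y ∈ gen a b) : x * y ∈ gen a b := by
  induction hx, hy using AddSubgroup.closure_induction₂ with
  | mem u v hu hv =>
    rcases hu with rfl | ⟨i, hu⟩
    · rw [one_mul]; exact AddSubgroup.subset_closure hv
    rcases hv with rfl | ⟨j, hv⟩
    · rw [mul_one]; exact AddSubgroup.subset_closure (Set.mem_insert_of_mem _ ⟨i, hu⟩)
    exact AddSubgroup.subset_closure (Set.mem_insert_of_mem _ ⟨i + j, hu.mul hv⟩)
  | zero_left x _ => rw [zero_mul]; exact zero_mem _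
  | zero_right x _ => rw [mul_zero]; exact zero_mem _
  | add_left x y z _ _ _ h1 h2 => rw [add_mul]; exact add_mem h1 h2
  | add_right y z x _ _ _ h1 h2 => rw [mul_add]; exact add_mem h1 h2
  | neg_left x y _ _ h => rw [neg_mul]; exact neg_mem h
  | neg_right x y _ _ h => rw [mul_neg]; exact neg_mem h

theorem asso_zero_of_mem (hA : IsAlt A) {a b x y z : A} (hx : x ∈ gen a b) (hy : y ∈ gen a b)
    (hz : z ∈ gen a b) : asso x y z = 0 := by
  induction hx using AddSubgroup.closure_induction with
  | mem u hu =>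
    induction hy using AddSubgroup.closure_induction with
    | mem v hv =>
      induction hz using AddSubgroup.closure_induction with
      | mem w hw =>
        rcases hu with rfl | ⟨i, hu⟩
        · simp [asso]
        rcases hv with rfl | ⟨j, hv⟩
        · simp [asso]
        rcases hw with rfl | ⟨k, hw⟩
        · simp [asso]
        exact vanish hA _ i j k u v w rfl hu hv hw
      | zero => simp [asso]
      | add _ _ _ _ h1 h2 => rw [asso_add₃, h1, h2, add_zero]
      | neg x _ h => simp only [asso, mul_neg, sub_eq_zero] at h ⊢; rw [h]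
    | zero => simp [asso]
    | add _ _ _ _ h1 h2 => rw [asso_add₂, h1, h2, add_zero]
    | neg x _ h => simp only [asso, mul_neg, neg_mul, sub_eq_zero] at h ⊢; rw [h]
  | zero => simp [asso]
  | add _ _ _ _ h1 h2 => rw [asso_add₁, h1, h2, add_zero]
  | neg x _ h => simp only [asso, neg_mul, sub_eq_zero] at h ⊢; rw [h]

/-- A finite alternative ring without zero divisors is a field (Artin–Zorn). -/
theorem isField [Finite A] [NoZeroDivisors A] [Nontrivial A] (hA : IsAlt A) :
    (∀ x y z : A, x * y * z = x * (y * z)) ∧ ∀ x y : A, x * y = y * x := by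
  have key : ∀ a b : A, (a * b = b * a) ∧ ∃ c : A, ∀ x ∈ gen a b, x = 0 ∨
      ∀ T : Set A, 1 ∈ T → (∀ y ∈ T, c * y ∈ T) → x ∈ T := by
    intro a b
    letI : Mul (gen a b) := ⟨fun x y => ⟨x.1 * y.1, mul_mem_gen x.2 y.2⟩⟩
    letI : One (gen a b) := ⟨⟨1, one_mem_gen a b⟩⟩
    letI : Ring (gen a b) :=
      { (inferInstance : AddCommGroup (gen a b)), (inferInstance : Mul (gen a b)),
        (inferInstance : One (gen a b)) with
        mul_assoc := fun x y z => Subtype.ext (sub_eq_zero.mp (asso_zero_of_mem hA x.2 y.2 z.2))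
        one_mul := fun x => Subtype.ext (one_mul x.1)
        mul_one := fun x => Subtype.ext (mul_one x.1)
        left_distrib := fun x y z => Subtype.ext (mul_add x.1 y.1 z.1)
        right_distrib := fun x y z => Subtype.ext (add_mul x.1 y.1 z.1)
        zero_mul := fun x => Subtype.ext (zero_mul x.1)
        mul_zero := fun x => Subtype.ext (mul_zero x.1) }
    have : Nontrivial (gen a b) :=
      ⟨⟨0, 1, fun e => zero_ne_one (congrArg Subtype.val e : (0 : A) = 1)⟩⟩
    have : NoZeroDivisors (gen a b) := ⟨fun {x y} h =>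
      (mul_eq_zero.mp (congrArg Subtype.val h : x.1 * y.1 = 0)).imp Subtype.ext Subtype.ext⟩
    have : IsDomain (gen a b) := NoZeroDivisors.to_isDomain _
    letI : Field (gen a b) := (Finite.isDomain_to_isField (gen a b)).toField
    obtain ⟨c, hc⟩ := IsCyclic.exists_monoid_generator (α := (gen a b)ˣ)
    refine ⟨congrArg Subtype.val (mul_comm (⟨a, fst_mem_gen a b⟩ : gen a b) ⟨b, snd_mem_gen a b⟩ :),
      (c : gen a b).1, fun x hx => ?_⟩
    by_cases hx0 : x = 0
    · exact Or.inl hx0
    obtain ⟨n, hn⟩ := Submonoid.mem_powers_iff _ _ |>.mp (hc (Units.mk0 ⟨x, hx⟩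
      (fun e => hx0 (congrArg Subtype.val e))))
    refine Or.inr fun T h1 hT => ?_
    have hpow : ∀ n, (((c ^ n : (gen a b)ˣ) : gen a b) : A) ∈ T := by
      intro n
      induction n with
      | zero => exact h1
      | succ n ih => rw [pow_succ']; exact hT _ ih
    have := hpow n
    rwa [hn] at this
  have hsub : ∀ a b z : A, ∃ c, a ∈ gen c z ∧ b ∈ gen c z := by
    intro a b z
    obtain ⟨-, c, hc⟩ := key a b
    refine ⟨c, ?_, ?_⟩
    · rcases hc a (fst_mem_gen a b) with rfl | h
      · exact zero_mem _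
      · exact h _ (one_mem_gen c z) fun y hy => mul_mem_gen (fst_mem_gen c z) hy
    · rcases hc b (snd_mem_gen a b) with rfl | h
      · exact zero_mem _
      · exact h _ (one_mem_gen c z) fun y hy => mul_mem_gen (fst_mem_gen c z) hy
  refine ⟨fun x y z => ?_, fun x y => ?_⟩
  · obtain ⟨c, hx, hy⟩ := hsub x y z
    exact sub_eq_zero.mp (asso_zero_of_mem hA hx hy (snd_mem_gen c z))
  · exact (key x y).1

end Gen


section Hua

variable {A : Type*} [NonAssocRing A] [Finite A] [NoZeroDivisors A] [Nontrivial A]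

/-- A finite ring without zero divisors satisfying the two Hua hypotheses is a field. -/
theorem field_of_hua
    (HL : ∀ a c : A, a ≠ 0 → c ≠ 0 → a + c ≠ 0 →
      ∃ d, ∀ u v t, a * u = t → c * v = t → d * (u + v) = t)
    (HR : ∀ a c : A, a ≠ 0 → c ≠ 0 → a + c ≠ 0 →
      ∃ d, ∀ u v t, u * a = t → v * c = t → (u + v) * d = t) :
    (∀ x y z : A, x * y * z = x * (y * z)) ∧ ∀ x y : A, x * y = y * x := by
  have hl := hua (fun a => AddMonoidHom.mulLeft a) (1 : A) one_ne_zero
    (fun a b x => add_mul a b x) (fun x => one_mul x) (fun a => mul_one a)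
    (fun a ha u v h => by
      have h' : a * (u - v) = 0 := by rw [mul_sub]; exact sub_eq_zero.mpr h
      exact sub_eq_zero.mp ((mul_eq_zero.mp h').resolve_left ha)) HL
  have hr := hua (fun a => AddMonoidHom.mulRight a) (1 : A) one_ne_zero
    (fun a b x => mul_add x a b) (fun x => mul_one x) (fun a => one_mul a)
    (fun a ha u v h => by
      have h' : (u - v) * a = 0 := by rw [sub_mul]; exact sub_eq_zero.mpr h
      exact sub_eq_zero.mp ((mul_eq_zero.mp h').resolve_right ha)) HR
  simp only [AddMonoidHom.coe_mulLeft, AddMonoidHom.mulRight_apply] at hl hr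
  refine isField ⟨fun x y => ?_, fun x y => ?_, fun x y z => hr x y z⟩
  · have := hl x 1 y
    simp only [one_mul] at this
    rw [asso, sub_eq_zero, this]
  · have := hr x 1 y
    simp only [mul_one] at this
    rw [asso, sub_eq_zero, this]

end Hua

end Cfsg.Agent.H29.OW.Artin
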