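import Cfsg.Agent.H29.OW.Translation
import Cfsg.Agent.H29.OW.Artin

/-!
The coordinate ring of a finite Moufang plane is a field.
-/

set_option autoImplicit false
set_option linter.unusedSectionVars false
set_option linter.style.haveILetI false

namespace Cfsg.Agent.H29.OW

namespace Plane

variable {P : Type*} {L : Type*} {π : Plane P L} [Finite P] [Finite L]

namespace Coords

variable {A : Type*} [AddCommGroup A] (C : Coords π A)

theorem pt_ne_dir (x y a : A) : C.pt x y ≠ C.dir a := fun h => C.pt_off x y (h ▸ C.dir_on a)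

theorem pt_ne_Y (x y : A) : C.pt x y ≠ C.Y := fun h => C.pt_off x y (h ▸ C.hY)

/-- The line of slope `a` through `pt 0 t`. -/
noncomputable def ln (a t : A) : L := Classical.choose (C.line a t)

theorem ln_dir (a t : A) : π.I (C.dir a) (C.ln a t) := (Classical.choose_spec (C.line a t)).1

theorem ln_pt (a t x y : A) : π.I (C.pt x y) (C.ln a t) ↔ y = C.mul a x + t :=
  (Classical.choose_spec (C.line a t)).2 x y

theorem ln_mem (a x y : A) : π.I (C.pt x y) (C.ln a (y - C.mul a x)) :=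
  (C.ln_pt _ _ _ _).mpr (by abel)

/-- The vertical line at `c`. -/
noncomputable def vl (c : A) : L := Classical.choose (C.vert c)

theorem vl_Y (c : A) : π.I C.Y (C.vl c) := (Classical.choose_spec (C.vert c)).1

theorem vl_pt (c x y : A) : π.I (C.pt x y) (C.vl c) ↔ x = c :=
  (Classical.choose_spec (C.vert c)).2 x y

theorem ln_ne_linf (a t : A) : C.ln a t ≠ C.linf := fun h =>
  C.pt_off 0 t (h ▸ (C.ln_pt a t 0 t).mpr (by simp))

theorem vl_ne_linf (c : A) : C.vl c ≠ C.linf := fun h =>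
  C.pt_off c 0 (h ▸ (C.vl_pt c c 0).mpr rfl)

theorem dir_inj {a b : A} (h : C.dir a = C.dir b) : a = b := by
  have e : C.ln a 0 = C.ln b 0 := line_eq (C.pt_ne_dir 0 0 a) ((C.ln_pt _ _ _ _).mpr (by simp))
    (C.ln_dir a 0) ((C.ln_pt _ _ _ _).mpr (by simp)) (h ▸ C.ln_dir b 0)
  have h1 : π.I (C.pt C.one a) (C.ln b 0) := e ▸ (C.ln_pt _ _ _ _).mpr (by simp [C.mul_one])
  simpa [C.mul_one] using (C.ln_pt _ _ _ _).mp h1

theorem dir_mem_ln {b a t : A} (h : π.I (C.dir b) (C.ln a t)) : b = a :=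
  C.dir_inj (point_eq (C.ln_ne_linf a t) h (C.ln_dir a t) (C.dir_on b) (C.dir_on a))

theorem Y_not_mem_ln (a t : A) : ¬ π.I C.Y (C.ln a t) := fun h =>
  C.dir_ne a (point_eq (C.ln_ne_linf a t) (C.ln_dir a t) h (C.dir_on a) C.hY)

theorem dir_not_mem_vl (a c : A) : ¬ π.I (C.dir a) (C.vl c) := fun h =>
  C.dir_ne a (point_eq (C.vl_ne_linf c) h (C.vl_Y c) (C.dir_on a) C.hY)

theorem point_cases (p : P) :
    (∃ x y, p = C.pt x y) ∨ (∃ a, p = C.dir a) ∨ p = C.Y := by
  by_cases h : π.I p C.linf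
  · by_cases h' : p = C.Y
    · exact Or.inr (Or.inr h')
    · obtain ⟨a, ha⟩ := C.dir_surj p h h'
      exact Or.inr (Or.inl ⟨a, ha.symm⟩)
  · obtain ⟨x, y, e⟩ := C.pt_surj p h
    exact Or.inl ⟨x, y, e.symm⟩

theorem line_cases (l : L) :
    l = C.linf ∨ (∃ a t, l = C.ln a t) ∨ ∃ c, l = C.vl c := by
  by_cases hl : l = C.linf
  · exact Or.inl hl
  obtain ⟨p, hp, hpQ⟩ := π.exists_point_ne l (π.meet l C.linf)
  have hoff : ¬ π.I p C.linf := fun h => hpQ (meet_eq hl hp h).symm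
  obtain ⟨x, y, rfl⟩ := C.pt_surj p hoff
  by_cases hY : π.meet l C.linf = C.Y
  · refine Or.inr (Or.inr ⟨x, ?_⟩)
    exact line_eq (C.pt_ne_Y x y) hp (hY ▸ π.meet_left l C.linf) ((C.vl_pt _ _ _).mpr rfl)
      (C.vl_Y x)
  · obtain ⟨a, ha⟩ := C.dir_surj _ (π.meet_right l C.linf) hY
    refine Or.inr (Or.inl ⟨a, y - C.mul a x, ?_⟩)
    exact line_eq (C.pt_ne_dir x y a) hp (ha ▸ π.meet_left l C.linf) (C.ln_mem a x y)
      (C.ln_dir _ _)

theorem smul_linf_pt {σ : π.Aut} (h : σ • C.linf = C.linf) (x y : A) :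
    ∃ x' y', σ • C.pt x y = C.pt x' y' := by
  obtain ⟨x', y', e⟩ := C.pt_surj (σ • C.pt x y) (fun hc => C.pt_off x y
    ((smul_I_iff σ _ _).mp (by rwa [h])))
  exact ⟨x', y', e.symm⟩

variable (hm : IsMoufang π)
include hm

/-- Shears: multiplication is additive in the first argument. -/
theorem mul_add_left (a b x : A) :
    C.mul (a + b) x = C.mul a x + C.mul b x := by
  have hoY : π.I C.Y (C.vl 0) := C.vl_Y 0
  obtain ⟨σ, hax, hce, hσ⟩ := hm C.Y (C.vl 0) hoY C.linf C.hY (Ne.symm (C.vl_ne_linf 0))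
    (C.dir 0) (C.dir a) (C.dir_on 0) (C.dir_ne 0) (C.dir_on a) (C.dir_ne a)
  have hlinf : σ • C.linf = C.linf := hce _ C.hY
  have h0y : ∀ y, σ • C.pt 0 y = C.pt 0 y := fun y => hax _ ((C.vl_pt _ _ _).mpr rfl)
  have himg : ∀ x y, σ • C.pt x y = C.pt x (C.mul a x + y) := by
    intro x y
    obtain ⟨x', y', e⟩ := C.smul_linf_pt hlinf x y
    have hx : x' = x := by
      have := (smul_I_iff σ _ _).mpr ((C.vl_pt x x y).mpr rfl)
      rw [e, hce _ (C.vl_Y x)] at this
      exact (C.vl_pt _ _ _).mp this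
    subst hx
    rw [e]
    have h1 : σ • C.ln 0 y = C.ln a y := by
      refine line_eq (C.pt_ne_dir 0 y a) ?_ ?_ ((C.ln_pt _ _ _ _).mpr (by simp)) (C.ln_dir a y)
      · rw [← h0y y]; exact (smul_I_iff σ _ _).mpr ((C.ln_pt _ _ _ _).mpr (by simp))
      · rw [← hσ]; exact (smul_I_iff σ _ _).mpr (C.ln_dir 0 y)
    have h2 := (smul_I_iff σ _ _).mpr ((C.ln_pt 0 y x' y).mpr (by rw [C.zero_mul, zero_add]))
    rw [e, h1] at h2
    rw [(C.ln_pt _ _ _ _).mp h2]
  -- the image of the line of slope `b` through the origin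
  obtain ⟨d, hd⟩ : ∃ d, ∀ x, C.mul d x = C.mul a x + C.mul b x := by
    rcases C.line_cases (σ • C.ln b 0) with h | ⟨d, t, h⟩ | ⟨c, h⟩
    · exact absurd (MulAction.injective σ (h.trans hlinf.symm)) (C.ln_ne_linf b 0)
    · have h00 : t = 0 := by
        have := (smul_I_iff σ _ _).mpr ((C.ln_pt b 0 0 0).mpr (by simp))
        rw [h, h0y, C.ln_pt] at this
        simpa using this.symm
      subst h00
      refine ⟨d, fun x => ?_⟩
      have := (smul_I_iff σ _ _).mpr ((C.ln_pt b 0 x (C.mul b x)).mpr (by simp))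
      rw [h, himg, C.ln_pt] at this
      simpa using this.symm
    · exfalso
      have h1 := (smul_I_iff σ _ _).mpr ((C.ln_pt b 0 0 0).mpr (by simp))
      have h2 := (smul_I_iff σ _ _).mpr ((C.ln_pt b 0 C.one b).mpr (by simp [C.mul_one]))
      rw [h, h0y, C.vl_pt] at h1
      rw [h, himg, C.vl_pt] at h2
      exact C.one_ne (h2.trans h1.symm)
  have hab : d = a + b := by
    have := hd C.one
    rwa [C.mul_one, C.mul_one, C.mul_one] at this
  rw [← hab, hd]

omit hm in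
theorem eq_zero_or {a x : A} (h : C.mul a x = 0) : a = 0 ∨ x = 0 := by
  by_contra hc
  push Not at hc
  have e : C.ln a 0 = C.ln 0 0 := line_eq
    (fun e => hc.2 (C.pt_inj e).1.symm) ((C.ln_pt a 0 0 0).mpr (by simp))
    ((C.ln_pt a 0 x 0).mpr (by simp [h])) ((C.ln_pt 0 0 0 0).mpr (by simp))
    ((C.ln_pt 0 0 x 0).mpr (by simp [C.zero_mul]))
  exact hc.1 (C.dir_mem_ln (e ▸ C.ln_dir a 0))

/-- The left Hua hypothesis, from an elation with centre `dir 0`. -/
theorem hua_left (a c : A) (hc : c ≠ 0) (hac : a + c ≠ 0) :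
    ∃ d, ∀ u v t, C.mul a u = t → C.mul c v = t → C.mul d (u + v) = t := by
  obtain ⟨σ, hax, hce, hσ⟩ := hm (C.dir 0) (C.ln 0 0) (C.ln_dir 0 0) C.linf (C.dir_on 0)
    (Ne.symm (C.ln_ne_linf 0 0)) C.Y (C.dir c) C.hY (Ne.symm (C.dir_ne 0)) (C.dir_on c)
    (fun e => hc (C.dir_inj e))
  have hlinf : σ • C.linf = C.linf := hce _ (C.dir_on 0)
  have hx0 : ∀ x, σ • C.pt x 0 = C.pt x 0 := fun x => hax _ ((C.ln_pt _ _ _ _).mpr (by simp [C.zero_mul]))
  have himg : ∀ s t, ∃ s', σ • C.pt s t = C.pt s' t ∧ C.mul c (s' - s) = t := by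
    intro s t
    obtain ⟨s', t', e⟩ := C.smul_linf_pt hlinf s t
    have ht : t' = t := by
      have := (smul_I_iff σ _ _).mpr ((C.ln_pt 0 t s t).mpr (by simp [C.zero_mul]))
      rw [e, hce _ (C.ln_dir 0 t), C.ln_pt, C.zero_mul, zero_add] at this
      exact this
    subst ht
    refine ⟨s', e, ?_⟩
    have h1 : σ • C.vl s = C.ln c (0 - C.mul c s) := by
      refine line_eq (C.pt_ne_dir s 0 c) ?_ ?_ (C.ln_mem c s 0) (C.ln_dir _ _)
      · rw [← hx0]; exact (smul_I_iff σ _ _).mpr ((C.vl_pt _ _ _).mpr rfl)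
      · rw [← hσ]; exact (smul_I_iff σ _ _).mpr (C.vl_Y s)
    have h2 := (smul_I_iff σ _ _).mpr ((C.vl_pt s s t').mpr rfl)
    rw [e, h1, C.ln_pt, zero_sub, ← sub_eq_add_neg] at h2
    rw [map_sub, h2]
  -- image of a point on the line of slope `a` through the origin
  have hpt : ∀ u v t, C.mul a u = t → C.mul c v = t →
      π.I (C.pt (u + v) t) (σ • C.ln a 0) := by
    intro u v t hu hv
    obtain ⟨s', e, hs⟩ := himg u t
    have hs' : s' = u + v := by
      have h2 : C.mul c (s' - u - v) = 0 := by rw [map_sub, hs, hv, sub_self]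
      have h3 := (C.eq_zero_or h2).resolve_left hc
      exact sub_eq_zero.mp ((by abel : s' - (u + v) = s' - u - v).trans h3)
    rw [← hs', ← e]
    exact (smul_I_iff σ _ _).mpr ((C.ln_pt _ _ _ _).mpr (by simp [hu]))
  have h00 : π.I (C.pt 0 0) (σ • C.ln a 0) := by
    have := hpt 0 0 0 (map_zero _) (map_zero _)
    rwa [add_zero] at this
  rcases C.line_cases (σ • C.ln a 0) with h | ⟨d, t₀, h⟩ | ⟨x₀, h⟩
  · exact absurd (MulAction.injective σ (h.trans hlinf.symm)) (C.ln_ne_linf a 0)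
  · rw [h, C.ln_pt, map_zero, zero_add] at h00
    refine ⟨d, fun u v t hu hv => ?_⟩
    have := hpt u v t hu hv
    rw [h, C.ln_pt, ← h00, add_zero] at this
    exact this.symm
  · exfalso
    rw [h, C.vl_pt] at h00
    obtain ⟨s', e, hs⟩ := himg C.one a
    have h1 : π.I (C.pt s' a) (σ • C.ln a 0) := by
      rw [← e]; exact (smul_I_iff σ _ _).mpr ((C.ln_pt _ _ _ _).mpr (by simp [C.mul_one]))
    rw [h, C.vl_pt, ← h00] at h1
    rw [h1, zero_sub, map_neg, C.mul_one] at hs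
    exact hac (by rw [← hs, neg_add_cancel])

/-- The right Hua hypothesis, from an elation with centre the origin. -/
theorem hua_right (hadd : ∀ a b x, C.mul (a + b) x = C.mul a x + C.mul b x)
    (a c : A) (hc : c ≠ 0) (hac : a + c ≠ 0) :
    ∃ d, ∀ u v t, C.mul u a = t → C.mul v c = t → C.mul (u + v) d = t := by
  have hneg : ∀ w x, C.mul (-w) x = - C.mul w x := fun w x =>
    eq_neg_of_add_eq_zero_left (by rw [← hadd, neg_add_cancel, C.zero_mul])
  have hO0 : π.I (C.pt 0 0) (C.vl 0) := (C.vl_pt _ _ _).mpr rfl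
  have hOx : π.I (C.pt 0 0) (C.ln 0 0) := (C.ln_pt _ _ _ _).mpr (by simp)
  have hk : C.ln 0 0 ≠ C.vl 0 := fun e => C.Y_not_mem_ln 0 0 (e ▸ C.vl_Y 0)
  obtain ⟨σ, hax, hce, hσ⟩ := hm (C.pt 0 0) (C.vl 0) hO0 (C.ln 0 0) hOx hk (C.dir 0) (C.pt c 0)
    (C.ln_dir 0 0) (Ne.symm (C.pt_ne_dir 0 0 0)) ((C.ln_pt _ _ _ _).mpr (by simp [C.zero_mul]))
    (fun e => hc (C.pt_inj e).1)
  have hY : σ • C.Y = C.Y := hax _ (C.vl_Y 0)
  have hlinf : σ • C.linf = C.vl c := by
    refine line_eq (C.pt_ne_Y c 0) ?_ ?_ ((C.vl_pt _ _ _).mpr rfl) (C.vl_Y c)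
    · rw [← hσ]; exact (smul_I_iff σ _ _).mpr (C.dir_on 0)
    · rw [← hY]; exact (smul_I_iff σ _ _).mpr C.hY
  have hdir : ∀ w, σ • C.dir w = C.pt c (C.mul w c) := by
    intro w
    have h1 : π.I (σ • C.dir w) (C.vl c) := hlinf ▸ (smul_I_iff σ _ _).mpr (C.dir_on w)
    have h2 : π.I (σ • C.dir w) (C.ln w 0) := by
      conv => rhs; rw [← hce _ ((C.ln_pt w 0 0 0).mpr (by simp))]
      exact (smul_I_iff σ _ _).mpr (C.ln_dir w 0)
    have hne : C.ln w 0 ≠ C.vl c := fun e => C.Y_not_mem_ln w 0 (e ▸ C.vl_Y c)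
    exact point_eq hne h2
      ((C.ln_pt _ _ _ _).mpr (by simp)) h1 ((C.vl_pt _ _ _).mpr rfl)
  -- the image of the line of slope `w` through `pt 0 t`
  have hline : ∀ w t, ∃ m, σ • C.ln w t = C.ln m t ∧ C.mul m c + t = C.mul w c := by
    intro w t
    have h1 : π.I (C.pt 0 t) (σ • C.ln w t) := by
      rw [← hax (C.pt 0 t) ((C.vl_pt _ _ _).mpr rfl)]
      exact (smul_I_iff σ _ _).mpr ((C.ln_pt _ _ _ _).mpr (by simp))
    have h2 : π.I (C.pt c (C.mul w c)) (σ • C.ln w t) :=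
      hdir w ▸ (smul_I_iff σ _ _).mpr (C.ln_dir w t)
    rcases C.line_cases (σ • C.ln w t) with h | ⟨m, t', h⟩ | ⟨x₀, h⟩
    · exact absurd (h ▸ h1) (C.pt_off 0 t)
    · rw [h, C.ln_pt, map_zero, zero_add] at h1
      subst h1
      rw [h, C.ln_pt] at h2
      exact ⟨m, h, h2.symm⟩
    · rw [h, C.vl_pt] at h1 h2
      exact absurd (h2.trans h1.symm) hc
  have key : ∀ u v t, C.mul u a = t → C.mul v c = t →
      π.I (σ • C.pt a 0) (C.ln (-(u + v)) t) := by
    intro u v t hu hv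
    obtain ⟨m, hm', hmc⟩ := hline (-u) t
    have hm2 : m = -(u + v) := by
      have h2 : C.mul (m + (u + v)) c = 0 := by
        rw [hadd, hadd, hv, ← add_assoc, add_right_comm, hmc, hneg, neg_add_cancel]
      exact eq_neg_of_add_eq_zero_left ((C.eq_zero_or h2).resolve_right hc)
    rw [← hm2, ← hm']
    exact (smul_I_iff σ _ _).mpr ((C.ln_pt _ _ _ _).mpr (by rw [hneg, hu, neg_add_cancel]))
  have hax' : π.I (σ • C.pt a 0) (C.ln 0 0) := by
    conv => rhs; rw [← hce _ hOx]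
    exact (smul_I_iff σ _ _).mpr ((C.ln_pt _ _ _ _).mpr (by simp [C.zero_mul]))
  rcases C.point_cases (σ • C.pt a 0) with ⟨d, y, h⟩ | ⟨b, h⟩ | h
  · rw [h, C.ln_pt, C.zero_mul, zero_add] at hax'
    subst hax'
    refine ⟨d, fun u v t hu hv => ?_⟩
    have := key u v t hu hv
    rw [h, C.ln_pt, hneg] at this
    exact (neg_add_eq_zero.mp this.symm).symm ▸ rfl
  · exfalso
    rw [h] at hax'
    have hb := C.dir_mem_ln hax'
    subst hb
    -- `u = 1`, `t = a`
    obtain ⟨m, hm', hmc⟩ := hline (-C.one) a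
    have h1 : π.I (σ • C.pt a 0) (σ • C.ln (-C.one) a) :=
      (smul_I_iff σ _ _).mpr ((C.ln_pt _ _ _ _).mpr (by rw [hneg, C.one_mul, neg_add_cancel]))
    rw [hm', h] at h1
    have := C.dir_mem_ln h1
    subst this
    rw [C.zero_mul, zero_add, hneg, C.one_mul] at hmc
    exact hac (by rw [hmc, neg_add_cancel])
  · exact absurd (h ▸ hax') (C.Y_not_mem_ln 0 0)

end Coords

/-- The carrier of the coordinate field. -/
def Carrier (n : ℕ) : Type := Fin n

/-- A finite Moufang plane has coordinates in a field. -/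
theorem exists_field_coords (hm : IsMoufang π) :
    ∃ (F : Type) (_ : Field F) (_ : Fintype F) (C : Coords π F), ∀ a x, C.mul a x = a * x := by
  classical
  obtain ⟨A, i, hfin, ⟨C₀⟩⟩ := exists_coords (π := π) hm
  let e : A ≃ Carrier (Nat.card A) := Finite.equivFin A
  have : Finite (Carrier (Nat.card A)) := Finite.of_equiv A e
  letI := e.symm.addCommGroup
  let ea : Carrier (Nat.card A) ≃+ A := { e.symm with map_add' := fun x y => e.symm_apply_apply _ }
  let C : Coords π (Carrier (Nat.card A)) := C₀.map ea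
  letI instR : NonAssocRing (Carrier (Nat.card A)) :=
    { (inferInstance : AddCommGroup (Carrier (Nat.card A))) with
      mul := fun a x => C.mul a x
      one := C.one
      left_distrib := fun a x y => map_add (C.mul a) x y
      right_distrib := fun a b x => C.mul_add_left hm a b x
      zero_mul := C.zero_mul
      mul_zero := fun a => map_zero (C.mul a)
      one_mul := C.one_mul
      mul_one := C.mul_one }
  have hnt : Nontrivial (Carrier (Nat.card A)) := ⟨⟨C.one, 0, C.one_ne⟩⟩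
  have hnz : NoZeroDivisors (Carrier (Nat.card A)) := ⟨fun {a x} h => C.eq_zero_or h⟩
  obtain ⟨hassoc, hcomm⟩ := Artin.field_of_hua (A := Carrier (Nat.card A))
    (fun a c _ hc hac => C.hua_left hm a c hc hac)
    (fun a c _ hc hac => C.hua_right hm (fun a b x => C.mul_add_left hm a b x) a c hc hac)
  letI instC : CommRing (Carrier (Nat.card A)) :=
    { instR with mul_assoc := hassoc, mul_comm := hcomm }
  have : IsDomain (Carrier (Nat.card A)) := NoZeroDivisors.to_isDomain _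
  have : Fintype (Carrier (Nat.card A)) := Fintype.ofFinite _
  exact ⟨_, Fintype.fieldOfDomain (Carrier (Nat.card A)), inferInstance, C, fun a x => rfl⟩

end Plane

end Cfsg.Agent.H29.OW
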