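import Cfsg.Agent.H29.OW.Persp

/-!
The group of elations with a given centre.
-/

set_option autoImplicit false
set_option linter.unusedSectionVars false

namespace Cfsg.Agent.H29.OW

namespace Plane

variable {P : Type*} {L : Type*} (π : Plane P L) [Finite P] [Finite L]

/-- Elations with centre `X`. -/
def elCenter (X : P) : Subgroup π.Aut where
  carrier := {g | π.Center g X ∧ ∃ m, π.I X m ∧ π.Axis g m}
  one_mem' := by
    obtain ⟨m, hm⟩ := π.exists_line_through X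
    exact ⟨fun k _ => one_smul _ k, m, hm, fun p _ => one_smul _ p⟩
  inv_mem' := by
    rintro a ⟨hc, m, hm, ha⟩
    exact ⟨(π.centerSub X).inv_mem hc, m, hm, (π.axisSub m).inv_mem ha⟩
  mul_mem' := by
    rintro a b ⟨hca, m₁, hm₁, ha⟩ ⟨hcb, m₂, hm₂, hb⟩
    have hc : π.Center (a * b) X := (π.centerSub X).mul_mem hca hcb
    refine ⟨hc, ?_⟩
    by_cases ha1 : a = 1
    · subst ha1; exact ⟨m₂, hm₂, by rw [one_mul]; exact hb⟩
    by_cases h12 : m₁ = m₂
    · subst h12; exact ⟨m₁, hm₁, (π.axisSub m₁).mul_mem ha hb⟩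
    obtain ⟨l, hl⟩ := hc.exists_axis
    refine ⟨l, ?_, hl⟩
    by_contra hXl
    set Q := π.meet m₂ l
    have hQ2 : π.I Q m₂ := π.meet_left _ _
    have hQl : π.I Q l := π.meet_right _ _
    have hfa : a • Q = Q := by
      have := hl Q hQl
      rwa [mul_smul, hb Q hQ2] at this
    rcases ha.fixed_cases hca ha1 hfa with h1 | h1
    · exact hXl (by rw [point_eq h12 hm₁ h1 hm₂ hQ2]; exact hQl)
    · exact hXl (by rw [← h1]; exact hQl)

/-- Elations with axis `l`. -/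
def elAxis (l : L) : Subgroup π.Aut := (π.dual.elCenter l).comap π.flipAut.toMonoidHom

variable {π}

theorem mem_elCenter {X : P} {g : π.Aut} :
    g ∈ π.elCenter X ↔ π.Center g X ∧ ∃ m, π.I X m ∧ π.Axis g m := Iff.rfl

theorem mem_elAxis {l : L} {g : π.Aut} :
    g ∈ π.elAxis l ↔ π.Axis g l ∧ ∃ c, π.I c l ∧ π.Center g c := Iff.rfl

theorem mem_elCenter_iff_free {X : P} {g : π.Aut} (hc : π.Center g X) :
    g ∈ π.elCenter X ↔ g = 1 ∨ ∀ k, ¬ π.I X k → g • k ≠ k := by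
  constructor
  · rintro ⟨-, m, hm, ha⟩
    by_contra h
    push Not at h
    obtain ⟨hg, k, hk, hkf⟩ := h
    rcases hc.fixed_cases ha hg hkf with h1 | h1
    · exact hk h1
    · exact hk (h1 ▸ hm)
  · intro h
    obtain ⟨m, ha⟩ := hc.exists_axis
    rcases h with h1 | h1
    · subst h1; exact one_mem _
    · exact ⟨hc, m, by_contra fun hn => h1 m hn ha.line, ha⟩

theorem elCenter_free {X : P} {g : π.Aut} (hg : g ∈ π.elCenter X) {k : L} (hk : ¬ π.I X k)
    (hf : g • k = k) : g = 1 :=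
  ((mem_elCenter_iff_free hg.1).mp hg).resolve_right fun h => h k hk hf

theorem elAxis_free {l : L} {g : π.Aut} (hg : g ∈ π.elAxis l) {p : P} (hp : ¬ π.I p l)
    (hf : g • p = p) : g = 1 :=
  flip_eq_one.mp (elCenter_free (π := π.dual) (g := π.flipAut g) hg hp hf)

theorem mem_elAxis_iff_free {l : L} {g : π.Aut} (ha : π.Axis g l) :
    g ∈ π.elAxis l ↔ g = 1 ∨ ∀ p, ¬ π.I p l → g • p ≠ p :=
  (mem_elCenter_iff_free (π := π.dual) (g := π.flipAut g) ha).trans
    (or_congr flip_eq_one Iff.rfl)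

/-- André: elations with axis `l` act transitively on the centres of homologies with axis `l`. -/
theorem exists_elation_homologies {l : L} {g h : π.Aut} (hg : π.Axis g l) (hh : π.Axis h l)
    (hg1 : g ≠ 1) (hh1 : h ≠ 1) {c d : P} (hc : g • c = c) (hd : h • d = d)
    (hcl : ¬ π.I c l) (hdl : ¬ π.I d l) : ∃ e ∈ π.elAxis l, e • c = d := by
  classical
  let K := π.axisSub l
  have hinv : ∀ (k : K) (p : P), ¬ π.I p l → ¬ π.I ((k : π.Aut) • p) l := by
    intro k p hp hmem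
    have := k.2 _ hmem
    rw [smul_left_cancel_iff] at this
    rw [this] at hmem
    exact hp hmem
  letI : MulAction K {p : P // ¬ π.I p l} :=
    { smul := fun k p => ⟨(k : π.Aut) • p.1, hinv k p.1 p.2⟩
      one_smul := fun p => Subtype.ext (one_smul _ p.1)
      mul_smul := fun a b p => Subtype.ext (mul_smul (a : π.Aut) (b : π.Aut) p.1) }
  have hone : ∀ k : K, k ≠ 1 → ∀ x y : {p : P // ¬ π.I p l}, k • x = x → k • y = y → x = y := by
    intro k hk x y hx hy
    by_contra hne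
    exact hk (Subtype.ext (center_two (k.2.center_of_fixed (congrArg Subtype.val hx) x.2)
      (k.2.center_of_fixed (congrArg Subtype.val hy) y.2) (fun e => hne (Subtype.ext e))))
  obtain ⟨e, heE, he⟩ := exists_mem_smul_eq hone ((π.elAxis l).subgroupOf K)
    (fun k => by
      rw [Subgroup.mem_subgroupOf, mem_elAxis_iff_free k.2]
      refine or_congr ⟨fun e => Subtype.ext e, fun e => congrArg Subtype.val e⟩ ?_
      exact ⟨fun hf x hx => hf x.1 x.2 (congrArg Subtype.val hx),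
        fun hf p hp hpf => hf ⟨p, hp⟩ (Subtype.ext hpf)⟩)
    ⟨c, hcl⟩ ⟨d, hdl⟩
    ⟨⟨g, hg⟩, fun e => hg1 (congrArg Subtype.val e), Subtype.ext hc⟩
    ⟨⟨h, hh⟩, fun e => hh1 (congrArg Subtype.val e), Subtype.ext hd⟩
  exact ⟨e, heE, congrArg Subtype.val he⟩

theorem exists_elation_homologies' {X : P} {g h : π.Aut} (hg : π.Center g X) (hh : π.Center h X)
    (hg1 : g ≠ 1) (hh1 : h ≠ 1) {k m : L} (hk : g • k = k) (hm : h • m = m)
    (hkX : ¬ π.I X k) (hmX : ¬ π.I X m) : ∃ e ∈ π.elCenter X, e • k = m := by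
  obtain ⟨e, he, hem⟩ := exists_elation_homologies (π := π.dual) (g := π.flipAut g)
    (h := π.flipAut h) hg hh (fun e => hg1 (flip_eq_one.mp e)) (fun e => hh1 (flip_eq_one.mp e))
    hk hm hkX hmX
  exact ⟨π.flipAut.symm e, he, hem⟩

theorem elCenter_axis_of_fix {X Y : P} {g : π.Aut} (hg : g ∈ π.elCenter X) (hY : Y ≠ X)
    (hf : g • Y = Y) : π.Axis g (π.join X Y) := by
  by_cases h1 : g = 1
  · subst h1; exact fun p _ => one_smul _ p
  obtain ⟨hc, m, hm, ha⟩ := hg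
  have hYm := (ha.fixed_cases hc h1 hf).resolve_right hY
  rwa [join_eq (Ne.symm hY) hm hYm]

variable (π)

theorem card_elCenter_dvd (X : P) : Nat.card (π.elCenter X) ∣ π.n * π.n := by
  classical
  let E := π.elCenter X
  have hinv : ∀ (k : E) (l : L), ¬ π.I X l → ¬ π.I X ((k : π.Aut) • l) := by
    intro k l hl hmem
    have := k.2.1 _ hmem
    rw [smul_left_cancel_iff] at this
    rw [this] at hmem
    exact hl hmem
  letI : MulAction E {l : L // ¬ π.I X l} :=
    { smul := fun k p => ⟨(k : π.Aut) • p.1, hinv k p.1 p.2⟩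
      one_smul := fun p => Subtype.ext (one_smul _ p.1)
      mul_smul := fun a b p => Subtype.ext (mul_smul (a : π.Aut) (b : π.Aut) p.1) }
  rw [← π.card_not_through X]
  refine dvd_card_of_orbits' (K := E) _ fun l => ?_
  have hst : MulAction.stabilizer E l = ⊥ := by
    rw [eq_bot_iff]
    intro k hk
    exact Subtype.ext (elCenter_free k.2 l.2 (congrArg Subtype.val hk))
  have h := card_orbit_mul_stab (K := E) l
  rw [hst, Subgroup.card_bot, mul_one] at h
  exact dvd_of_eq h.symm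

theorem card_elAxis_eq (l : L) :
    Nat.card (π.elAxis l) = Nat.card (π.dual.elCenter l) :=
  Nat.card_congr (π.flipAut.toEquiv.subtypeEquiv fun _ => Iff.rfl)

theorem odd_card_elCenter (hn : Odd π.n) (X : P) : Odd (Nat.card (π.elCenter X)) :=
  (hn.mul hn).of_dvd_nat (π.card_elCenter_dvd X)

variable {π}

/-- Orbits of the elations with centre `X` on a line through `X`. -/
theorem elCenter_orbit {X Y : P} {g : L} (hXg : π.I X g) (hYg : π.I Y g) (hYX : Y ≠ X) :
    Nat.card (MulAction.orbit (π.elCenter X) Y) ∣ π.n ∧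
    Nat.card (MulAction.orbit (π.elCenter X) Y) *
      Nat.card ↥(π.elCenter X ⊓ π.axisSub g) = Nat.card (π.elCenter X) := by
  classical
  let E := π.elCenter X
  have hcard : ∀ Z, π.I Z g → Z ≠ X →
      Nat.card (MulAction.orbit E Z) * Nat.card ↥(E ⊓ π.axisSub g) = Nat.card E := by
    intro Z hZ hZX
    rw [← card_orbit_mul_stab (K := E) Z]
    congr 1
    refine Nat.card_congr
      ⟨fun k => ⟨⟨k.1, k.2.1⟩, k.2.2 Z hZ⟩, fun k => ⟨k.1.1, k.1.2, ?_⟩, fun _ => rfl, fun _ => rfl⟩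
    have := elCenter_axis_of_fix k.1.2 hZX k.2
    rwa [join_eq (Ne.symm hZX) hXg hZ] at this
  refine ⟨?_, hcard Y hYg hYX⟩
  have hinv : ∀ (k : E) (p : P), π.I p g ∧ p ≠ X →
      π.I ((k : π.Aut) • p) g ∧ (k : π.Aut) • p ≠ X := by
    rintro k p ⟨hp, hpX⟩
    refine ⟨?_, fun e => hpX ?_⟩
    · conv_rhs => rw [← k.2.1 g hXg]
      exact (smul_I_iff _ _ _).mpr hp
    · rw [← k.2.1.point] at e
      exact MulAction.injective _ e
  letI inst : MulAction E {p : P // π.I p g ∧ p ≠ X} :=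
    { smul := fun k p => ⟨(k : π.Aut) • p.1, hinv k p.1 p.2⟩
      one_smul := fun p => Subtype.ext (one_smul _ p.1)
      mul_smul := fun a b p => Subtype.ext (mul_smul (a : π.Aut) (b : π.Aut) p.1) }
  rw [← π.card_punctured g X hXg]
  refine dvd_card_of_orbits' (K := E) _ fun p => ?_
  have hs : Nat.card (MulAction.orbit E p) = Nat.card (MulAction.orbit E p.1) := by
    refine Nat.card_congr ⟨fun q => ⟨q.1.1, ?_⟩, fun q => ⟨⟨q.1, ?_⟩, ?_⟩, fun _ => rfl,
      fun _ => rfl⟩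
    · obtain ⟨k, hk⟩ := q.2
      exact ⟨k, congrArg Subtype.val hk⟩
    · obtain ⟨k, hk⟩ := q.2
      rw [← hk]
      exact hinv k p.1 p.2
    · obtain ⟨k, hk⟩ := q.2
      exact ⟨k, Subtype.ext hk⟩
  rw [hs]
  have h1 := hcard p.1 p.2.1 p.2.2
  have h2 := hcard Y hYg hYX
  exact dvd_of_eq (Nat.eq_of_mul_eq_mul_right Nat.card_pos (h2.trans h1.symm))

/-- `elCenter X` has elations with two different axes. -/
def TwoAxes (π : Plane P L) (X : P) : Prop :=
  ∃ a b : π.Aut, ∃ m₁ m₂ : L, a ∈ π.elCenter X ∧ b ∈ π.elCenter X ∧ a ≠ 1 ∧ b ≠ 1 ∧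
    π.Axis a m₁ ∧ π.Axis b m₂ ∧ m₁ ≠ m₂

theorem elation_axis_through {X : P} {g : π.Aut} (hg : g ∈ π.elCenter X) (h1 : g ≠ 1) {m : L}
    (hm : π.Axis g m) : π.I X m := by
  obtain ⟨-, m', hm', ha⟩ := hg
  exact ha.axis_eq hm h1 ▸ hm'

theorem el_commute_ne {X : P} {a b : π.Aut} (ha : a ∈ π.elCenter X) (hb : b ∈ π.elCenter X)
    (ha1 : a ≠ 1) (hb1 : b ≠ 1) {m₁ m₂ : L} (h1 : π.Axis a m₁) (h2 : π.Axis b m₂)
    (hne : m₁ ≠ m₂) : Commute a b := by
  have e1 : π.Axis (a * b * a⁻¹) m₂ := by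
    have := h2.conj a
    rwa [ha.1 _ (elation_axis_through hb hb1 h2)] at this
  have e2 : π.Axis (b * a⁻¹ * b⁻¹) m₁ := by
    have := Axis.conj (g := a⁻¹) ((π.axisSub m₁).inv_mem h1) b
    rwa [hb.1 _ (elation_axis_through ha ha1 h1)] at this
  have f1 : π.Axis (a * b * a⁻¹ * b⁻¹) m₂ :=
    (π.axisSub m₂).mul_mem e1 ((π.axisSub m₂).inv_mem h2)
  have f2 : π.Axis (a * b * a⁻¹ * b⁻¹) m₁ := by
    have := (π.axisSub m₁).mul_mem h1 e2
    rwa [← mul_assoc, ← mul_assoc] at this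
  have h := axis_two f2 f1 hne
  exact mul_inv_eq_iff_eq_mul.mp (mul_inv_eq_one.mp h)

theorem el_pow_ne {X : P} {a b : π.Aut} (ha : a ∈ π.elCenter X) (hb : b ∈ π.elCenter X)
    (ha1 : a ≠ 1) (hb1 : b ≠ 1) {m₁ m₂ : L} (h1 : π.Axis a m₁) (h2 : π.Axis b m₂)
    (hne : m₁ ≠ m₂) {k : ℕ} (hk : a ^ k = 1) : b ^ k = 1 := by
  have hab : a * b ∈ π.elCenter X := mul_mem ha hb
  obtain ⟨-, m₃, -, h3⟩ := hab
  have hn2 : m₃ ≠ m₂ := by
    intro e
    subst e
    have := (π.axisSub m₃).mul_mem h3 ((π.axisSub m₃).inv_mem h2)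
    rw [mul_inv_cancel_right] at this
    exact ha1 (axis_two h1 this hne)
  have e3 : π.Axis ((a * b) ^ k) m₃ := (π.axisSub m₃).pow_mem h3 k
  rw [(el_commute_ne ha hb ha1 hb1 h1 h2 hne).mul_pow, hk, one_mul] at e3
  exact axis_two e3 ((π.axisSub m₂).pow_mem h2 k) hn2

theorem TwoAxes.structure {X : P} (h : TwoAxes π X) :
    ∃ p : ℕ, p.Prime ∧ (∀ g ∈ π.elCenter X, g ^ p = 1) ∧ IsPGroup p (π.elCenter X) ∧
      ∀ g ∈ π.elCenter X, ∀ k ∈ π.elCenter X, Commute g k := by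
  obtain ⟨a, b, m₁, m₂, ha, hb, ha1, hb1, h1, h2, hne⟩ := h
  have cross : ∀ {g k : π.Aut} {m m' : L}, g ∈ π.elCenter X → k ∈ π.elCenter X → g ≠ 1 → k ≠ 1 →
      π.Axis g m → π.Axis k m' → m ≠ m' → orderOf g = orderOf k := by
    intro g k m m' hg hk hg1 hk1 hm hm' hmm
    exact Nat.dvd_antisymm
      (orderOf_dvd_of_pow_eq_one
        (el_pow_ne hk hg hk1 hg1 hm' hm (Ne.symm hmm) (pow_orderOf_eq_one k)))
      (orderOf_dvd_of_pow_eq_one (el_pow_ne hg hk hg1 hk1 hm hm' hmm (pow_orderOf_eq_one g)))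
  have all : ∀ g ∈ π.elCenter X, g ≠ 1 → orderOf g = orderOf a := by
    intro g hg hg1
    obtain ⟨-, m, -, hm⟩ := id hg
    by_cases e : m = m₁
    · subst e
      exact (cross hg hb hg1 hb1 hm h2 hne).trans (cross hb ha hb1 ha1 h2 h1 (Ne.symm hne))
    · exact cross hg ha hg1 ha1 hm h1 e
  set p := orderOf a with hp
  have hpp : p.Prime := by
    have hpne : p ≠ 1 := fun e => ha1 (orderOf_eq_one_iff.mp e)
    obtain ⟨q, hq, hqd⟩ := Nat.exists_prime_and_dvd hpne
    have hord : orderOf (a ^ (p / q)) = q :=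
      orderOf_pow_orderOf_div (orderOf_pos a).ne' hqd
    have := all (a ^ (p / q)) (pow_mem ha _) (fun e => hq.one_lt.ne' (by
      rw [← hord, e, orderOf_one]))
    rw [hord] at this
    exact this ▸ hq
  have hexp : ∀ g ∈ π.elCenter X, g ^ p = 1 := by
    intro g hg
    by_cases hg1 : g = 1
    · simp [hg1]
    · rw [← all g hg hg1]; exact pow_orderOf_eq_one g
  refine ⟨p, hpp, hexp, fun g => ⟨1, Subtype.ext (by simpa using hexp g.1 g.2)⟩, ?_⟩
  intro g hg k hk
  by_cases hg1 : g = 1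
  · subst hg1; exact Commute.one_left k
  by_cases hk1 : k = 1
  · subst hk1; exact Commute.one_right g
  obtain ⟨-, m, -, hm⟩ := id hg
  obtain ⟨-, m', -, hm'⟩ := id hk
  by_cases e : m = m'
  swap
  · exact el_commute_ne hg hk hg1 hk1 hm hm' e
  subst e
  obtain ⟨z, mz, hz, hz1, hzm, hmz⟩ : ∃ z mz, z ∈ π.elCenter X ∧ z ≠ 1 ∧ π.Axis z mz ∧ m ≠ mz := by
    by_cases e : m = m₁
    · exact ⟨b, m₂, hb, hb1, h2, e ▸ hne⟩
    · exact ⟨a, m₁, ha, ha1, h1, e⟩
  have hkz : k * z ∈ π.elCenter X := mul_mem hk hz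
  obtain ⟨-, m3, -, h3⟩ := id hkz
  have hkz1 : k * z ≠ 1 := fun e => hz1 (axis_two (g := z) (by
    have := (π.axisSub m).inv_mem hm'
    rw [← eq_inv_of_mul_eq_one_right e] at this
    exact this) hzm hmz)
  have hm3 : m ≠ m3 := by
    intro e
    subst e
    have := (π.axisSub m).mul_mem ((π.axisSub m).inv_mem hm') h3
    rw [inv_mul_cancel_left] at this
    exact hz1 (axis_two this hzm hmz)
  have c1 := el_commute_ne hg hz hg1 hz1 hm hzm hmz
  have c2 := el_commute_ne hg hkz hg1 hkz1 hm h3 hm3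
  have := c2.mul_right c1.inv_right
  rwa [mul_inv_cancel_right] at this

/-- If the elations with one centre have two axes and number at least `n`, then `n` is a prime
power. -/
theorem TwoAxes.isPrimePow {X : P} (h : TwoAxes π X) (hcard : π.n ≤ Nat.card (π.elCenter X)) :
    IsPrimePow π.n := by
  classical
  obtain ⟨p, hp, -, hpg, -⟩ := h.structure
  have : Fact p.Prime := ⟨hp⟩
  obtain ⟨f, hf⟩ := hpg.exists_card_eq
  set a := π.n.factorization p with ha
  have hn0 : π.n ≠ 0 := by have := π.two_le; omega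
  have hdvd : p ^ a ∣ π.n := Nat.ordProj_dvd π.n p
  suffices hna : π.n = p ^ a by
    rw [isPrimePow_nat_iff]
    refine ⟨p, a, hp, ?_, hna.symm⟩
    rcases Nat.eq_zero_or_pos a with h0 | h0
    · rw [h0, pow_zero] at hna
      have := π.two_le
      omega
    · exact h0
  rcases le_or_gt f a with hfa | hfa
  · have h1 : p ^ f ≤ p ^ a := Nat.pow_le_pow_right hp.pos hfa
    have h2 : p ^ a ≤ π.n := Nat.le_of_dvd (by omega) hdvd
    rw [hf] at hcard
    omega
  by_contra hne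
  obtain ⟨r, hr⟩ := hdvd
  have hr2 : 2 ≤ r := by
    rcases r with _ | _ | r
    · simp at hr; omega
    · simp at hr; exact absurd hr hne
    · omega
  set E := π.elCenter X
  have hK : ∀ g : {g : L // π.I X g}, p ^ (f - a) ≤ Nat.card ↥(E ⊓ π.axisSub g.1) := by
    intro g
    obtain ⟨Y, hY, hYX⟩ := π.exists_point_ne g.1 X
    obtain ⟨ho, hoK⟩ := elCenter_orbit g.2 hY hYX
    have hop : Nat.card (MulAction.orbit E Y) ∣ p ^ f := hf ▸ Dvd.intro _ hoK
    obtain ⟨j, -, hj⟩ := (Nat.dvd_prime_pow hp).mp hop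
    have hja : j ≤ a := (hp.pow_dvd_iff_le_factorization hn0).mp (hj ▸ ho)
    rw [hj, hf] at hoK
    have h3 : p ^ f ≤ p ^ a * Nat.card ↥(E ⊓ π.axisSub g.1) := by
      rw [← hoK]
      exact Nat.mul_le_mul_right _ (Nat.pow_le_pow_right hp.pos hja)
    rw [show f = a + (f - a) by omega, pow_add] at h3
    exact Nat.le_of_mul_le_mul_left h3 (pow_pos hp.pos a)
  have := Fintype.ofFinite {g : L // π.I X g}
  let ψ : (Σ g : {g : L // π.I X g}, {x : ↥(E ⊓ π.axisSub g.1) // x ≠ 1}) →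
      {x : E // x ≠ 1} :=
    fun s => ⟨⟨s.2.1.1, s.2.1.2.1⟩, fun e => s.2.2 (Subtype.ext (congrArg Subtype.val e :))⟩
  have hψ : Function.Injective ψ := by
    rintro ⟨g, ⟨x, hx⟩, hx1⟩ ⟨g', ⟨x', hx'⟩, hx1'⟩ he
    have hxx : x = x' := congrArg (fun s : {x : E // x ≠ 1} => s.1.1) he
    subst hxx
    have hgg : g = g' := Subtype.ext (Axis.axis_eq hx.2 hx'.2 (fun e => hx1 (Subtype.ext e)))
    subst hgg
    rfl
  have hle := Nat.card_le_card_of_injective ψ hψ
  have hne1 : ∀ (G : Subgroup π.Aut), Nat.card {x : G // x ≠ 1} = Nat.card G - 1 := by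
    intro G
    have := Fintype.ofFinite G
    rw [Nat.card_eq_fintype_card, Nat.card_eq_fintype_card, Fintype.card_subtype_compl,
      Fintype.card_subtype_eq]
  rw [Nat.card_sigma, hne1, hf] at hle
  have hsum : (π.n + 1) * (p ^ (f - a) - 1) ≤
      ∑ g : {g : L // π.I X g}, Nat.card {x : ↥(E ⊓ π.axisSub g.1) // x ≠ 1} := by
    rw [← π.card_point X, Nat.card_eq_fintype_card, ← smul_eq_mul, ← Finset.card_univ,
      ← Finset.sum_const]
    refine Finset.sum_le_sum fun g _ => ?_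
    rw [hne1]
    have := hK g
    omega
  have hfin := hsum.trans hle
  set q := p ^ (f - a) with hq
  have hq2 : 2 ≤ q := le_trans hp.two_le (Nat.le_self_pow (by omega) p)
  have hpf : p ^ f = p ^ a * q := by rw [hq, ← pow_add]; congr 1; omega
  rw [hpf, hr] at hfin
  clear_value q
  have hpa : 1 ≤ p ^ a := Nat.one_le_pow _ _ hp.pos
  obtain ⟨q', rfl⟩ : ∃ q', q = q' + 2 := ⟨q - 2, by omega⟩
  obtain ⟨r', rfl⟩ : ∃ r', r = r' + 2 := ⟨r - 2, by omega⟩
  rw [show q' + 2 - 1 = q' + 1 by omega] at hfin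
  have h9 : p ^ a * (q' + 2) ≤ (p ^ a * (r' + 2) + 1) * (q' + 1) := by
    nlinarith [Nat.zero_le (p ^ a * r' * q'), Nat.zero_le (p ^ a * r'), Nat.zero_le (p ^ a * q')]
  have h10 : 1 ≤ p ^ a * (q' + 2) := Nat.one_le_iff_ne_zero.mpr (Nat.mul_ne_zero (by omega) (by omega))
  omega

end Plane

end Cfsg.Agent.H29.OW
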