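import Cfsg.Agent.H29.OW.Persp

/-!
A `2`-group of collineations fixing a quadrangle fixes a subplane whose order has the order of the
plane among its `2`-power powers.
-/

set_option autoImplicit false
set_option linter.unusedSectionVars false

namespace Cfsg.Agent.H29.OW

namespace Plane

variable {P : Type*} {L : Type*} {π : Plane P L} [Finite P] [Finite L]

theorem fix_of_zpowers {g : π.Aut} {p : P} (hp : g • p = p) :
    ∀ h ∈ Subgroup.zpowers g, h • p = p := fun _ hh =>
  (Subgroup.zpowers_le.mpr (show g ∈ MulAction.stabilizer π.Aut p from hp)) hh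

theorem fix_of_zpowers_line {g : π.Aut} {l : L} (hl : g • l = l) :
    ∀ h ∈ Subgroup.zpowers g, h • l = l := fun _ hh =>
  (Subgroup.zpowers_le.mpr (show g ∈ MulAction.stabilizer π.Aut l from hl)) hh

theorem le_normalizer_zpowers_of_central {R : Subgroup π.Aut} {z : π.Aut}
    (hzc : ∀ r ∈ R, r * z = z * r) : R ≤ Subgroup.normalizer (Subgroup.zpowers z : Set π.Aut) := by
  intro r hr
  rw [Subgroup.mem_normalizer_iff]
  intro x
  have hcomm : ∀ y ∈ Subgroup.zpowers z, r * y = y * r := fun y hy => by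
    obtain ⟨k, rfl⟩ := Subgroup.mem_zpowers_iff.mp hy
    exact Commute.zpow_right (hzc r hr) k
  constructor
  · intro hx
    rwa [hcomm x hx, mul_inv_cancel_right]
  · intro hx
    have h := hcomm _ hx
    have hx' : r * x * r⁻¹ = x := by
      have h' : r * (r * x * r⁻¹) = r * x := by rw [h, inv_mul_cancel_right]
      exact mul_left_cancel h'
    rwa [hx'] at hx

theorem fixPlane_bot_n (hq : π.FixQuad ⊥) : (π.fixPlane ⊥ hq).n = π.n := by
  obtain ⟨l⟩ := π.nonempty_line
  have hl : ∀ h ∈ (⊥ : Subgroup π.Aut), h • l = l := fun h hh => by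
    rw [Subgroup.mem_bot.mp hh, one_smul]
  have h1 := fixPlane_card_line hq hl
  have h2 : Nat.card {p : P // π.I p l ∧ ∀ h ∈ (⊥ : Subgroup π.Aut), h • p = p} = π.n + 1 := by
    rw [← π.card_line l]
    exact Nat.card_congr ⟨fun p => ⟨p.1, p.2.1⟩,
      fun p => ⟨p.1, p.2, fun h hh => by rw [Subgroup.mem_bot.mp hh, one_smul]⟩,
      fun _ => rfl, fun _ => rfl⟩
  omega

theorem exists_central_involution {G : Type*} [Group G] [Finite G] {R : Subgroup G}
    (hR : IsPGroup 2 R) (hne : R ≠ ⊥) :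
    ∃ z ∈ R, z ≠ 1 ∧ z * z = 1 ∧ ∀ r ∈ R, r * z = z * r := by
  have : Fact (Nat.Prime 2) := ⟨Nat.prime_two⟩
  have : Nontrivial R := (Subgroup.nontrivial_iff_ne_bot R).mpr hne
  have hnt : Nontrivial (Subgroup.center R) := hR.center_nontrivial
  have hdvd : 2 ∣ Nat.card (Subgroup.center R) := by
    obtain ⟨n, hn⟩ := (hR.to_subgroup (Subgroup.center R)).exists_card_eq
    rcases n with _ | n
    · rw [pow_zero] at hn
      exact absurd hn (Finite.one_lt_card.ne')
    · exact hn ▸ dvd_pow_self 2 (Nat.succ_ne_zero n)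
  obtain ⟨z, hz⟩ := exists_prime_orderOf_dvd_card' 2 hdvd
  refine ⟨z.1.1, z.1.2, ?_, ?_, fun r hr => ?_⟩
  · intro e
    have : z = 1 := Subtype.ext (Subtype.ext e)
    rw [this, orderOf_one] at hz
    exact absurd hz (by decide)
  · have := pow_orderOf_eq_one z
    rw [hz, pow_two] at this
    exact congrArg (fun x : Subgroup.center R => x.1.1) this
  · exact congrArg Subtype.val ((Subgroup.mem_center_iff.mp z.2) ⟨r, hr⟩)

universe u v

theorem order_tower_aux : ∀ (N : ℕ) {P : Type u} {L : Type v} [Finite P] [Finite L]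
    (π : Plane P L) (R : Subgroup π.Aut), Nat.card R ≤ N → IsPGroup 2 R →
    ∀ hq : π.FixQuad R, ∃ j, π.n = (π.fixPlane R hq).n ^ (2 ^ j) := by
  intro N
  induction N with
  | zero =>
    intro P L _ _ π R hN
    have : 0 < Nat.card R := Nat.card_pos
    omega
  | succ N ih =>
    intro P L _ _ π R hN hR hq
    by_cases hne : R = ⊥
    · subst hne
      exact ⟨0, by rw [fixPlane_bot_n]; simp⟩
    obtain ⟨z, hzR, hz1, hz2, hzc⟩ := exists_central_involution hR hne
    set Z := Subgroup.zpowers z with hZ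
    have hZR : Z ≤ R := Subgroup.zpowers_le.mpr hzR
    have hqZ : π.FixQuad Z := hq.mono hZR
    have hn := baer_order hz2 hz1 hqZ
    set σ := π.fixPlane Z hqZ with hσ
    have hRN := le_normalizer_zpowers_of_central (π := π) hzc
    let f : R →* σ.Aut := (restrict Z hqZ).comp (Subgroup.inclusion hRN)
    set R' := f.range with hR'
    have hR'p : IsPGroup 2 R' := hR.of_surjective f.rangeRestrict f.rangeRestrict_surjective
    have hlt : Nat.card R' < Nat.card R := by
      refine lt_of_le_of_ne (Nat.card_le_card_of_surjective f.rangeRestrict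
        f.rangeRestrict_surjective) fun e => ?_
      have hbij := f.rangeRestrict_surjective.bijective_of_nat_card_le e.ge
      have h1 : f.rangeRestrict ⟨z, hzR⟩ = f.rangeRestrict 1 := by
        refine Subtype.ext ?_
        show f ⟨z, hzR⟩ = f 1
        rw [map_one]
        apply eq_one_of_fix_points
        intro p
        exact Subtype.ext (p.2 z (Subgroup.mem_zpowers z))
      exact hz1 (congrArg Subtype.val (hbij.injective h1))
    have hq' : σ.FixQuad R' := by
      obtain ⟨a, b, c, d, hquad, hf⟩ := hq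
      refine ⟨⟨a, fun h hh => (hf h (hZR hh)).1⟩, ⟨b, fun h hh => (hf h (hZR hh)).2.1⟩,
        ⟨c, fun h hh => (hf h (hZR hh)).2.2.1⟩, ⟨d, fun h hh => (hf h (hZR hh)).2.2.2⟩, ?_, ?_⟩
      · intro l
        simp only [hσ, fixPlane_I]
        exact hquad l.1
      · rintro _ ⟨r, rfl⟩
        obtain ⟨h1, h2, h3, h4⟩ := hf r r.2
        exact ⟨Subtype.ext h1, Subtype.ext h2, Subtype.ext h3, Subtype.ext h4⟩
    obtain ⟨j, hj⟩ := ih σ R' (by omega) hR'p hq'
    have hk : (σ.fixPlane R' hq').n = (π.fixPlane R hq).n := by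
      obtain ⟨⟨l, hl⟩⟩ := (σ.fixPlane R' hq').nonempty_line
      have hlR : ∀ h ∈ R, h • l.1 = l.1 := fun h hh =>
        congrArg Subtype.val (hl (f ⟨h, hh⟩) ⟨⟨h, hh⟩, rfl⟩)
      have h1 := fixPlane_card_line hq' hl
      have h2 := fixPlane_card_line hq hlR
      have e : {p : π.FixP Z // σ.I p l ∧ ∀ h ∈ R', h • p = p} ≃
          {p : P // π.I p l.1 ∧ ∀ h ∈ R, h • p = p} :=
        ⟨fun p => ⟨p.1.1, (π.fixPlane_I Z hqZ _ _).mp p.2.1, fun h hh =>
            congrArg Subtype.val (p.2.2 (f ⟨h, hh⟩) ⟨⟨h, hh⟩, rfl⟩)⟩,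
          fun p => ⟨⟨p.1, fun h hh => p.2.2 h (hZR hh)⟩, (π.fixPlane_I Z hqZ _ _).mpr p.2.1,
            fun h hh => by
              obtain ⟨r, rfl⟩ := hh
              exact Subtype.ext (p.2.2 r r.2)⟩, fun _ => rfl, fun _ => rfl⟩
      rw [Nat.card_congr e, h2] at h1
      omega
    refine ⟨j + 1, ?_⟩
    rw [hn, hj, hk, ← pow_add, pow_succ 2 j]
    congr 1
    omega

/-- The order of the plane is a `2`-power power of the order of the fixed subplane. -/
theorem order_tower {R : Subgroup π.Aut} (hR : IsPGroup 2 R) (hq : π.FixQuad R) :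
    ∃ j, π.n = (π.fixPlane R hq).n ^ (2 ^ j) :=
  order_tower_aux (Nat.card R) π R le_rfl hR hq

end Plane

end Cfsg.Agent.H29.OW
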