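import Mathlib

/-!
Counting lemmas for group actions in which non-identity elements fix at most one point,
and Sylow divisibility of orbit lengths.
-/

set_option autoImplicit false

namespace Cfsg.Agent.H29.OW

open MulAction

theorem card_eq_sum_orbits {K : Type*} [Group K] {Ω : Type*} [MulAction K Ω] [Finite Ω]
    [Fintype (Quotient (orbitRel K Ω))] :
    Nat.card Ω = ∑ ω : Quotient (orbitRel K Ω), Nat.card (orbit K ω.out) := by
  rw [Nat.card_congr (selfEquivSigmaOrbits K Ω), Nat.card_sigma]

theorem dvd_card_of_orbits' {K : Type*} [Group K] {Ω : Type*} [MulAction K Ω] [Finite Ω] (d : ℕ)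
    (h : ∀ x : Ω, d ∣ Nat.card (orbit K x)) : d ∣ Nat.card Ω := by
  classical
  have := Fintype.ofFinite (Quotient (orbitRel K Ω))
  rw [card_eq_sum_orbits (K := K)]
  exact Finset.dvd_sum fun ω _ => h _

theorem card_orbit_mul_stab {K : Type*} [Group K] {Ω : Type*} [MulAction K Ω] (x : Ω) :
    Nat.card (orbit K x) * Nat.card (stabilizer K x) = Nat.card K := by
  rw [← Nat.card_prod]
  exact Nat.card_congr (orbitProdStabilizerEquivGroup K x)

/-- If every nontrivial element fixes at most one point and the fixed-point-free elements form,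
with the identity, a subgroup `E`, then `E` is transitive on the points with nontrivial
stabiliser. -/
theorem exists_mem_smul_eq {K : Type*} [Group K] [Finite K] {Ω : Type*} [MulAction K Ω]
    [Finite Ω] (hone : ∀ g : K, g ≠ 1 → ∀ x y : Ω, g • x = x → g • y = y → x = y)
    (E : Subgroup K) (hE : ∀ g : K, g ∈ E ↔ g = 1 ∨ ∀ x : Ω, g • x ≠ x)
    (x y : Ω) (hx : ∃ g : K, g ≠ 1 ∧ g • x = x) (hy : ∃ g : K, g ≠ 1 ∧ g • y = y) :
    ∃ e ∈ E, e • x = y := by
  classical
  have := Fintype.ofFinite K
  have := Fintype.ofFinite Ω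
  set o := Nat.card (Quotient (orbitRel K Ω)) with ho
  -- Burnside
  have hB := sum_card_fixedBy_eq_card_orbits_mul_card_group K Ω
  have hg : ∀ g : K, Fintype.card (fixedBy Ω g) + (if g ∈ E then 1 else 0) =
      (if g = 1 then Fintype.card Ω else 0) + 1 := by
    intro g
    by_cases h1 : g = 1
    · subst h1
      rw [if_pos rfl, if_pos E.one_mem]
      congr 1
      exact Fintype.card_congr ((Equiv.setCongr (fixedBy_one_eq_univ Ω K)).trans
        (Equiv.Set.univ Ω))
    · rw [if_neg h1, zero_add]
      by_cases hgE : g ∈ E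
      · have hf := ((hE g).mp hgE).resolve_left h1
        rw [if_pos hgE]
        have : IsEmpty (fixedBy Ω g) := ⟨fun z => hf z.1 z.2⟩
        rw [Fintype.card_eq_zero]
      · rw [if_neg hgE, add_zero]
        have hex : ∃ z : Ω, g • z = z := by
          by_contra hc
          push Not at hc
          exact hgE ((hE g).mpr (Or.inr hc))
        obtain ⟨z, hz⟩ := hex
        exact Fintype.card_eq_one_iff.mpr ⟨⟨z, hz⟩, fun w => Subtype.ext (hone g h1 _ _ w.2 hz)⟩
  have hsum : ∑ g : K, Fintype.card (fixedBy Ω g) + Nat.card E = Nat.card Ω + Nat.card K := by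
    have h2 : ∑ g : K, (Fintype.card (fixedBy Ω g) + (if g ∈ E then 1 else 0)) =
        ∑ g : K, ((if g = 1 then Fintype.card Ω else 0) + 1) :=
      Finset.sum_congr rfl fun g _ => hg g
    have hEc : (∑ g : K, if g ∈ E then 1 else 0) = Nat.card E := by
      rw [Finset.sum_boole, Nat.card_eq_fintype_card, Fintype.card_subtype]
      simp
    rw [Finset.sum_add_distrib, Finset.sum_add_distrib, hEc] at h2
    rw [h2]
    simp [Nat.card_eq_fintype_card]
  have hBn : o * Nat.card K + Nat.card E = Nat.card Ω + Nat.card K := by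
    rw [← hsum, hB, ho, Nat.card_eq_fintype_card, Nat.card_eq_fintype_card]
  have hEpos : 0 < Nat.card E := Nat.card_pos
  -- orbit sizes
  let c : Quotient (orbitRel K Ω) → ℕ := fun ω => Nat.card (orbit K ω.out)
  have hcK : ∀ ω, c ω ≤ Nat.card K := fun ω => by
    have h3 := card_orbit_mul_stab (K := K) ω.out
    have h4 : 0 < Nat.card (stabilizer K ω.out) := Nat.card_pos
    calc c ω = c ω * 1 := (mul_one _).symm
      _ ≤ c ω * Nat.card (stabilizer K ω.out) := Nat.mul_le_mul_left _ h4
      _ = Nat.card K := h3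
  have hbad : ∀ z : Ω, (∃ g : K, g ≠ 1 ∧ g • z = z) →
      2 * c (Quotient.mk'' z) ≤ Nat.card K := by
    intro z ⟨g, hg1, hgz⟩
    have hcz : c (Quotient.mk'' z) = Nat.card (orbit K z) := by
      have : orbit K (Quotient.mk'' z : Quotient (orbitRel K Ω)).out = orbit K z :=
        MulAction.orbit_eq_iff.mpr
          ((orbitRel_apply).mp (Quotient.exact' (Quotient.out_eq' _)))
      simp only [c, this]
    have h2 : 2 ≤ Nat.card (stabilizer K z) := by
      have : Nontrivial (stabilizer K z) :=
        ⟨⟨⟨g, hgz⟩, 1, fun e => hg1 (congrArg Subtype.val e)⟩⟩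
      exact Finite.one_lt_card
    rw [hcz, ← card_orbit_mul_stab (K := K) z, mul_comm 2]
    exact Nat.mul_le_mul_left _ h2
  have hΩ : Nat.card Ω = ∑ ω, c ω := card_eq_sum_orbits (K := K)
  -- two different bad orbits are impossible
  have hsame : ∀ z w : Ω, (∃ g : K, g ≠ 1 ∧ g • z = z) → (∃ g : K, g ≠ 1 ∧ g • w = w) →
      (Quotient.mk'' z : Quotient (orbitRel K Ω)) = Quotient.mk'' w := by
    intro z w hz hw
    by_contra hne
    set S : Finset (Quotient (orbitRel K Ω)) := {Quotient.mk'' z, Quotient.mk'' w} with hS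
    have hle : ∀ ω, 2 * c ω + (if ω ∈ S then Nat.card K else 0) ≤ 2 * Nat.card K := by
      intro ω
      have := hcK ω
      split_ifs with hm
      · rw [hS, Finset.mem_insert, Finset.mem_singleton] at hm
        rcases hm with rfl | rfl
        · have := hbad z hz; omega
        · have := hbad w hw; omega
      · omega
    have h5 := Finset.sum_le_sum (fun ω (_ : ω ∈ Finset.univ) => hle ω)
    rw [Finset.sum_add_distrib, ← Finset.mul_sum, ← hΩ, Finset.sum_ite_mem, Finset.univ_inter,
      Finset.sum_const, Finset.sum_const, hS, Finset.card_pair hne, Finset.card_univ,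
      smul_eq_mul, smul_eq_mul, ← Nat.card_eq_fintype_card, ← ho] at h5
    have : o * (2 * Nat.card K) = 2 * (o * Nat.card K) := by ring
    omega
  -- the other orbits are regular
  set ω0 : Quotient (orbitRel K Ω) := Quotient.mk'' x with hω0
  have hreg : ∀ ω, ω ≠ ω0 → c ω = Nat.card K := by
    intro ω hω
    have hst : stabilizer K ω.out = ⊥ := by
      rw [eq_bot_iff]
      intro g hg
      by_contra hg1
      exact hω ((Quotient.out_eq' ω).symm.trans
        (hsame ω.out x ⟨g, by simpa using hg1, hg⟩ hx))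
    have h3 := card_orbit_mul_stab (K := K) ω.out
    rw [hst, Subgroup.card_bot, mul_one] at h3
    exact h3
  have hO : c ω0 = Nat.card E := by
    have h4 : ∑ ω, c ω = c ω0 + (o - 1) * Nat.card K := by
      rw [← Finset.add_sum_erase _ c (Finset.mem_univ ω0),
        Finset.sum_congr rfl (fun ω hω => hreg ω (Finset.ne_of_mem_erase hω)), Finset.sum_const,
        Finset.card_erase_of_mem (Finset.mem_univ _), Finset.card_univ, smul_eq_mul,
        ← Nat.card_eq_fintype_card]
    have ho1 : 1 ≤ o := by
      have : Nonempty (Quotient (orbitRel K Ω)) := ⟨ω0⟩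
      rw [ho]
      exact Nat.card_pos
    rw [← hΩ] at h4
    have h6 : o * Nat.card K = (o - 1) * Nat.card K + Nat.card K := by
      conv_lhs => rw [← Nat.sub_add_cancel ho1]
      ring
    omega
  have hcx : Nat.card (orbit K x) = Nat.card E := by
    rw [← hO]
    have : orbit K ω0.out = orbit K x :=
      MulAction.orbit_eq_iff.mpr ((orbitRel_apply).mp (Quotient.exact' (Quotient.out_eq' _)))
    simp only [c, this]
  -- `E` moves `x` freely
  let φ : E → orbit K x := fun e => ⟨(e : K) • x, mem_orbit x (e : K)⟩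
  have hinj : Function.Injective φ := by
    intro a b hab
    have h := congrArg Subtype.val hab
    simp only [φ] at h
    have hmem : (b : K)⁻¹ * (a : K) ∈ E := E.mul_mem (E.inv_mem b.2) a.2
    rcases (hE _).mp hmem with h1 | h1
    · exact Subtype.ext (inv_mul_eq_one.mp h1).symm
    · exact absurd (by rw [mul_smul, h, inv_smul_smul]) (h1 x)
  have hbij := hinj.bijective_of_nat_card_le hcx.le
  have hy' : y ∈ orbit K x :=
    (orbitRel_apply).mp (Quotient.exact' (hsame y x hy hx))
  obtain ⟨e, he⟩ := hbij.surjective ⟨y, hy'⟩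
  exact ⟨e, e.2, congrArg Subtype.val he⟩

/-- A power of `p` dividing the order divides the Sylow order. -/
theorem pow_dvd_sylow {p : ℕ} [Fact p.Prime] {G : Type*} [Group G] [Finite G] (S : Sylow p G)
    {k : ℕ} (h : p ^ k ∣ Nat.card G) : p ^ k ∣ Nat.card S := by
  rw [S.card_eq_multiplicity]
  exact pow_dvd_pow p (((Fact.out : p.Prime).pow_dvd_iff_le_factorization Nat.card_pos.ne').mp h)

/-- Orbit lengths of a Sylow subgroup: if the stabiliser lies in `U` and `p ^ a * |U|` divides
`|G|`, then `p ^ a` divides the orbit length. -/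
theorem pow_dvd_orbit {p : ℕ} [Fact p.Prime] {G : Type*} [Group G] [Finite G] (S : Sylow p G)
    {X : Type*} [MulAction G X] (x : X) (U : Subgroup G) (a : ℕ)
    (hU : ∀ g ∈ (S : Subgroup G), g • x = x → g ∈ U) (hd : p ^ a * Nat.card U ∣ Nat.card G) :
    p ^ a ∣ Nat.card (orbit (S : Subgroup G) x) := by
  set Sx := stabilizer (S : Subgroup G) x with hSx
  have hdvd : Nat.card Sx ∣ Nat.card U := by
    refine (Subgroup.card_dvd_of_injective ((((S : Subgroup G).subtype).comp Sx.subtype).codRestrict
      U (fun g => hU g.1 g.1.2 g.2)) ?_)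
    intro g h e
    exact Subtype.ext (Subtype.ext (congrArg (fun z : U => (z : G)) e))
  obtain ⟨b, hb⟩ := (S.2.to_subgroup Sx).exists_card_eq
  have hpb : p ^ (a + b) ∣ Nat.card G := by
    refine dvd_trans ?_ hd
    rw [pow_add, ← hb]
    exact Nat.mul_dvd_mul_left _ hdvd
  have h1 := pow_dvd_sylow S hpb
  rw [← card_orbit_mul_stab (K := (S : Subgroup G)) x, pow_add, hb] at h1
  exact Nat.dvd_of_mul_dvd_mul_right (pow_pos (Fact.out : p.Prime).pos b) h1

/-- In a `2`-group a proper subgroup has a normalising element with square inside. -/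
theorem exists_normalizing_sq {G : Type*} [Group G] [Finite G] {R S : Subgroup G}
    (hS : IsPGroup 2 S) (hlt : R < S) :
    ∃ q ∈ S, q ∈ Subgroup.normalizer (R : Set G) ∧ q ∉ R ∧ q * q ∈ R := by
  have : Fact (Nat.Prime 2) := ⟨Nat.prime_two⟩
  have : Group.IsNilpotent S := hS.isNilpotent
  have hne : R.subgroupOf S < ⊤ := by
    rw [lt_top_iff_ne_top]
    intro h
    exact hlt.not_ge (Subgroup.subgroupOf_eq_top.mp h)
  have hn := Group.normalizerCondition_of_isNilpotent (G := S) _ hne
  obtain ⟨y, hy, hy'⟩ := SetLike.exists_of_lt hn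
  have hyn : (y : G) ∈ Subgroup.normalizer (R : Set G) := by
    rw [Subgroup.mem_normalizer_iff] at hy ⊢
    intro h
    constructor
    · intro hh
      have := (hy ⟨h, hlt.le hh⟩).mp hh
      exact this
    · intro hh
      have hmem : h ∈ S := by
        have := S.mul_mem (S.mul_mem (S.inv_mem y.2) (hlt.le hh)) y.2
        simpa [mul_assoc] using this
      exact (hy ⟨h, hmem⟩).mpr hh
  obtain ⟨k, hk⟩ := hS y
  have key : ∀ (k : ℕ) (z : G), z ∈ S → z ∈ Subgroup.normalizer (R : Set G) → z ∉ R →
      z ^ 2 ^ k ∈ R → ∃ q ∈ S, q ∈ Subgroup.normalizer (R : Set G) ∧ q ∉ R ∧ q * q ∈ R := by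
    intro k
    induction k with
    | zero => intro z _ _ h1 h2; exact absurd (by simpa using h2) h1
    | succ k ih =>
      intro z hz hzn h1 h2
      by_cases h3 : z * z ∈ R
      · exact ⟨z, hz, hzn, h1, h3⟩
      · refine ih (z * z) (S.mul_mem hz hz) (Subgroup.mul_mem _ hzn hzn) h3 ?_
        rw [← pow_two, ← pow_mul, ← pow_succ']
        exact h2
  refine key k y y.2 hyn hy' ?_
  have : ((y : G)) ^ 2 ^ k = 1 := by
    have := congrArg Subtype.val hk
    simpa using this
  rw [this]
  exact R.one_mem

end Cfsg.Agent.H29.OW
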