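import Cfsg.Agent.H29.OW.Transitive
import Cfsg.Agent.H29.OW.Fixity

/-!
Two-subgroups in a collineation group which is 2-transitive on points.
-/

set_option autoImplicit false
set_option linter.unusedSectionVars false

namespace Cfsg.Agent.H29.OW

theorem exists_conj_of_card_eq {G : Type*} [Group G] [Finite G] {p : ℕ} [Fact p.Prime]
    (U : Subgroup G) (S : Sylow p U) (T : Subgroup G) (hT : T ≤ U) (hTp : IsPGroup p T)
    (hcard : Nat.card T = Nat.card S) :
    ∃ u ∈ U, ∀ x, x ∈ (S : Subgroup U).map U.subtype → u * x * u⁻¹ ∈ T := by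
  obtain ⟨Q, hQ⟩ := IsPGroup.exists_le_sylow (p := p) (P := T.subgroupOf U)
    (hTp.of_equiv (Subgroup.subgroupOfEquivOfLe hT).symm)
  have hc : Nat.card (Q : Subgroup U) = Nat.card (T.subgroupOf U) := by
    rw [Nat.card_congr (Subgroup.subgroupOfEquivOfLe hT).toEquiv, hcard, Q.card_eq_multiplicity,
      S.card_eq_multiplicity]
  have hQe : T.subgroupOf U = (Q : Subgroup U) := Subgroup.eq_of_le_of_card_ge hQ hc.le
  obtain ⟨u, hu⟩ := MulAction.exists_smul_eq U S Q
  refine ⟨u.1, u.2, ?_⟩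
  rintro _ ⟨x, hx, rfl⟩
  have hmem : u * x * u⁻¹ ∈ ((u • S : Sylow p U) : Subgroup U) := by
    rw [Sylow.coe_subgroup_smul]
    exact ⟨x, hx, rfl⟩
  rw [hu, ← hQe] at hmem
  exact hmem

theorem exists_fixed_of_odd' {α : Type*} [Finite α] (hodd : Odd (Nat.card α)) (f : α → α)
    (hf : ∀ a, f (f a) = a) : ∃ a, f a = a := by
  classical
  have := Fintype.ofFinite α
  by_contra hc
  push Not at hc
  have h : (∑ _a : α, (1 : ZMod 2)) = 0 :=
    Finset.sum_involution (fun a _ => f a) (fun a _ => by decide) (fun a _ _ => hc a)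
      (fun a _ => Finset.mem_univ _) (fun a _ => hf a)
  rw [Finset.sum_const, Finset.card_univ, ← Nat.card_eq_fintype_card, nsmul_eq_mul, mul_one,
    ZMod.natCast_eq_zero_iff_even] at h
  exact (Nat.not_odd_iff_even.mpr h) hodd

namespace Plane

variable {P : Type*} {L : Type*} {π : Plane P L} [Finite P] [Finite L]

/-- A Sylow `2`-subgroup of a two point stabiliser does not fix a quadrangle. -/
theorem sylow_pair_not_quad (h : TwoTrans π) {A B : P} (hAB : A ≠ B)
    (S : Sylow 2 (π.pairFix A B)) :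
    ¬ π.FixQuad ((S : Subgroup (π.pairFix A B)).map (π.pairFix A B).subtype) := by
  have : Fact (Nat.Prime 2) := ⟨Nat.prime_two⟩
  set S0 := (S : Subgroup (π.pairFix A B)).map (π.pairFix A B).subtype with hS0
  intro hq
  have hS0U : S0 ≤ (π.pairFix A B) := by rw [hS0]; exact Subgroup.map_subtype_le _
  have hS0p : IsPGroup 2 S0 := by rw [hS0]; exact S.2.map _
  have hS0c : Nat.card S0 = Nat.card S := by
    rw [hS0, Subgroup.card_map_of_injective (Subgroup.subtype_injective _)]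
  set σ := π.fixPlane S0 hq
  set A' : π.FixP S0 := ⟨A, fun h hh => (hS0U hh).1⟩
  set B' : π.FixP S0 := ⟨B, fun h hh => (hS0U hh).2⟩
  have htrans : ∀ p q : π.FixP S0, p ≠ q →
      ∃ g, ∃ hg : g ∈ Subgroup.normalizer (S0 : Set π.Aut), g • A = p.1 ∧ g • B = q.1 := by
    intro p q hpq
    obtain ⟨g0, h1, h2⟩ := h A B p.1 q.1 hAB (fun e => hpq (Subtype.ext e))
    set T := S0.map (MulAut.conj g0⁻¹).toMonoidHom with hT
    have hTU : T ≤ (π.pairFix A B) := by
      rintro _ ⟨x, hx, rfl⟩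
      have hxp := p.2 x hx
      have hxq := q.2 x hx
      constructor
      · show (g0⁻¹ * x * g0⁻¹⁻¹) • A = A
        rw [inv_inv, mul_smul, mul_smul, h1, hxp, ← h1, inv_smul_smul]
      · show (g0⁻¹ * x * g0⁻¹⁻¹) • B = B
        rw [inv_inv, mul_smul, mul_smul, h2, hxq, ← h2, inv_smul_smul]
    have hTc : Nat.card T = Nat.card S := by
      rw [hT, Subgroup.card_map_of_injective (MulAut.conj g0⁻¹).injective, hS0c]
    obtain ⟨u, hu, huS⟩ := exists_conj_of_card_eq (π.pairFix A B) S T hTU (hS0p.map _) hTc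
    refine ⟨g0 * u, ?_, by rw [mul_smul, hu.1, h1], by rw [mul_smul, hu.2, h2]⟩
    have hmap : S0.map (MulAut.conj (g0 * u)).toMonoidHom ≤ S0 := by
      rintro _ ⟨x, hx, rfl⟩
      obtain ⟨y, hy, hyx⟩ := huS x hx
      show g0 * u * x * (g0 * u)⁻¹ ∈ S0
      have e : g0 * u * x * (g0 * u)⁻¹ = g0 * (u * x * u⁻¹) * g0⁻¹ := by group
      rw [e, ← hyx]
      simpa [mul_assoc] using hy
    have heq : S0.map (MulAut.conj (g0 * u)).toMonoidHom = S0 :=
      Subgroup.eq_of_le_of_card_ge hmap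
        (le_of_eq (Subgroup.card_map_of_injective (K := S0) (f := (MulAut.conj (g0 * u)).toMonoidHom)
          (MulAut.conj (g0 * u)).injective).symm)
    rw [Subgroup.mem_normalizer_iff]
    intro x
    constructor
    · intro hx
      rw [← heq]
      exact ⟨x, hx, rfl⟩
    · intro hx
      rw [← heq] at hx
      obtain ⟨y, hy, hyx⟩ := hx
      have : y = x := (MulAut.conj (g0 * u)).injective hyx
      exact this ▸ hy
  obtain ⟨t, htN, htA, htB⟩ := htrans B' A' (fun e => hAB (congrArg Subtype.val e).symm)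
  obtain ⟨k, m, hm, hord⟩ := Nat.exists_eq_two_pow_mul_odd (orderOf_pos t).ne'
  set t' := t ^ m with ht'
  have ht'N : t' ∈ Subgroup.normalizer (S0 : Set π.Aut) := Subgroup.pow_mem _ htN m
  have htt : t * t ∈ (π.pairFix A B) := ⟨by
      show (t * t) • A = A
      rw [mul_smul, htA, htB], by
      show (t * t) • B = B
      rw [mul_smul, htB, htA]⟩
  have ht'2 : t' * t' ∈ (π.pairFix A B) := by
    rw [ht', ← (Commute.refl t).mul_pow m]
    exact (π.pairFix A B).pow_mem htt m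
  have ht'A : t' • A = B := by
    obtain ⟨j, hj⟩ := hm
    rw [ht', hj, pow_succ', mul_smul, pow_mul, pow_two,
      show ((t * t) ^ j) • A = A from ((π.pairFix A B).pow_mem htt j).1, htA]
  have ht'p : t' ^ (2 ^ k) = 1 := by rw [ht', ← pow_mul, mul_comm, ← hord, pow_orderOf_eq_one]
  have hmemS : ∀ y ∈ (π.pairFix A B), y ∈ Subgroup.normalizer (S0 : Set π.Aut) → y ^ (2 ^ k) = 1 → y ∈ S0 := by
    intro y hyU hyN hy
    have hyp : IsPGroup 2 (Subgroup.zpowers y) := by
      obtain ⟨i, -, hi⟩ :=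
        (Nat.dvd_prime_pow Nat.prime_two).mp (orderOf_dvd_of_pow_eq_one hy)
      exact IsPGroup.of_card (n := i) (by rw [Nat.card_zpowers, hi])
    have hsup : IsPGroup 2 (Subgroup.zpowers y ⊔ S0 : Subgroup π.Aut) :=
      hyp.to_sup_of_normal_right' hS0p (Subgroup.zpowers_le.mpr hyN)
    have hsupU : Subgroup.zpowers y ⊔ S0 ≤ (π.pairFix A B) := sup_le (Subgroup.zpowers_le.mpr hyU) hS0U
    obtain ⟨Q, hQ⟩ := IsPGroup.exists_le_sylow (p := 2)
      (P := (Subgroup.zpowers y ⊔ S0).subgroupOf (π.pairFix A B))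
      (hsup.of_equiv (Subgroup.subgroupOfEquivOfLe hsupU).symm)
    have h1 : Nat.card (Subgroup.zpowers y ⊔ S0 : Subgroup π.Aut) ≤ Nat.card S0 := by
      rw [hS0c, S.card_eq_multiplicity, ← Q.card_eq_multiplicity,
        ← Nat.card_congr (Subgroup.subgroupOfEquivOfLe hsupU).toEquiv]
      exact Subgroup.card_le_of_le hQ
    have h2 := Subgroup.eq_of_le_of_card_ge (H := S0) (K := Subgroup.zpowers y ⊔ S0) le_sup_right h1
    rw [h2]
    exact Subgroup.mem_sup_left (Subgroup.mem_zpowers y)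
  have ht'sq : t' * t' ∈ S0 := hmemS _ ht'2 (Subgroup.mul_mem _ ht'N ht'N) (by
    rw [← pow_two, ← pow_mul, mul_comm, pow_mul, ht'p, one_pow])
  set r := restrict S0 hq ⟨t', ht'N⟩ with hr
  have hr2 : r * r = 1 := by
    rw [hr, ← map_mul]
    apply eq_one_of_fix_points
    intro p
    exact Subtype.ext (p.2 _ ht'sq)
  obtain ⟨p, q, hpq, hp, hq'⟩ : ∃ p q : π.FixP S0, p ≠ q ∧ r • p = p ∧ r • q = q := by
    rcases involution_cases hr2 with ⟨l, hl⟩ | ⟨a, b, c, d, hquad, hf⟩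
    · obtain ⟨p, hp⟩ := σ.exists_point_on l
      obtain ⟨q, hq, hqp⟩ := σ.exists_point_ne l p
      exact ⟨p, q, Ne.symm hqp, hl p hp, hl q hq⟩
    · exact ⟨a, b, hquad.ne.1, (hf r (Subgroup.mem_zpowers r)).1,
        (hf r (Subgroup.mem_zpowers r)).2.1⟩
  obtain ⟨g, hgN, hgA, hgB⟩ := htrans p q hpq
  have hy : g⁻¹ * t' * g ∈ S0 := by
    refine hmemS _ ⟨?_, ?_⟩ (Subgroup.mul_mem _ (Subgroup.mul_mem _ (Subgroup.inv_mem _ hgN) ht'N) hgN) ?_
    · show (g⁻¹ * t' * g) • A = A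
      rw [mul_smul, mul_smul, hgA, show t' • p.1 = p.1 from congrArg Subtype.val hp, ← hgA,
        inv_smul_smul]
    · show (g⁻¹ * t' * g) • B = B
      rw [mul_smul, mul_smul, hgB, show t' • q.1 = q.1 from congrArg Subtype.val hq', ← hgB,
        inv_smul_smul]
    · have := conj_pow (i := 2 ^ k) (a := g⁻¹) (b := t')
      rw [inv_inv] at this
      rw [this, ht'p]
      group
  have ht'S : t' ∈ S0 := by
    have h := (Subgroup.mem_normalizer_iff.mp hgN (g⁻¹ * t' * g)).mp hy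
    rwa [show g * (g⁻¹ * t' * g) * g⁻¹ = t' by group] at h
  exact hAB ((hS0U ht'S).1.symm.trans ht'A)

/-- An involutory homology of the subplane fixed by `R`, lifted. -/
def Witness (π : Plane P L) (R : Subgroup π.Aut) (q : π.Aut) (c : P) (l : L) : Prop :=
  ¬ π.I c l ∧ (∀ r ∈ R, r • c = c) ∧ (∀ r ∈ R, r • l = l) ∧
    q ∈ Subgroup.normalizer (R : Set π.Aut) ∧ q * q ∈ R ∧
    (∀ p, π.I p l → (∀ r ∈ R, r • p = p) → q • p = p) ∧
    (∀ k, π.I c k → (∀ r ∈ R, r • k = k) → q • k = k) ∧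
    ∃ p : P, (∀ r ∈ R, r • p = p) ∧ q • p ≠ p

/-- `R` is a largest `2`-group fixing a quadrangle. -/
def MaxQuad (π : Plane P L) (R : Subgroup π.Aut) : Prop :=
  IsPGroup 2 R ∧ π.FixQuad R ∧
    ∀ K : Subgroup π.Aut, IsPGroup 2 K → π.FixQuad K → Nat.card K ≤ Nat.card R

theorem pair_witness (h : TwoTrans π) {R : Subgroup π.Aut} (hR : MaxQuad π R)
    (hodd : Odd (π.fixPlane R hR.2.1).n) {X Y : P} (hX : ∀ r ∈ R, r • X = X)
    (hY : ∀ r ∈ R, r • Y = Y) (hXY : X ≠ Y) :
    ∃ q c l, Witness π R q c l ∧ (π.I X l ∨ X = c) ∧ (π.I Y l ∨ Y = c) := by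
  have : Fact (Nat.Prime 2) := ⟨Nat.prime_two⟩
  obtain ⟨hRp, hRq, hmax⟩ := hR
  set U := π.pairFix X Y with hU
  have hRU : R ≤ U := fun r hr => ⟨hX r hr, hY r hr⟩
  obtain ⟨S, hS⟩ := IsPGroup.exists_le_sylow (p := 2) (P := R.subgroupOf U)
    (hRp.of_equiv (Subgroup.subgroupOfEquivOfLe hRU).symm)
  set S0 := (S : Subgroup U).map U.subtype with hS0
  have hS0p : IsPGroup 2 S0 := by rw [hS0]; exact S.2.map _
  have hS0U : S0 ≤ U := by rw [hS0]; exact Subgroup.map_subtype_le _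
  have hlt : R < S0 := by
    refine lt_of_le_of_ne (fun r hr => ⟨⟨r, hRU hr⟩, hS hr, rfl⟩) fun e => ?_
    exact sylow_pair_not_quad h hXY S (show π.FixQuad S0 from e ▸ hRq)
  obtain ⟨q, hqS, hqN, hqR, hq2⟩ := exists_normalizing_sq hS0p hlt
  have hnot : ¬ π.FixQuad (Subgroup.zpowers q ⊔ R) := by
    intro hc
    have hp : IsPGroup 2 (Subgroup.zpowers q ⊔ R : Subgroup π.Aut) :=
      hS0p.to_le (sup_le (Subgroup.zpowers_le.mpr hqS) hlt.le)
    have h1 := Subgroup.eq_of_le_of_card_ge (H := R) (K := Subgroup.zpowers q ⊔ R) le_sup_right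
      (hmax _ hp hc)
    exact hqR (h1 ▸ Subgroup.mem_sup_left (Subgroup.mem_zpowers q))
  set σ := π.fixPlane R hRq with hσ
  set r := restrict R hRq ⟨q, hqN⟩ with hr
  have hr2 : r * r = 1 := by
    rw [hr, ← map_mul]
    apply eq_one_of_fix_points
    intro p
    exact Subtype.ext (p.2 _ hq2)
  have hgen : ∀ a : P, q • a = a → (∀ r ∈ R, r • a = a) →
      ∀ x ∈ Subgroup.zpowers q ⊔ R, x • a = a := fun a ha hRa x hx => by
    have hle : Subgroup.zpowers q ⊔ R ≤ MulAction.stabilizer π.Aut a :=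
      sup_le (Subgroup.zpowers_le.mpr ha) hRa
    exact hle hx
  have hr1 : r ≠ 1 := by
    intro e
    refine hnot (restrict_ker_fixQuad hRq fun k hk p => hgen p.1 ?_ p.2 k hk)
    show ((restrict R hRq ⟨q, hqN⟩) • p).1 = p.1
    rw [← hr, e, one_smul]
  rcases involution_cases hr2 with ⟨l, hl⟩ | ⟨a, b, c, d, hquad, hf⟩
  swap
  · obtain ⟨ha, hb, hc, hd⟩ := hf r (Subgroup.mem_zpowers r)
    exact absurd ⟨a.1, b.1, c.1, d.1, fixPlane_quad hRq hquad, fun x hx =>
      ⟨hgen _ (congrArg Subtype.val ha) a.2 x hx, hgen _ (congrArg Subtype.val hb) b.2 x hx,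
        hgen _ (congrArg Subtype.val hc) c.2 x hx, hgen _ (congrArg Subtype.val hd) d.2 x hx⟩⟩ hnot
  obtain ⟨c, hc, -⟩ := hl.exists_center
  have hcl : ¬ σ.I c l := by
    intro hcl
    obtain ⟨k, hk, hkl⟩ := σ.exists_line_ne c l
    have hcard : Odd (Nat.card {p : π.FixP R // σ.I p k ∧ p ≠ c}) := by
      rw [σ.card_punctured k c hk]; exact hodd
    have hrr : ∀ p : π.FixP R, r • r • p = p := fun p => by rw [← mul_smul, hr2, one_smul]
    obtain ⟨p, hp⟩ := exists_fixed_of_odd' hcard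
      (fun p => ⟨r • p.1, by conv => rhs; rw [← hc k hk]
                             exact (smul_I_iff _ _ _).mpr p.2.1,
        fun e => p.2.2 (MulAction.injective r (e.trans (hc.point).symm))⟩)
      (fun p => Subtype.ext (hrr p.1))
    rcases hl.fixed_cases hc hr1 (congrArg Subtype.val hp) with h' | h'
    · exact p.2.2 (point_eq hkl p.2.1 hk h' hcl)
    · exact p.2.2 h'
  have hfix : ∀ Z : P, (∀ r ∈ R, r • Z = Z) → q • Z = Z → π.I Z l.1 ∨ Z = c.1 := by
    intro Z hZ hqZ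
    rcases hl.fixed_cases hc hr1 (p := ⟨Z, hZ⟩) (Subtype.ext hqZ) with h' | h'
    · exact Or.inl ((π.fixPlane_I R hRq _ _).mp h')
    · exact Or.inr (congrArg Subtype.val h')
  refine ⟨q, c.1, l.1, ⟨fun e => hcl ((π.fixPlane_I R hRq _ _).mpr e), c.2, l.2, hqN, hq2,
    fun p hp hpf => congrArg Subtype.val (hl ⟨p, hpf⟩ ((π.fixPlane_I R hRq _ _).mpr hp)),
    fun k hk hkf => congrArg Subtype.val (hc ⟨k, hkf⟩ ((π.fixPlane_I R hRq _ _).mpr hk)), ?_⟩,
    hfix X hX (hS0U hqS).1, hfix Y hY (hS0U hqS).2⟩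
  by_contra hall
  push Not at hall
  exact hr1 (eq_one_of_fix_points fun p => Subtype.ext (hall p.1 p.2))

theorem MaxQuad.flip {R : Subgroup π.Aut} (hR : MaxQuad π R) :
    MaxQuad π.dual (R.map π.flipAut.toMonoidHom) := by
  obtain ⟨h1, h2, h3⟩ := hR
  refine ⟨h1.map _, h2.flip, fun K hK hKq => ?_⟩
  rw [Subgroup.card_map_of_injective π.flipAut.injective]
  have hq := hKq.flip
  have hc : Nat.card (K.map π.dual.flipAut.toMonoidHom) = Nat.card K :=
    Subgroup.card_map_of_injective π.dual.flipAut.injective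
  rw [← hc]
  exact h3 (K.map π.dual.flipAut.toMonoidHom) (hK.map _) hq

theorem mem_normalizer_flip {R : Subgroup π.Aut} {q : π.Aut}
    (hq : π.flipAut q ∈ Subgroup.normalizer
      ((R.map π.flipAut.toMonoidHom : Subgroup π.dual.Aut) : Set π.dual.Aut)) :
    q ∈ Subgroup.normalizer (R : Set π.Aut) := by
  rw [Subgroup.mem_normalizer_iff] at hq ⊢
  intro x
  have key : ∀ y : π.Aut, π.flipAut y ∈ R.map π.flipAut.toMonoidHom ↔ y ∈ R := fun y =>
    Subgroup.mem_map_iff_mem π.flipAut.injective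
  have h := hq (π.flipAut x)
  rwa [← map_mul, ← map_inv, ← map_mul, key, key] at h

end Plane

end Cfsg.Agent.H29.OW
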