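import Cfsg.Agent.H29.OW.PrimePower
import Cfsg.Agent.H29.OW.Tower
import Cfsg.Agent.H29.OW.TwoGroups

/-!
A finite projective plane with a collineation group which is 2-transitive on points has a
nontrivial elation.
-/

set_option autoImplicit false
set_option linter.unusedSectionVars false

namespace Cfsg.Agent.H29.OW

namespace Plane

variable {P : Type*} {L : Type*} {π : Plane P L} [Finite P] [Finite L]

open MulAction in
theorem exists_fixed_flag (T : Subgroup π.Aut) (hT : IsPGroup 2 T) (heven : Even π.n) :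
    ∃ A l, π.I A l ∧ (∀ t ∈ T, t • A = A) ∧ (∀ t ∈ T, t • l = l) := by
  classical
  have : Fact (Nat.Prime 2) := ⟨Nat.prime_two⟩
  let _ : MulAction T {x : P × L // π.I x.1 x.2} :=
    { smul := fun t x => ⟨((t : π.Aut) • x.1.1, (t : π.Aut) • x.1.2), (smul_I_iff _ _ _).mpr x.2⟩
      one_smul := fun x => Subtype.ext (Prod.ext (one_smul _ _) (one_smul _ _))
      mul_smul := fun a b x => Subtype.ext (Prod.ext (mul_smul (a : π.Aut) (b : π.Aut) _)
        (mul_smul (a : π.Aut) (b : π.Aut) _)) }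
  have hcard : Nat.card {x : P × L // π.I x.1 x.2} = (π.n * π.n + π.n + 1) * (π.n + 1) := by
    have := Fintype.ofFinite P
    rw [Nat.card_congr (Equiv.subtypeProdEquivSigmaSubtype (fun p l => π.I p l)), Nat.card_sigma,
      Finset.sum_congr rfl (fun p _ => π.card_point p), Finset.sum_const, Finset.card_univ,
      ← Nat.card_eq_fintype_card, π.card_P, smul_eq_mul]
  obtain ⟨⟨⟨A, l⟩, hAl⟩, hx⟩ := hT.nonempty_fixed_point_of_prime_not_dvd_card
    {x : P × L // π.I x.1 x.2} (by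
      rw [hcard]
      intro h
      have : Odd ((π.n * π.n + π.n + 1) * (π.n + 1)) :=
        ((heven.mul_right π.n).add heven).add_one.mul heven.add_one
      exact (Nat.not_even_iff_odd.mpr this) (even_iff_two_dvd.mpr h))
  exact ⟨A, l, hAl,
    fun t ht => congrArg (fun y : {x : P × L // π.I x.1 x.2} => y.1.1) (hx ⟨t, ht⟩),
    fun t ht => congrArg (fun y : {x : P × L // π.I x.1 x.2} => y.1.2) (hx ⟨t, ht⟩)⟩

theorem two_dvd_card_aut (h : TwoTrans π) : 2 ∣ Nat.card π.Aut := by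
  obtain ⟨A⟩ := π.nonempty
  obtain ⟨k, hk⟩ := π.exists_line_through A
  obtain ⟨B, -, hB⟩ := π.exists_point_ne k A
  rw [h.card_pair (Ne.symm hB)]
  exact dvd_mul_of_dvd_left (dvd_mul_of_dvd_right
    (even_iff_two_dvd.mp (Nat.even_mul_succ_self π.n)) _) _

/-- In even order there is a perspectivity. -/
theorem even_not_noPersp (h : TwoTrans π) (heven : Even π.n) : ¬ NoPersp π := by
  classical
  intro hno
  have : Fact (Nat.Prime 2) := ⟨Nat.prime_two⟩
  let T : Sylow 2 π.Aut := default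
  obtain ⟨A, l, hAl, hA, hl⟩ := exists_fixed_flag (π := π) (T : Subgroup π.Aut) T.2 heven
  have hTne : (T : Subgroup π.Aut) ≠ ⊥ := by
    intro e
    have h1 := pow_dvd_sylow T (k := 1) (by simpa using two_dvd_card_aut h)
    have h2 : Nat.card T = 1 := by
      show Nat.card (T : Subgroup π.Aut) = 1
      rw [e, Subgroup.card_bot]
    rw [h2] at h1
    exact absurd (Nat.le_of_dvd one_pos h1) (by norm_num)
  obtain ⟨z, hzT, hz1, hz2, hzc⟩ := exists_central_involution T.2 hTne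
  rcases involution_cases hz2 with ⟨m, hm⟩ | hq
  · exact hz1 (hno z m hm)
  set σ := π.fixPlane _ hq with hσ
  have hn : π.n = σ.n * σ.n := baer_order hz2 hz1 hq
  have hTN := le_normalizer_zpowers_of_central (π := π) hzc
  have hlz : ∀ g ∈ Subgroup.zpowers z, g • l = l := fix_of_zpowers_line (hl z hzT)
  have hAz : ∀ g ∈ Subgroup.zpowers z, g • A = A := fix_of_zpowers (hA z hzT)
  let X := {p : π.FixP (Subgroup.zpowers z) // σ.I p ⟨l, hlz⟩ ∧ p ≠ ⟨A, hAz⟩}
  have hcard : Nat.card X = σ.n :=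
    σ.card_punctured _ _ ((π.fixPlane_I _ hq _ _).mpr hAl)
  have hstab : ∀ (t : (T : Subgroup π.Aut)) (p : X),
      σ.I (restrict _ hq ⟨t, hTN t.2⟩ • p.1) ⟨l, hlz⟩ ∧
        restrict _ hq ⟨t, hTN t.2⟩ • p.1 ≠ ⟨A, hAz⟩ := by
    intro t p
    have h1 : restrict _ hq ⟨t, hTN t.2⟩ • (⟨l, hlz⟩ : π.FixL (Subgroup.zpowers z)) = ⟨l, hlz⟩ :=
      Subtype.ext (hl t t.2)
    refine ⟨?_, fun e => p.2.2 ?_⟩
    · conv => rhs; rw [← h1]
      exact (smul_I_iff _ _ _).mpr p.2.1
    · refine MulAction.injective (restrict _ hq ⟨t, hTN t.2⟩) (e.trans ?_)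
      exact (Subtype.ext (hA t t.2)).symm
  let _ : MulAction (T : Subgroup π.Aut) X :=
    { smul := fun t p => ⟨restrict _ hq ⟨t, hTN t.2⟩ • p.1, hstab t p⟩
      one_smul := fun p => Subtype.ext (Subtype.ext (one_smul π.Aut p.1.1))
      mul_smul := fun a b p =>
        Subtype.ext (Subtype.ext (mul_smul (a : π.Aut) (b : π.Aut) p.1.1)) }
  set a := π.n.factorization 2 with ha
  have horb : ∀ p : X, 2 ^ a ∣ Nat.card (MulAction.orbit (T : Subgroup π.Aut) p) := by
    intro p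
    have hAp : A ≠ p.1.1 := fun e => p.2.2 (Subtype.ext e.symm)
    have h1 := pow_dvd_orbit T p.1.1 (π.pairFix A p.1.1) a (fun g hg hgp => ⟨hA g hg, hgp⟩) (by
      rw [h.card_pair hAp]
      exact Nat.mul_dvd_mul_right (dvd_mul_of_dvd_right
        (dvd_mul_of_dvd_left (Nat.ordProj_dvd π.n 2) _) _) _)
    refine h1.trans (dvd_of_eq (Nat.card_congr ?_).symm)
    refine Equiv.ofBijective (fun q => ⟨q.1.1.1, ?_⟩) ⟨?_, ?_⟩
    · obtain ⟨t, ht⟩ := q.2
      exact ⟨t, congrArg (fun y : X => y.1.1) ht⟩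
    · intro q q' e
      exact Subtype.ext (Subtype.ext (Subtype.ext (congrArg Subtype.val e :)))
    · rintro ⟨_, t, rfl⟩
      exact ⟨⟨t • p, t, rfl⟩, rfl⟩
  have hdvd : 2 ^ a ∣ σ.n := hcard ▸ dvd_card_of_orbits' (K := (T : Subgroup π.Aut)) _ horb
  have hσ0 : σ.n ≠ 0 := by have := σ.two_le; omega
  have hle : a ≤ σ.n.factorization 2 :=
    ((Fact.out : Nat.Prime 2).pow_dvd_iff_le_factorization hσ0).mp hdvd
  have ha2 : a = σ.n.factorization 2 + σ.n.factorization 2 := by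
    rw [ha, hn, Nat.factorization_mul hσ0 hσ0]; rfl
  have ha1 : 1 ≤ a :=
    ((Fact.out : Nat.Prime 2).pow_dvd_iff_le_factorization (by have := π.two_le; omega)).mp
      (by simpa using even_iff_two_dvd.mp heven)
  omega

theorem witness_HC {R : Subgroup π.Aut} (hR : π.FixQuad R) {q : π.Aut} {c : P} {l : L}
    (h : Witness π R q c l) :
    ∃ (hc : ∀ r ∈ R, r • c = c) (hl : ∀ r ∈ R, r • l = l),
      (π.fixPlane R hR).HC ⟨c, hc⟩ ⟨l, hl⟩ := by
  obtain ⟨hcl, hc, hl, hqN, hq2, hax, hcen, p, hp, hqp⟩ := h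
  refine ⟨hc, hl, fun e => hcl ((π.fixPlane_I R hR _ _).mp e), restrict R hR ⟨q, hqN⟩,
    fun e => hqp ?_, ?_, fun k hk => ?_, fun x hx => ?_⟩
  · show ((restrict R hR ⟨q, hqN⟩) • (⟨p, hp⟩ : π.FixP R)).1 = p
    rw [e, one_smul]
  · rw [← map_mul]
    exact eq_one_of_fix_points fun x => Subtype.ext (x.2 _ hq2)
  · exact Subtype.ext (hcen k.1 ((π.fixPlane_I R hR _ _).mp hk) k.2)
  · exact Subtype.ext (hax x.1 ((π.fixPlane_I R hR _ _).mp hx) x.2)

theorem fixPlane_flip_n {R : Subgroup π.Aut} (hR : π.FixQuad R) :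
    (π.dual.fixPlane _ hR.flip).n = (π.fixPlane R hR).n := by
  obtain ⟨p⟩ := (π.fixPlane R hR).nonempty
  have hp : ∀ h ∈ R.map π.flipAut.toMonoidHom, h • p.1 = p.1 := by
    rintro _ ⟨r, hr, rfl⟩
    exact p.2 r hr
  have h1 := fixPlane_card_line (π := π.dual) hR.flip hp
  have h2 := (π.fixPlane R hR).card_point p
  have e : {k : π.FixL R // (π.fixPlane R hR).I p k} ≃
      {k : L // π.dual.I k p.1 ∧ ∀ h ∈ R.map π.flipAut.toMonoidHom, h • k = k} :=
    ⟨fun k => ⟨k.1.1, (π.fixPlane_I R hR _ _).mp k.2, by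
        rintro _ ⟨r, hr, rfl⟩
        exact k.1.2 r hr⟩,
      fun k => ⟨⟨k.1, fun r hr => k.2.2 _ ⟨r, hr, rfl⟩⟩, (π.fixPlane_I R hR _ _).mpr k.2.1⟩,
      fun _ => rfl, fun _ => rfl⟩
  rw [Nat.card_congr e, h1] at h2
  omega

/-- Without perspectivities the order is a prime power. -/
theorem isPrimePow_of_noPersp (h : TwoTrans π) (hno : NoPersp π) : IsPrimePow π.n := by
  classical
  have : Fact (Nat.Prime 2) := ⟨Nat.prime_two⟩
  have hodd : Odd π.n := Nat.not_even_iff_odd.mp fun e => even_not_noPersp h e hno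
  obtain ⟨z, hz⟩ := exists_prime_orderOf_dvd_card' 2 (two_dvd_card_aut h)
  have hz2 : z * z = 1 := by
    have := pow_orderOf_eq_one z
    rwa [hz, pow_two] at this
  have hz1 : z ≠ 1 := fun e => by rw [e, orderOf_one] at hz; exact absurd hz (by decide)
  have hzq : π.FixQuad (Subgroup.zpowers z) := by
    rcases involution_cases hz2 with ⟨m, hm⟩ | hq
    · exact absurd (hno z m hm) hz1
    · exact hq
  have hzp : IsPGroup 2 (Subgroup.zpowers z) :=
    IsPGroup.of_card (n := 1) (by rw [Nat.card_zpowers, hz, pow_one])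
  obtain ⟨R, ⟨hRp, hRq⟩, hRmax⟩ := (Set.toFinite
    {K : Subgroup π.Aut | IsPGroup 2 K ∧ π.FixQuad K}).exists_maximalFor
      (fun K : Subgroup π.Aut => Nat.card K) _ ⟨_, hzp, hzq⟩
  have hR : MaxQuad π R := by
    refine ⟨hRp, hRq, fun K hK hKq => ?_⟩
    by_contra hlt
    push Not at hlt
    exact absurd (hRmax ⟨hK, hKq⟩ hlt.le) (not_le.mpr hlt)
  set σ := π.fixPlane R hRq with hσ
  obtain ⟨j, hj⟩ := order_tower hRp hRq
  have hσodd : Odd σ.n := by
    rw [hj] at hodd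
    exact (Nat.odd_pow_iff (pow_ne_zero j two_ne_zero)).mp hodd
  have hpts : ∀ X Y : π.FixP R, X ≠ Y →
      ∃ c l, σ.HC c l ∧ (σ.I X l ∨ X = c) ∧ (σ.I Y l ∨ Y = c) := by
    intro X Y hXY
    obtain ⟨q, c, l, hw, h1, h2⟩ :=
      pair_witness h hR hσodd X.2 Y.2 (fun e => hXY (Subtype.ext e))
    obtain ⟨hc, hl, hHC⟩ := witness_HC hRq hw
    exact ⟨_, _, hHC, h1.imp (π.fixPlane_I R hRq _ _).mpr Subtype.ext,
      h2.imp (π.fixPlane_I R hRq _ _).mpr Subtype.ext⟩
  have hlines : ∀ l m : π.FixL R, l ≠ m →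
      ∃ k c, σ.HC c k ∧ (σ.I c l ∨ l = k) ∧ (σ.I c m ∨ m = k) := by
    intro l m hlm
    have hlf : ∀ r ∈ R.map π.flipAut.toMonoidHom, r • l.1 = l.1 := by
      rintro _ ⟨r, hr, rfl⟩; exact l.2 r hr
    have hmf : ∀ r ∈ R.map π.flipAut.toMonoidHom, r • m.1 = m.1 := by
      rintro _ ⟨r, hr, rfl⟩; exact m.2 r hr
    obtain ⟨q, k, c, ⟨hkc, hk, hc, hqN, hq2, hax, hcen, x, hx, hqx⟩, h1, h2⟩ :=
      pair_witness (π := π.dual) h.dual hR.flip
        (by rw [fixPlane_flip_n]; exact hσodd) hlf hmf (fun e => hlm (Subtype.ext e))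
    have hk' : ∀ r ∈ R, r • k = k := fun r hr => hk _ ⟨r, hr, rfl⟩
    have hc' : ∀ r ∈ R, r • c = c := fun r hr => hc _ ⟨r, hr, rfl⟩
    obtain ⟨q, rfl⟩ := π.flipAut.surjective q
    have hqN' := mem_normalizer_flip hqN
    have hq2' : q * q ∈ R := by
      rw [← map_mul] at hq2
      exact (Subgroup.mem_map_iff_mem π.flipAut.injective).mp hq2
    have hflip : ∀ {y : P}, (∀ r ∈ R, r • y = y) →
        ∀ r ∈ R.map π.flipAut.toMonoidHom, r • y = y := fun {y} hy r hr => by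
      obtain ⟨r, hr, rfl⟩ := hr; exact hy r hr
    have hflipL : ∀ {y : L}, (∀ r ∈ R, r • y = y) →
        ∀ r ∈ R.map π.flipAut.toMonoidHom, r • y = y := fun {y} hy r hr => by
      obtain ⟨r, hr, rfl⟩ := hr; exact hy r hr
    have hw : Witness π R q c k := by
      refine ⟨hkc, hc', hk', hqN', hq2', fun p hp hpf => hcen p hp (hflip hpf),
        fun j hj hjf => hax j hj (hflipL hjf), ?_⟩
      by_contra hall
      push Not at hall
      have h1 : restrict R hRq ⟨q, hqN'⟩ = 1 :=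
        eq_one_of_fix_points fun p => Subtype.ext (hall p.1 p.2)
      have hxR : ∀ r ∈ R, r • x = x := fun r hr => hx _ ⟨r, hr, rfl⟩
      apply hqx
      show ((restrict R hRq ⟨q, hqN'⟩) • (⟨x, hxR⟩ : π.FixL R)).1 = x
      rw [h1, one_smul]
    obtain ⟨hc'', hk'', hHC⟩ := witness_HC hRq hw
    exact ⟨_, _, hHC, h1.imp (π.fixPlane_I R hRq ⟨c, hc''⟩ l).mpr Subtype.ext,
      h2.imp (π.fixPlane_I R hRq ⟨c, hc''⟩ m).mpr Subtype.ext⟩
  obtain ⟨p, e, hp, he, hpe⟩ :=
    (isPrimePow_nat_iff _).mp (isPrimePow_of_homologies (π := σ) hσodd hpts hlines)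
  rw [hj, isPrimePow_nat_iff]
  exact ⟨p, e * 2 ^ j, hp, by positivity, by rw [pow_mul, hpe]⟩

/-- In prime power order there is a perspectivity. -/
theorem primePow_not_noPersp (h : TwoTrans π) (hpp : IsPrimePow π.n) : ¬ NoPersp π := by
  classical
  intro hno
  obtain ⟨p, a, hp, ha, hpa⟩ := (isPrimePow_nat_iff _).mp hpp
  have : Fact p.Prime := ⟨hp⟩
  obtain ⟨B⟩ := π.nonempty
  obtain ⟨l, hBl⟩ := π.exists_line_through B
  obtain ⟨C, hCl, hCB⟩ := π.exists_point_ne l B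
  obtain ⟨Q⟩ : Nonempty (Sylow p (π.pairFix B C)) := inferInstance
  set Q0 := (Q : Subgroup (π.pairFix B C)).map (π.pairFix B C).subtype with hQ0
  have hQU : Q0 ≤ π.pairFix B C := Subgroup.map_subtype_le _
  have hQp : IsPGroup p Q0 := by rw [hQ0]; exact Q.2.map _
  have hQcard : Nat.card Q0 = p ^ (Nat.card (π.pairFix B C)).factorization p := by
    rw [hQ0, Subgroup.card_map_of_injective (Subgroup.subtype_injective _)]
    exact Q.card_eq_multiplicity
  -- transitivity on lines through a fixed point of `l`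
  have htr : ∀ Y Z, Y ≠ Z → π.I Y l → π.I Z l → Q0 ≤ π.pairFix Y Z →
      ∀ g g', π.I Y g → g ≠ l → π.I Y g' → g' ≠ l → ∃ x ∈ Q0, x • g = g' := by
    intro Y Z hYZ hY hZ hle g g' hg hgl hg' hgl'
    have hgZ : ∀ k, π.I Y k → k ≠ l → ¬ π.I Z k := fun k hk hkl e =>
      hkl (line_eq hYZ hk e hY hZ)
    set U := π.pairFix Y Z with hU
    have hUc : Nat.card U = Nat.card (π.pairFix B C) := by
      have h1 := h.card_pair hYZ
      rw [h.card_pair (Ne.symm hCB)] at h1
      exact (Nat.eq_of_mul_eq_mul_left (by have := π.two_le; positivity) h1).symm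
    obtain ⟨S, hS⟩ := IsPGroup.exists_le_sylow (p := p) (P := Q0.subgroupOf U)
      (hQp.of_equiv (Subgroup.subgroupOfEquivOfLe hle).symm)
    have hSeq : Q0.subgroupOf U = (S : Subgroup U) := Subgroup.eq_of_le_of_card_ge hS (by
      rw [Nat.card_congr (Subgroup.subgroupOfEquivOfLe hle).toEquiv, hQcard,
        S.card_eq_multiplicity, hUc])
    set Λ : Set L := {k | π.I Y k ∧ k ≠ l} with hΛ
    have hΛcard : Nat.card Λ = p ^ a := (π.card_punctured_lines Y l hY).trans hpa.symm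
    have hinv : ∀ (u : U) (k : L), k ∈ Λ → (u : π.Aut) • k ∈ Λ := by
      rintro u k ⟨hk, hkl⟩
      have hlu : (u : π.Aut) • l = l := fix_line hYZ hY hZ u.2.1 u.2.2
      refine ⟨?_, fun e => hkl (MulAction.injective (u : π.Aut) (e.trans hlu.symm))⟩
      have := (smul_I_iff (u : π.Aut) Y k).mpr hk
      rwa [show (u : π.Aut) • Y = Y from u.2.1] at this
    have horbU : MulAction.orbit U g = Λ := by
      ext k
      constructor
      · rintro ⟨u, rfl⟩; exact hinv u g ⟨hg, hgl⟩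
      · rintro ⟨hk, hkl⟩
        obtain ⟨u, hu, huk⟩ := h.lines_trans hYZ hg (hgZ g hg hgl) hk (hgZ k hk hkl)
        exact ⟨⟨u, hu⟩, huk⟩
    have hd : p ^ a ∣ Nat.card (MulAction.orbit (S : Subgroup U) g) := by
      refine pow_dvd_orbit S g (MulAction.stabilizer U g) a (fun u _ hu => hu) (dvd_of_eq ?_)
      rw [← hΛcard, ← horbU]
      exact card_orbit_mul_stab g
    have hsub : MulAction.orbit (S : Subgroup U) g ⊆ Λ := by
      rintro k ⟨u, rfl⟩; exact hinv u.1 g ⟨hg, hgl⟩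
    have heq : MulAction.orbit (S : Subgroup U) g = Λ := by
      refine Set.eq_of_subset_of_ncard_le hsub ?_
      rw [← Nat.card_coe_set_eq, ← Nat.card_coe_set_eq, hΛcard]
      have : Nonempty (MulAction.orbit (S : Subgroup U) g) := ⟨⟨g, MulAction.mem_orbit_self g⟩⟩
      exact Nat.le_of_dvd Nat.card_pos hd
    obtain ⟨u, hu⟩ : g' ∈ MulAction.orbit (S : Subgroup U) g := heq ▸ ⟨hg', hgl'⟩
    have humem : (u : U) ∈ Q0.subgroupOf U := by rw [hSeq]; exact u.2
    exact ⟨_, humem, hu⟩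
  obtain ⟨g0, hg0, hg0l⟩ := π.exists_line_ne B l
  have hQne : Q0 ≠ ⊥ := by
    intro e
    obtain ⟨g1, hg1, hg1l, hg10⟩ := π.exists_line_ne_ne B l g0
    obtain ⟨x, hx, hxg⟩ := htr B C (Ne.symm hCB) hBl hCl hQU g0 g1 hg0 hg0l hg1 hg1l
    rw [e, Subgroup.mem_bot] at hx
    rw [hx, one_smul] at hxg
    exact hg10 hxg.symm
  have : Nontrivial Q0 := (Subgroup.nontrivial_iff_ne_bot Q0).mpr hQne
  obtain ⟨⟨q', hq'c⟩, hq'1⟩ := @exists_ne _ hQp.center_nontrivial 1
  have hq1 : (q' : π.Aut) ≠ 1 := fun e => hq'1 (Subtype.ext (Subtype.ext e))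
  set q : π.Aut := (q' : π.Aut) with hq
  have hqQ : q ∈ Q0 := q'.2
  have hqc : ∀ x ∈ Q0, x * q = q * x := fun x hx =>
    congrArg Subtype.val ((Subgroup.mem_center_iff.mp hq'c) ⟨x, hx⟩)
  have hqB : q • B = B := (hQU hqQ).1
  have hqC : q • C = C := (hQU hqQ).2
  have hnofix : ∀ Y, π.I Y l → (∀ x ∈ Q0, x • Y = Y) →
      ∀ g, π.I Y g → g ≠ l → q • g ≠ g := by
    intro Y hY hYfix g hg hgl hfix
    obtain ⟨Z, hZ, hZY, hle⟩ : ∃ Z, π.I Z l ∧ Z ≠ Y ∧ Q0 ≤ π.pairFix Y Z := by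
      by_cases e : Y = B
      · exact ⟨C, hCl, e ▸ hCB, fun x hx => ⟨hYfix x hx, (hQU hx).2⟩⟩
      · exact ⟨B, hBl, Ne.symm e, fun x hx => ⟨hYfix x hx, (hQU hx).1⟩⟩
    have hc : π.Center q Y := by
      intro k hk
      by_cases hkl : k = l
      · exact hkl ▸ fix_line (Ne.symm hCB) hBl hCl hqB hqC
      obtain ⟨x, hx, rfl⟩ := htr Y Z (Ne.symm hZY) hY hZ hle g k hg hgl hk hkl
      rw [← mul_smul, ← hqc x hx, mul_smul, hfix]
    obtain ⟨m, hm⟩ := hc.exists_axis
    exact hq1 (hno q m hm)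
  have hlf : q • l = l := fix_line (Ne.symm hCB) hBl hCl hqB hqC
  have hpts : ∀ X, q • X = X → π.I X l := by
    intro X hX
    by_contra hXl
    have hXB : X ≠ B := fun e => hXl (e ▸ hBl)
    exact hnofix B hBl (fun x hx => (hQU hx).1) (π.join X B) (π.join_right X B)
      (fun e => hXl (e ▸ π.join_left X B)) (fix_join hXB hX hqB)
  have hone : ∀ g, q • g = g → g = l := by
    intro g hg
    by_contra hgl
    set Y := π.meet g l with hYdef
    have hY : q • Y = Y := fix_point hgl (π.meet_left g l) (π.meet_right g l) hg hlf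
    by_cases hall : ∀ x ∈ Q0, x • Y = Y
    · exact hnofix Y (π.meet_right g l) hall g (π.meet_left g l) hgl hg
    push Not at hall
    obtain ⟨x, hx, hxY⟩ := hall
    have hxl : x • l = l := fix_line (Ne.symm hCB) hBl hCl (hQU hx).1 (hQU hx).2
    have hxg : q • (x • g) = x • g := by rw [← mul_smul, ← hqc x hx, mul_smul, hg]
    have hne : x • g ≠ g := by
      intro e
      apply hxY
      exact fix_point hgl (π.meet_left g l) (π.meet_right g l) e hxl
    have hW := fix_point hne (π.meet_left (x • g) g) (π.meet_right (x • g) g) hxg hg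
    have hWl := hpts _ hW
    have hWY : π.meet (x • g) g = Y := (meet_eq hgl (π.meet_right _ _) hWl).symm
    have hxYl : π.I (x • Y) l := by
      conv => rhs; rw [← hxl]
      exact (smul_I_iff _ _ _).mpr (π.meet_right g l)
    have hxgl : x • g ≠ l := fun e => hgl (MulAction.injective x (e.trans hxl.symm))
    apply hxY
    exact point_eq hxgl ((smul_I_iff _ _ _).mpr (π.meet_left g l))
      (hWY ▸ π.meet_left (x • g) g) hxYl (π.meet_right g l)
  have hcount := π.card_fixed_eq q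
  have : Subsingleton {k : L // q • k = k} :=
    ⟨fun a b => Subtype.ext ((hone _ a.2).trans (hone _ b.2).symm)⟩
  have h1 : Nat.card {k : L // q • k = k} ≤ 1 := Finite.card_le_one_iff_subsingleton.mpr this
  have h2 : 2 ≤ Nat.card {X : P // q • X = X} := by
    have : Nontrivial {X : P // q • X = X} :=
      ⟨⟨⟨B, hqB⟩, ⟨C, hqC⟩, fun e => hCB (congrArg Subtype.val e).symm⟩⟩
    exact Finite.one_lt_card
  omega

/-- A nontrivial elation exists. -/
theorem exists_elation (h : TwoTrans π) :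
    ∃ (g : π.Aut) (c : P) (l : L), g ≠ 1 ∧ π.I c l ∧ π.Center g c ∧ π.Axis g l := by
  classical
  have hno : ¬ NoPersp π := fun hno =>
    primePow_not_noPersp h (isPrimePow_of_noPersp h hno) hno
  unfold NoPersp at hno
  push Not at hno
  obtain ⟨g, l, hgl, hg1⟩ := hno
  obtain ⟨c, hc, -⟩ := hgl.exists_center
  by_cases hcl : π.I c l
  · exact ⟨g, c, l, hg1, hcl, hc, hgl⟩
  obtain ⟨k, hk⟩ := π.exists_line_through c
  obtain ⟨c', hc'k, hc'ne, hc'o⟩ := π.exists_point_ne_ne k c (π.meet k l)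
  have hkl : k ≠ l := fun e => hcl (e ▸ hk)
  have hc'l : ¬ π.I c' l := fun e => hc'o (meet_eq hkl hc'k e).symm
  obtain ⟨t, htl, htc⟩ := h.off hcl hc'l
  have ha' : π.Axis (t * g * t⁻¹) l := by have := hgl.conj t; rwa [htl] at this
  have hne : t * g * t⁻¹ ≠ 1 := fun e => hg1 (conj_eq_one_iff.mp e)
  have hfix' : (t * g * t⁻¹) • c' = c' := by
    rw [← htc, mul_smul, mul_smul, inv_smul_smul, hc.point]
  obtain ⟨e, ⟨hea, d, hd, hec⟩, hedc⟩ :=
    exists_elation_homologies hgl ha' hg1 hne hc.point hfix' hcl hc'l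
  refine ⟨e, d, l, fun h1 => hc'ne ?_, hd, hec, hea⟩
  rw [← hedc, h1, one_smul]

end Plane

end Cfsg.Agent.H29.OW
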