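import Cfsg.Agent.H29.OW.Existence

/-!
A finite plane with a collineation group 2-transitive on points is a Moufang plane: every group of
elations with given centre and axis is transitive.
-/

set_option autoImplicit false
set_option linter.unusedSectionVars false

namespace Cfsg.Agent.H29.OW

namespace Plane

variable {P : Type*} {L : Type*}

/-- All elation groups are full. -/
def IsMoufang (π : Plane P L) : Prop :=
  ∀ (X : P) (m : L), π.I X m → ∀ (k : L), π.I X k → k ≠ m → ∀ Y Z : P, π.I Y k → Y ≠ X →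
    π.I Z k → Z ≠ X → ∃ e : π.Aut, (∀ p, π.I p m → e • p = p) ∧
      (∀ j, π.I X j → e • j = j) ∧ e • Y = Z

variable {π : Plane P L} [Finite P] [Finite L]

/-- Elations with centre `X` and axis `m`. -/
def elFlag (π : Plane P L) (X : P) (m : L) : Subgroup π.Aut :=
  π.centerSub X ⊓ π.axisSub m

theorem mem_elFlag {X : P} {m : L} {g : π.Aut} :
    g ∈ π.elFlag X m ↔ π.Center g X ∧ π.Axis g m := Iff.rfl

/-- An elation is determined by the image of one point off its axis. -/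
theorem elFlag_inj {X : P} {m : L} (hX : π.I X m) {k : L} (hk : π.I X k) (hkm : k ≠ m) {Y : P}
    (hY : π.I Y k) (hYX : Y ≠ X) {a b : π.Aut} (ha : a ∈ π.elFlag X m) (hb : b ∈ π.elFlag X m)
    (hab : a • Y = b • Y) : a = b := by
  have hmem := mem_elFlag.mp (mul_mem (inv_mem hb) ha)
  have hfix : (b⁻¹ * a) • Y = Y := by rw [mul_smul, hab, inv_smul_smul]
  refine (inv_mul_eq_one.mp ?_).symm
  by_contra hne
  rcases Axis.fixed_cases hmem.2 hmem.1 hne hfix with h' | h'
  · exact hYX (point_eq hkm hY hk h' hX)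
  · exact hYX h'

theorem elFlag_smul_mem {X : P} {m : L} {k : L} (hk : π.I X k) {Y : P}
    (hY : π.I Y k) (hYX : Y ≠ X) {g : π.Aut} (hg : g ∈ π.elFlag X m) :
    π.I (g • Y) k ∧ g • Y ≠ X := by
  have hc := (mem_elFlag.mp hg).1
  refine ⟨?_, fun e => hYX (MulAction.injective g (e.trans hc.point.symm))⟩
  have := (smul_I_iff g Y k).mpr hY
  rwa [hc k hk] at this

theorem elFlag_card_eq (h : TwoTrans π) {X Y : P} {l m : L} (hX : π.I X l) (hY : π.I Y m) :
    Nat.card (π.elFlag X l) = Nat.card (π.elFlag Y m) := by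
  obtain ⟨t, htl, htX⟩ := h.flag hX hY
  subst htl htX
  refine Nat.card_congr ⟨fun g => ⟨t * g.1 * t⁻¹, mem_elFlag.mpr
      ⟨(mem_elFlag.mp g.2).1.conj t, (mem_elFlag.mp g.2).2.conj t⟩⟩,
    fun g => ⟨t⁻¹ * g.1 * t, mem_elFlag.mpr ⟨?_, ?_⟩⟩,
    fun g => Subtype.ext (show t⁻¹ * (t * g.1 * t⁻¹) * t = g.1 by group),
    fun g => Subtype.ext (show t * (t⁻¹ * g.1 * t) * t⁻¹ = g.1 by group)⟩
  · have := (mem_elFlag.mp g.2).1.conj t⁻¹
    rwa [inv_smul_smul, inv_inv] at this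
  · have := (mem_elFlag.mp g.2).2.conj t⁻¹
    rwa [inv_smul_smul, inv_inv] at this

theorem one_lt_elFlag (h : TwoTrans π) {X : P} {l : L} (hX : π.I X l) :
    1 < Nat.card (π.elFlag X l) := by
  obtain ⟨g, c, m, hg1, hcm, hgc, hga⟩ := exists_elation h
  rw [elFlag_card_eq h hX hcm]
  have : Nontrivial (π.elFlag c m) :=
    ⟨⟨⟨g, hgc, hga⟩, 1, fun e => hg1 (congrArg Subtype.val e)⟩⟩
  exact Finite.one_lt_card

theorem card_elFlag (h : TwoTrans π) {X : P} {l : L} (hX : π.I X l) :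
    Nat.card (π.elFlag X l) = π.n := by
  classical
  set hh := Nat.card (π.elFlag X l) with hh_def
  have h2 : 2 ≤ hh := one_lt_elFlag h hX
  have hflag : ∀ C, π.I C l → Nat.card (π.elFlag C l) = hh := fun C hC => elFlag_card_eq h hC hX
  have hle : hh ≤ π.n := by
    obtain ⟨k, hk, hkl⟩ := π.exists_line_ne X l
    obtain ⟨Y, hY, hYX⟩ := π.exists_point_ne k X
    rw [← π.card_punctured k X hk]
    exact Nat.card_le_card_of_injective
      (fun g => ⟨(g.1 : π.Aut) • Y, elFlag_smul_mem hk hY hYX g.2⟩)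
      (fun a b hab => Subtype.ext (elFlag_inj hX hk hkl hY hYX a.2 b.2
        (congrArg Subtype.val hab :)))
  -- the group of elations with axis `l`
  set t := Nat.card (π.elAxis l) with ht
  have := Fintype.ofFinite {C : P // π.I C l}
  let ψ : (Σ C : {C : P // π.I C l}, {g : π.elFlag C.1 l // g ≠ 1}) →
      {g : π.elAxis l // g ≠ 1} := fun s =>
    ⟨⟨s.2.1.1, s.2.1.2.2, s.1.1, s.1.2, s.2.1.2.1⟩,
      fun e => s.2.2 (Subtype.ext (congrArg Subtype.val e :))⟩
  have hψ : Function.Bijective ψ := by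
    constructor
    · rintro ⟨C, ⟨g, hg⟩, hg1⟩ ⟨C', ⟨g', hg'⟩, hg1'⟩ he
      have hgg : g = g' := congrArg (fun s : {g : π.elAxis l // g ≠ 1} => s.1.1) he
      subst hgg
      have hCC : C = C' :=
        Subtype.ext (Center.center_eq hg.1 hg'.1 (fun e => hg1 (Subtype.ext e)))
      subst hCC
      rfl
    · rintro ⟨⟨g, hga, C, hC, hgc⟩, hg1⟩
      exact ⟨⟨⟨C, hC⟩, ⟨⟨g, hgc, hga⟩, fun e => hg1 (Subtype.ext (congrArg Subtype.val e :))⟩⟩, rfl⟩
  have hne1 : ∀ (G : Subgroup π.Aut), Nat.card {x : G // x ≠ 1} = Nat.card G - 1 := by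
    intro G
    have := Fintype.ofFinite G
    rw [Nat.card_eq_fintype_card, Nat.card_eq_fintype_card, Fintype.card_subtype_compl,
      Fintype.card_subtype_eq]
  have hcnt := Nat.card_eq_of_bijective ψ hψ
  have hs : ∀ C ∈ (Finset.univ : Finset {C : P // π.I C l}),
      Nat.card {g : π.elFlag C.1 l // g ≠ 1} = hh - 1 := fun C _ => by
    rw [hne1 (π.elFlag C.1 l), hflag C.1 C.2]
  rw [Nat.card_sigma, hne1 (π.elAxis l), Finset.sum_congr rfl hs] at hcnt
  rw [Finset.sum_const, Finset.card_univ, ← Nat.card_eq_fintype_card, π.card_line l, smul_eq_mul,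
    ← ht] at hcnt
  have htpos : 0 < t := Nat.card_pos
  have htn : π.n ≤ t := by
    have : π.n + 1 ≤ (π.n + 1) * (hh - 1) := Nat.le_mul_of_pos_right _ (by omega)
    omega
  -- it is an elementary abelian group
  obtain ⟨Y, hY, hYX⟩ := π.exists_point_ne l X
  have hex : ∀ C, π.I C l → ∃ g, g ≠ 1 ∧ g ∈ π.elFlag C l := by
    intro C hC
    by_contra hc
    push Not at hc
    have h1 := one_lt_elFlag h hC
    rw [(Subgroup.eq_bot_iff_forall _).mpr (fun g hg => by_contra fun hg1 => hc g hg1 hg),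
      Subgroup.card_bot] at h1
    exact lt_irrefl 1 h1
  obtain ⟨a, ha1, ha⟩ := hex X hX
  obtain ⟨b, hb1, hb⟩ := hex Y hY
  have htwo : π.dual.TwoAxes l :=
    ⟨π.flipAut a, π.flipAut b, X, Y, ⟨ha.2, X, hX, ha.1⟩, ⟨hb.2, Y, hY, hb.1⟩,
      fun e => ha1 (flip_eq_one.mp e), fun e => hb1 (flip_eq_one.mp e), ha.1, hb.1, Ne.symm hYX⟩
  have htn' : π.dual.n ≤ Nat.card (π.dual.elCenter l) := by
    rw [← π.card_elAxis_eq l, dual_n, ← ht]; exact htn
  obtain ⟨q, e, hq, he, hqe⟩ := (isPrimePow_nat_iff _).mp (htwo.isPrimePow htn')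
  obtain ⟨p, hp, -, hpg, -⟩ := htwo.structure
  have : Fact p.Prime := ⟨hp⟩
  obtain ⟨f, hf⟩ := hpg.exists_card_eq
  have htp : t = p ^ f := by rw [ht, π.card_elAxis_eq l, hf]
  have htd : t ∣ π.n * π.n := by
    rw [ht, π.card_elAxis_eq l]; exact π.dual.card_elCenter_dvd l
  have hn2 := π.two_le
  have hf0 : f ≠ 0 := fun e0 => by rw [e0, pow_zero] at htp; omega
  have hpq : p = q := by
    have h1 : p ∣ q ^ e * q ^ e := by
      have : p ∣ π.n * π.n := dvd_trans (htp ▸ dvd_pow_self p hf0) htd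
      rw [dual_n] at hqe
      rwa [← hqe] at this
    rcases hp.dvd_mul.mp h1 with h1 | h1 <;>
      exact (Nat.prime_dvd_prime_iff_eq hp hq).mp (hp.dvd_of_dvd_pow h1)
  subst hpq
  rw [dual_n] at hqe
  obtain ⟨b', hb'⟩ := (IsPGroup.of_injective hpg ((π.flipAut.toMonoidHom.comp
    (π.elFlag X l).subtype).codRestrict (π.dual.elCenter l)
      (fun g => ⟨(mem_elFlag.mp g.2).2, X, hX, (mem_elFlag.mp g.2).1⟩))
      (fun g g' e0 => Subtype.ext (π.flipAut.injective (congrArg Subtype.val e0 :)))).exists_card_eq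
  rw [← hh_def] at hb'
  by_contra hne
  have hlt : hh < π.n := lt_of_le_of_ne hle hne
  have hbe : b' < e := by
    rw [hb', ← hqe] at hlt
    exact (Nat.pow_lt_pow_iff_right hp.one_lt).mp hlt
  have hfb : b' + 1 ≤ f := by
    by_contra hcon
    have h1 : p ^ f ≤ p ^ b' := Nat.pow_le_pow_right hp.pos (by omega)
    rw [← htp, ← hb'] at h1
    omega
  have hN : p ^ (b' + 1) ∣ π.n * (hh - 1) := by
    rw [← hqe]; exact dvd_mul_of_dvd_left (Nat.pow_dvd_pow p (by omega)) _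
  have ht' : t = π.n * (hh - 1) + hh := by
    have h1 : (π.n + 1) * (hh - 1) = π.n * (hh - 1) + (hh - 1) := by ring
    omega
  have hT : p ^ (b' + 1) ∣ π.n * (hh - 1) + hh := ht' ▸ htp ▸ Nat.pow_dvd_pow p hfb
  have h3 := (Nat.dvd_add_right hN).mp hT
  rw [hb'] at h3
  have := (Nat.pow_dvd_pow_iff_le_right hp.one_lt).mp h3
  omega

theorem isMoufang_of_twoTrans (h : TwoTrans π) : IsMoufang π := by
  classical
  intro X m hX k hk hkm Y Z hY hYX hZ hZX
  let φ : π.elFlag X m → {p : P // π.I p k ∧ p ≠ X} := fun g =>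
    ⟨g.1 • Y, elFlag_smul_mem hk hY hYX g.2⟩
  have hinj : Function.Injective φ := fun a b hab =>
    Subtype.ext (elFlag_inj hX hk hkm hY hYX a.2 b.2 (congrArg Subtype.val hab :))
  have hbij := hinj.bijective_of_nat_card_le (by rw [card_elFlag h hX, π.card_punctured k X hk])
  obtain ⟨g, hg⟩ := hbij.surjective ⟨Z, hZ, hZX⟩
  exact ⟨g.1, (mem_elFlag.mp g.2).2, (mem_elFlag.mp g.2).1, congrArg Subtype.val hg⟩

end Plane

end Cfsg.Agent.H29.OW
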