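import Cfsg.Agent.H29.OW.Plane
import Cfsg.Agent.H29.OW.Fixity

/-!
Perspectivities, fixed subplanes and involutions of finite projective planes.
-/

set_option autoImplicit false
set_option linter.unusedSectionVars false

namespace Cfsg.Agent.H29.OW

namespace Plane

variable {P : Type*} {L : Type*} (π : Plane P L) [Finite P] [Finite L]

/-- `g` fixes every point of `l`. -/
def Axis (g : π.Aut) (l : L) : Prop := ∀ p, π.I p l → g • p = p

/-- `g` fixes every line through `c`. -/
def Center (g : π.Aut) (c : P) : Prop := ∀ l, π.I c l → g • l = l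

/-- no three of the four points are collinear -/
def Quad (a b c d : P) : Prop :=
  ∀ l, ¬ (π.I a l ∧ π.I b l ∧ π.I c l) ∧ ¬ (π.I a l ∧ π.I b l ∧ π.I d l) ∧
    ¬ (π.I a l ∧ π.I c l ∧ π.I d l) ∧ ¬ (π.I b l ∧ π.I c l ∧ π.I d l)

/-- The collineations in `H` fix a quadrangle pointwise. -/
def FixQuad (H : Subgroup π.Aut) : Prop :=
  ∃ a b c d : P, π.Quad a b c d ∧ ∀ h ∈ H, h • a = a ∧ h • b = b ∧ h • c = c ∧ h • d = d

variable {π}

theorem center_flip {g : π.Aut} {c : P} : π.Center g c ↔ π.dual.Axis (π.flipAut g) c := Iff.rfl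

theorem axis_flip {g : π.Aut} {l : L} : π.Axis g l ↔ π.dual.Center (π.flipAut g) l := Iff.rfl

theorem flip_eq_one {g : π.Aut} : π.flipAut g = 1 ↔ g = 1 := EmbeddingLike.map_eq_one_iff

theorem Axis.line {g : π.Aut} {l : L} (h : π.Axis g l) : g • l = l := by
  obtain ⟨p, hp⟩ := π.exists_point_on l
  obtain ⟨q, hq, hqp⟩ := π.exists_point_ne l p
  exact fix_line (Ne.symm hqp) hp hq (h p hp) (h q hq)

theorem Center.point {g : π.Aut} {c : P} (h : π.Center g c) : g • c = c :=
  Axis.line (π := π.dual) (g := π.flipAut g) h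

theorem axis_two {g : π.Aut} {l m : L} (hl : π.Axis g l) (hm : π.Axis g m) (hne : l ≠ m) :
    g = 1 := by
  apply eq_one_of_fix_points
  intro p
  by_cases hpl : π.I p l
  · exact hl p hpl
  by_cases hpm : π.I p m
  · exact hm p hpm
  have key : ∀ x, π.I x l → x ≠ π.meet l m → g • π.join p x = π.join p x := by
    intro x hx hxo
    have hxm : ¬ π.I x m := fun h => hxo (meet_eq hne hx h).symm
    set y := π.meet (π.join p x) m with hy
    have hym : π.I y m := π.meet_right _ _
    refine fix_line (p := x) (q := y) (fun e => hxm (by rw [e]; exact hym)) (π.join_right p x)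
      (π.meet_left _ _) (hl x hx) (hm y hym)
  obtain ⟨x, hx, hxo⟩ := π.exists_point_ne l (π.meet l m)
  obtain ⟨x', hx', hxo', hxx⟩ := π.exists_point_ne_ne l (π.meet l m) x
  have hd : π.join p x ≠ π.join p x' := by
    intro e
    have h2 : π.I x' (π.join p x) := by rw [e]; exact π.join_right p x'
    exact hpl (by
      have := line_eq (Ne.symm hxx) (π.join_right p x) h2 hx hx'
      rw [← this]
      exact π.join_left p x)
  exact fix_point hd (π.join_left p x) (π.join_left p x') (key x hx hxo) (key x' hx' hxo')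

theorem center_two {g : π.Aut} {c d : P} (hc : π.Center g c) (hd : π.Center g d) (hne : c ≠ d) :
    g = 1 :=
  flip_eq_one.mp (axis_two (π := π.dual) hc hd hne)

theorem Axis.center_of_fixed {g : π.Aut} {l : L} (h : π.Axis g l) {c : P} (hc : g • c = c)
    (hcl : ¬ π.I c l) : π.Center g c := by
  intro k hk
  have hx := π.meet_right k l
  exact fix_line (fun e : c = π.meet k l => hcl (by rw [e]; exact hx)) hk (π.meet_left k l) hc
    (h _ hx)

theorem Center.axis_of_fixed {g : π.Aut} {c : P} (h : π.Center g c) {l : L} (hl : g • l = l)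
    (hcl : ¬ π.I c l) : π.Axis g l :=
  Axis.center_of_fixed (π := π.dual) (g := π.flipAut g) h hl hcl

theorem Axis.fixed_cases {g : π.Aut} {l : L} {c : P} (h : π.Axis g l) (hc : π.Center g c)
    (hg : g ≠ 1) {p : P} (hp : g • p = p) : π.I p l ∨ p = c := by
  by_contra hcon
  push Not at hcon
  exact hg (center_two (h.center_of_fixed hp hcon.1) hc hcon.2)

theorem Center.fixed_cases {g : π.Aut} {l : L} {c : P} (hc : π.Center g c) (h : π.Axis g l)
    (hg : g ≠ 1) {k : L} (hk : g • k = k) : π.I c k ∨ k = l :=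
  Axis.fixed_cases (π := π.dual) (g := π.flipAut g) hc h (fun e => hg (flip_eq_one.mp e)) hk

theorem Axis.axis_eq {g : π.Aut} {l m : L} (hl : π.Axis g l) (hm : π.Axis g m) (hg : g ≠ 1) :
    l = m := by_contra fun h => hg (axis_two hl hm h)

theorem Center.center_eq {g : π.Aut} {c d : P} (hc : π.Center g c) (hd : π.Center g d)
    (hg : g ≠ 1) : c = d := by_contra fun h => hg (center_two hc hd h)

/-- A collineation with an axis has a centre. -/
theorem Axis.exists_center {g : π.Aut} {l : L} (h : π.Axis g l) :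
    ∃ c, π.Center g c ∧ (π.I c l ∨ g • c = c) := by
  by_cases hoff : ∃ c, g • c = c ∧ ¬ π.I c l
  · obtain ⟨c, hc, hcl⟩ := hoff
    exact ⟨c, h.center_of_fixed hc hcl, Or.inr hc⟩
  push Not at hoff
  have hline : ∀ p, ¬ π.I p l → g • π.join p (g • p) = π.join p (g • p) := by
    intro p hp
    have hpp : g • p ≠ p := fun e => hp (hoff p e)
    have hgp : ¬ π.I (g • p) l := fun e => hpp (MulAction.injective g (h _ e))
    set m := π.join p (g • p)
    set x := π.meet m l
    have hxl : π.I x l := π.meet_right _ _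
    refine line_eq (p := x) (q := g • p) (fun e => hgp (by rw [← e]; exact hxl)) ?_ ?_
      (π.meet_left m l) (π.join_right p (g • p))
    · rw [show x = g • x from (h x hxl).symm]
      exact (smul_I_iff g _ _).mpr (π.meet_left m l)
    · exact (smul_I_iff g _ _).mpr (π.join_left p (g • p))
  obtain ⟨p0, hp0⟩ := π.exists_off l
  set m0 := π.join p0 (g • p0) with hm0
  have hm0l : m0 ≠ l := fun e => hp0 (by rw [← e]; exact π.join_left _ _)
  set c := π.meet m0 l with hc
  have hcl : π.I c l := π.meet_right _ _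
  refine ⟨c, ?_, Or.inl hcl⟩
  intro k hk
  by_cases hkl : k = l
  · rw [hkl]; exact h.line
  obtain ⟨q, hq, hqc⟩ := π.exists_point_ne k c
  have hql : ¬ π.I q l := fun e => hqc (point_eq hkl hq hk e hcl)
  set mq := π.join q (g • q) with hmq
  suffices hcm : π.I c mq by
    have : k = mq := line_eq hqc hq hk (π.join_left _ _) hcm
    rw [this]
    exact hline q hql
  by_cases he : mq = m0
  · rw [he]; exact π.meet_left _ _
  have hx := fix_point he (π.meet_left mq m0) (π.meet_right mq m0) (hline q hql) (hline p0 hp0)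
  have hxl := hoff _ hx
  have hxc : c = π.meet mq m0 := meet_eq hm0l (π.meet_right mq m0) hxl
  rw [hxc]
  exact π.meet_left mq m0

theorem Center.exists_axis {g : π.Aut} {c : P} (h : π.Center g c) :
    ∃ l, π.Axis g l := by
  obtain ⟨l, hl, -⟩ := Axis.exists_center (π := π.dual) (g := π.flipAut g) h
  exact ⟨l, hl⟩

variable (π)

/-- Collineations fixing `l` pointwise. -/
def axisSub (l : L) : Subgroup π.Aut where
  carrier := {g | π.Axis g l}
  one_mem' := fun p _ => one_smul _ p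
  mul_mem' := by
    intro a b ha hb p hp
    rw [mul_smul, hb p hp, ha p hp]
  inv_mem' := by
    intro a ha p hp
    rw [inv_smul_eq_iff]
    exact (ha p hp).symm

theorem mem_axisSub {l : L} {g : π.Aut} : g ∈ π.axisSub l ↔ π.Axis g l := Iff.rfl

/-- Collineations fixing every line through `c`. -/
def centerSub (c : P) : Subgroup π.Aut := (π.dual.axisSub c).comap π.flipAut.toMonoidHom

theorem mem_centerSub {c : P} {g : π.Aut} : g ∈ π.centerSub c ↔ π.Center g c := Iff.rfl

variable {π}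

theorem Axis.conj {g : π.Aut} {l : L} (h : π.Axis g l) (t : π.Aut) :
    π.Axis (t * g * t⁻¹) (t • l) := by
  intro p hp
  rw [mul_smul, mul_smul, h _ ((smul_line_I_iff t p l).mp hp), smul_inv_smul]

theorem Center.conj {g : π.Aut} {c : P} (h : π.Center g c) (t : π.Aut) :
    π.Center (t * g * t⁻¹) (t • c) := by
  intro k hk
  rw [mul_smul, mul_smul, h _ ((smul_point_I_iff t c k).mp hk), smul_inv_smul]

/-! ### quadrangles -/

theorem Quad.ne {a b c d : P} (h : π.Quad a b c d) :
    a ≠ b ∧ a ≠ c ∧ a ≠ d ∧ b ≠ c ∧ b ≠ d ∧ c ≠ d := by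
  refine ⟨?_, ?_, ?_, ?_, ?_, ?_⟩ <;> intro e <;> subst e
  · obtain ⟨l, h1, h2⟩ := π.exists_line_through' a c
    exact (h l).1 ⟨h1, h1, h2⟩
  · obtain ⟨l, h1, h2⟩ := π.exists_line_through' a b
    exact (h l).1 ⟨h1, h2, h1⟩
  · obtain ⟨l, h1, h2⟩ := π.exists_line_through' a b
    exact (h l).2.1 ⟨h1, h2, h1⟩
  · obtain ⟨l, h1, h2⟩ := π.exists_line_through' a b
    exact (h l).1 ⟨h1, h2, h2⟩
  · obtain ⟨l, h1, h2⟩ := π.exists_line_through' a b
    exact (h l).2.1 ⟨h1, h2, h2⟩
  · obtain ⟨l, h1, h2⟩ := π.exists_line_through' a c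
    exact (h l).2.2.1 ⟨h1, h2, h2⟩

theorem Quad.dual {a b c d : P} (h : π.Quad a b c d) :
    π.dual.Quad (π.join a b) (π.join b c) (π.join c d) (π.join d a) := by
  obtain ⟨hab, -, had, hbc, -, hcd⟩ := h.ne
  intro p
  refine ⟨?_, ?_, ?_, ?_⟩ <;> rintro ⟨h1, h2, h3⟩ <;>
    simp only [dual_I] at h1 h2 h3
  · -- ab bc cd
    have e : p = b := point_eq (l := π.join a b) (m := π.join b c)
      (fun e => (h _).1 ⟨π.join_left a b, π.join_right a b, by rw [e]; exact π.join_right b c⟩)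
      h1 (π.join_right a b) h2 (π.join_left b c)
    subst e
    exact (h _).2.2.2 ⟨h3, π.join_left c d, π.join_right c d⟩
  · -- ab bc da
    have e : p = b := point_eq (l := π.join a b) (m := π.join b c)
      (fun e => (h _).1 ⟨π.join_left a b, π.join_right a b, by rw [e]; exact π.join_right b c⟩)
      h1 (π.join_right a b) h2 (π.join_left b c)
    subst e
    exact (h _).2.1 ⟨π.join_right d a, h3, π.join_left d a⟩
  · -- ab cd da
    have e : p = a := point_eq (l := π.join a b) (m := π.join d a)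
      (fun e => (h _).2.1 ⟨π.join_left a b, π.join_right a b, by rw [e]; exact π.join_left d a⟩)
      h1 (π.join_left a b) h3 (π.join_right d a)
    subst e
    exact (h _).2.2.1 ⟨h2, π.join_left c d, π.join_right c d⟩
  · -- bc cd da
    have e : p = c := point_eq (l := π.join b c) (m := π.join c d)
      (fun e => (h _).2.2.2 ⟨π.join_left b c, π.join_right b c, by rw [e]; exact π.join_right c d⟩)
      h1 (π.join_right b c) h2 (π.join_left c d)
    subst e
    exact (h _).2.2.1 ⟨π.join_right d a, h3, π.join_left d a⟩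

theorem FixQuad.mono {H K : Subgroup π.Aut} (h : π.FixQuad K) (hle : H ≤ K) : π.FixQuad H := by
  obtain ⟨a, b, c, d, hq, hf⟩ := h
  exact ⟨a, b, c, d, hq, fun x hx => hf x (hle hx)⟩

theorem FixQuad.flip {H : Subgroup π.Aut} (h : π.FixQuad H) :
    π.dual.FixQuad (H.map π.flipAut.toMonoidHom) := by
  obtain ⟨a, b, c, d, hq, hf⟩ := h
  refine ⟨_, _, _, _, hq.dual, ?_⟩
  rintro x ⟨g, hg, rfl⟩
  obtain ⟨ha, hb, hc, hd⟩ := hf g hg
  obtain ⟨hab, -, had, hbc, -, hcd⟩ := hq.ne
  exact ⟨fix_join hab ha hb, fix_join hbc hb hc, fix_join hcd hc hd,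
    fix_join (Ne.symm had) hd ha⟩

theorem FixQuad.two_off {H : Subgroup π.Aut} (h : π.FixQuad H) (l : L) :
    ∃ x y, x ≠ y ∧ ¬ π.I x l ∧ ¬ π.I y l ∧ ∀ g ∈ H, g • x = x ∧ g • y = y := by
  obtain ⟨a, b, c, d, hq, hf⟩ := h
  obtain ⟨hab, hac, had, hbc, hbd, hcd⟩ := hq.ne
  obtain ⟨h1, h2, h3, h4⟩ := hq l
  by_cases ha : π.I a l
  · by_cases hb : π.I b l
    · exact ⟨c, d, hcd, fun e => h1 ⟨ha, hb, e⟩, fun e => h2 ⟨ha, hb, e⟩,
        fun g hg => ⟨(hf g hg).2.2.1, (hf g hg).2.2.2⟩⟩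
    · by_cases hc : π.I c l
      · exact ⟨b, d, hbd, hb, fun e => h3 ⟨ha, hc, e⟩,
          fun g hg => ⟨(hf g hg).2.1, (hf g hg).2.2.2⟩⟩
      · exact ⟨b, c, hbc, hb, hc, fun g hg => ⟨(hf g hg).2.1, (hf g hg).2.2.1⟩⟩
  · by_cases hb : π.I b l
    · by_cases hc : π.I c l
      · exact ⟨a, d, had, ha, fun e => h4 ⟨hb, hc, e⟩,
          fun g hg => ⟨(hf g hg).1, (hf g hg).2.2.2⟩⟩
      · exact ⟨a, c, hac, ha, hc, fun g hg => ⟨(hf g hg).1, (hf g hg).2.2.1⟩⟩
    · exact ⟨a, b, hab, ha, hb, fun g hg => ⟨(hf g hg).1, (hf g hg).2.1⟩⟩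

theorem FixQuad.not_axis {H : Subgroup π.Aut} (h : π.FixQuad H) {g : π.Aut} (hg : g ∈ H)
    {l : L} (hl : π.Axis g l) : g = 1 := by
  obtain ⟨x, y, hxy, hx, hy, hf⟩ := h.two_off l
  exact center_two (hl.center_of_fixed (hf g hg).1 hx) (hl.center_of_fixed (hf g hg).2 hy) hxy

/-- An involution is a perspectivity or fixes a quadrangle. -/
theorem involution_cases {g : π.Aut} (hg2 : g * g = 1) :
    (∃ l, π.Axis g l) ∨ π.FixQuad (Subgroup.zpowers g) := by
  have hgg : ∀ l : L, g • (g • l) = l := fun l => by rw [← mul_smul, hg2, one_smul]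
  have hmoved : ∀ l : L, g • l ≠ l → ∃ p, π.I p l ∧ g • p = p := by
    intro l hl
    refine ⟨π.meet l (g • l), π.meet_left _ _, ?_⟩
    refine (meet_eq (Ne.symm hl) ?_ ((smul_I_iff g _ _).mpr (π.meet_left _ _))).symm
    have := (smul_I_iff g _ _).mpr (π.meet_right l (g • l))
    rwa [hgg] at this
  have hanother : ∀ a : P, ∃ x, g • x = x ∧ x ≠ a := by
    intro a
    by_contra hc
    push Not at hc
    have hfix : ∀ k, ¬ π.I a k → g • k = k := by
      intro k hk
      by_contra hne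
      obtain ⟨p, hp, hpf⟩ := hmoved k hne
      exact hk (by rw [← hc p hpf]; exact hp)
    obtain ⟨k1, hk1⟩ := π.exists_not_through a
    obtain ⟨x, hx⟩ := π.exists_point_on k1
    have hxa : x ≠ a := fun e => hk1 (by rw [← e]; exact hx)
    obtain ⟨k2, hk2, hk21, hk2a⟩ := π.exists_line_ne_ne x k1 (π.join x a)
    have hk2' : ¬ π.I a k2 := fun e => hk2a (join_eq hxa hk2 e).symm
    exact hxa (hc x (fix_point (Ne.symm hk21) hx hk2 (hfix k1 hk1) (hfix k2 hk2')))
  by_cases hquad : π.FixQuad (Subgroup.zpowers g)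
  · exact Or.inr hquad
  left
  have hgen : ∀ {a b c d : P}, π.Quad a b c d → g • a = a → g • b = b → g • c = c → g • d = d →
      False := by
    intro a b c d hq ha hb hc hd
    refine hquad ⟨a, b, c, d, hq, ?_⟩
    intro h hh
    have hle : Subgroup.zpowers g ≤ MulAction.stabilizer π.Aut a ⊓ MulAction.stabilizer π.Aut b ⊓
        (MulAction.stabilizer π.Aut c ⊓ MulAction.stabilizer π.Aut d) :=
      Subgroup.zpowers_le.mpr ⟨⟨ha, hb⟩, hc, hd⟩
    obtain ⟨⟨h1, h2⟩, h3, h4⟩ := hle hh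
    exact ⟨h1, h2, h3, h4⟩
  -- a line with two fixed points and at most one fixed point off it
  have hl0 : ∃ l0, (∃ a b, a ≠ b ∧ π.I a l0 ∧ π.I b l0 ∧ g • a = a ∧ g • b = b) ∧
      ∀ c d, g • c = c → g • d = d → ¬ π.I c l0 → ¬ π.I d l0 → c = d := by
    by_cases hthree : ∃ l a b e, a ≠ b ∧ a ≠ e ∧ b ≠ e ∧ π.I a l ∧ π.I b l ∧ π.I e l ∧
        g • a = a ∧ g • b = b ∧ g • e = e
    · obtain ⟨l, a, b, e, hab, hae, hbe, hal, hbl, hel, ha, hb, he⟩ := hthree
      refine ⟨l, ⟨a, b, hab, hal, hbl, ha, hb⟩, fun c d hc hd hcl hdl => ?_⟩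
      by_contra hcd
      have key : ∀ u v, u ≠ v → π.I u l → π.I v l → ¬ π.I u (π.join c d) →
          ¬ π.I v (π.join c d) → π.Quad u v c d := by
        intro u v huv hu hv hu' hv' k
        refine ⟨?_, ?_, ?_, ?_⟩ <;> rintro ⟨h1, h2, h3⟩
        · exact hcl (by rw [← line_eq huv h1 h2 hu hv]; exact h3)
        · exact hdl (by rw [← line_eq huv h1 h2 hu hv]; exact h3)
        · exact hu' (by rw [join_eq hcd h2 h3]; exact h1)
        · exact hv' (by rw [join_eq hcd h2 h3]; exact h1)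
      have hjl : π.join c d ≠ l := fun h => hcl (by rw [← h]; exact π.join_left _ _)
      by_cases hA : π.I a (π.join c d)
      · exact hgen (key b e hbe hbl hel (fun h => hab (point_eq hjl hA h hal hbl))
          (fun h => hae (point_eq hjl hA h hal hel))) hb he hc hd
      · by_cases hB : π.I b (π.join c d)
        · exact hgen (key a e hae hal hel hA
            (fun h => hbe (point_eq hjl hB h hbl hel))) ha he hc hd
        · exact hgen (key a b hab hal hbl hA hB) ha hb hc hd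
    · obtain ⟨p⟩ := π.nonempty
      obtain ⟨a, ha, -⟩ := hanother p
      obtain ⟨b, hb, hba⟩ := hanother a
      refine ⟨π.join a b, ⟨a, b, Ne.symm hba, π.join_left _ _, π.join_right _ _, ha, hb⟩,
        fun c d hc hd hcl hdl => ?_⟩
      by_contra hcd
      have hac : a ≠ c := fun h => hcl (by rw [← h]; exact π.join_left _ _)
      have had : a ≠ d := fun h => hdl (by rw [← h]; exact π.join_left _ _)
      have hbc : b ≠ c := fun h => hcl (by rw [← h]; exact π.join_right _ _)
      have hbd : b ≠ d := fun h => hdl (by rw [← h]; exact π.join_right _ _)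
      refine hgen (a := a) (b := b) (c := c) (d := d) ?_ ha hb hc hd
      intro k
      refine ⟨?_, ?_, ?_, ?_⟩ <;> rintro ⟨h1, h2, h3⟩
      · exact hthree ⟨k, a, b, c, Ne.symm hba, hac, hbc, h1, h2, h3, ha, hb, hc⟩
      · exact hthree ⟨k, a, b, d, Ne.symm hba, had, hbd, h1, h2, h3, ha, hb, hd⟩
      · exact hthree ⟨k, a, c, d, hac, had, hcd, h1, h2, h3, ha, hc, hd⟩
      · exact hthree ⟨k, b, c, d, hbc, hbd, hcd, h1, h2, h3, hb, hc, hd⟩
  obtain ⟨l0, ⟨a, b, hab, hal, hbl, ha, hb⟩, huniq⟩ := hl0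
  refine ⟨l0, fun x hx => ?_⟩
  by_contra hxf
  have hl0f : g • l0 = l0 := fix_line hab hal hbl ha hb
  have hvia : ∀ k, π.I x k → k ≠ l0 → ∃ p, π.I p k ∧ g • p = p ∧ ¬ π.I p l0 := by
    intro k hk hkl
    obtain ⟨p, hp, hpf⟩ := hmoved k (fun e => hxf (fix_point hkl hk hx e hl0f))
    refine ⟨p, hp, hpf, fun e => hxf ?_⟩
    rwa [point_eq hkl hk hp hx e]
  obtain ⟨k1, hk1, hk1l⟩ := π.exists_line_ne x l0
  obtain ⟨k2, hk2, hk2l, hk21⟩ := π.exists_line_ne_ne x l0 k1
  obtain ⟨p1, hp1, hf1, hn1⟩ := hvia k1 hk1 hk1l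
  obtain ⟨p2, hp2, hf2, hn2⟩ := hvia k2 hk2 hk2l
  have h12 := huniq p1 p2 hf1 hf2 hn1 hn2
  subst h12
  exact hk21 (line_eq (p := x) (q := p1) (fun e => hn1 (by rw [← e]; exact hx))
    hk2 hp2 hk1 hp1)

/-! ### fixed subplanes -/

variable (π)

/-- The points fixed by `H`. -/
abbrev FixP (H : Subgroup π.Aut) : Type _ := {p : P // ∀ h ∈ H, h • p = p}

/-- The lines fixed by `H`. -/
abbrev FixL (H : Subgroup π.Aut) : Type _ := {l : L // ∀ h ∈ H, h • l = l}

theorem exists_fixPlane (H : Subgroup π.Aut) (hq : π.FixQuad H) :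
    ∃ σ : Plane (π.FixP H) (π.FixL H), σ.I = fun p l => π.I p.1 l.1 := by
  classical
  obtain ⟨a, b, c, d, hq, hf⟩ := hq
  obtain ⟨hab, hac, had, hbc, hbd, hcd⟩ := hq.ne
  letI instM : Membership (π.FixP H) (π.FixL H) := ⟨fun l p => π.I p.1 l.1⟩
  let A : π.FixP H := ⟨a, fun h hh => (hf h hh).1⟩
  let B : π.FixP H := ⟨b, fun h hh => (hf h hh).2.1⟩
  let C : π.FixP H := ⟨c, fun h hh => (hf h hh).2.2.1⟩
  let D : π.FixP H := ⟨d, fun h hh => (hf h hh).2.2.2⟩
  let J : ∀ p q : π.FixP H, p.1 ≠ q.1 → π.FixL H := fun p q hne =>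
    ⟨π.join p.1 q.1, fun h hh => fix_join hne (p.2 h hh) (q.2 h hh)⟩
  let M : ∀ l m : π.FixL H, l.1 ≠ m.1 → π.FixP H := fun l m hne =>
    ⟨π.meet l.1 m.1, fun h hh =>
      fix_point hne (π.meet_left _ _) (π.meet_right _ _) (l.2 h hh) (m.2 h hh)⟩
  letI inst : Configuration.ProjectivePlane (π.FixP H) (π.FixL H) :=
    { exists_point := by
        intro l
        by_cases ha : π.I a l.1
        · by_cases hb : π.I b l.1
          · exact ⟨C, fun e => (hq l.1).1 ⟨ha, hb, e⟩⟩
          · exact ⟨B, hb⟩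
        · exact ⟨A, ha⟩
      exists_line := by
        intro p
        by_cases h1 : π.I p.1 (π.join a b)
        · by_cases h2 : π.I p.1 (π.join c d)
          · refine ⟨J A C hac, fun e => ?_⟩
            have e' : π.I p.1 (π.join a c) := e
            have hne : π.join a b ≠ π.join a c := fun h =>
              (hq _).1 ⟨π.join_left a b, π.join_right a b, by rw [h]; exact π.join_right a c⟩
            have hpa := point_eq hne h1 (π.join_left a b) e' (π.join_left a c)
            rw [hpa] at h2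
            exact (hq _).2.2.1 ⟨h2, π.join_left c d, π.join_right c d⟩
          · exact ⟨J C D hcd, h2⟩
        · exact ⟨J A B hab, h1⟩
      eq_or_eq := fun {p q l m} h1 h2 h3 h4 =>
        (π.uniq (p := p.1) (q := q.1) (l := l.1) (m := m.1) h1 h2 h3 h4).imp Subtype.ext Subtype.ext
      mkPoint := fun {l m} hne => M l m (fun e => hne (Subtype.ext e))
      mkPoint_ax := fun {l m} _ => ⟨π.meet_left _ _, π.meet_right _ _⟩
      mkLine := fun {p q} hne => J p q (fun e => hne (Subtype.ext e))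
      mkLine_ax := fun {p q} _ => ⟨π.join_left _ _, π.join_right _ _⟩
      exists_config := by
        refine ⟨D, A, B, J C D hcd, J A B hab, J A C hac, ?_, ?_, ?_, ?_, ?_, ?_, ?_, ?_⟩
        · exact fun e => (hq _).2.1 ⟨π.join_left a b, π.join_right a b, e⟩
        · exact fun e => (hq _).2.2.1 ⟨π.join_left a c, π.join_right a c, e⟩
        · exact fun e => (hq _).2.2.1 ⟨e, π.join_left c d, π.join_right c d⟩
        · exact π.join_left a b
        · exact π.join_left a c
        · exact fun e => (hq _).2.2.2 ⟨e, π.join_left c d, π.join_right c d⟩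
        · exact π.join_right a b
        · exact fun e => (hq _).1 ⟨π.join_left a c, e, π.join_right a c⟩ }
  exact ⟨{
    I := fun p l => π.I p.1 l.1
    n := Configuration.ProjectivePlane.order (π.FixP H) (π.FixL H)
    two_le := Configuration.ProjectivePlane.one_lt_order (π.FixP H) (π.FixL H)
    exists_join := fun p q hne =>
      ⟨J p q (fun e => hne (Subtype.ext e)), π.join_left _ _, π.join_right _ _⟩
    exists_meet := fun l m hne =>
      ⟨M l m (fun e => hne (Subtype.ext e)), π.meet_left _ _, π.meet_right _ _⟩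
    uniq := fun {p q l m} h1 h2 h3 h4 =>
      (π.uniq (p := p.1) (q := q.1) (l := l.1) (m := m.1) h1 h2 h3 h4).imp Subtype.ext Subtype.ext
    card_line := fun l => Configuration.ProjectivePlane.pointCount_eq (π.FixP H) l
    card_point := fun p => Configuration.ProjectivePlane.lineCount_eq (π.FixL H) p
    nonempty := ⟨A⟩ }, rfl⟩

/-- The fixed subplane. -/
noncomputable def fixPlane (H : Subgroup π.Aut) (hq : π.FixQuad H) :
    Plane (π.FixP H) (π.FixL H) := (π.exists_fixPlane H hq).choose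

theorem fixPlane_I (H : Subgroup π.Aut) (hq : π.FixQuad H) (p : π.FixP H) (l : π.FixL H) :
    (π.fixPlane H hq).I p l ↔ π.I p.1 l.1 := by
  rw [show (π.fixPlane H hq).I = fun p l => π.I p.1 l.1 from (π.exists_fixPlane H hq).choose_spec]

variable {π}

theorem smul_fix_mem {H : Subgroup π.Aut} {g : π.Aut}
    (hg : g ∈ Subgroup.normalizer (H : Set π.Aut)) {p : P} (hp : ∀ h ∈ H, h • p = p) :
    ∀ h ∈ H, h • (g • p) = g • p := by
  intro h hh
  have hg' := Subgroup.inv_mem _ hg
  have hmem : g⁻¹ * h * g ∈ H := by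
    have := (Subgroup.mem_normalizer_iff.mp hg' h).mp hh
    simpa using this
  have h' := congrArg (g • ·) (hp _ hmem)
  simpa [← mul_smul, mul_assoc] using h'

theorem smul_fix_mem_line {H : Subgroup π.Aut} {g : π.Aut}
    (hg : g ∈ Subgroup.normalizer (H : Set π.Aut)) {l : L} (hl : ∀ h ∈ H, h • l = l) :
    ∀ h ∈ H, h • (g • l) = g • l := by
  intro h hh
  have hg' := Subgroup.inv_mem _ hg
  have hmem : g⁻¹ * h * g ∈ H := by
    have := (Subgroup.mem_normalizer_iff.mp hg' h).mp hh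
    simpa using this
  have h' := congrArg (g • ·) (hl _ hmem)
  simpa [← mul_smul, mul_assoc] using h'

/-- Restriction of the normaliser to the fixed subplane. -/
noncomputable def restrict (H : Subgroup π.Aut) (hq : π.FixQuad H) :
    ↥(Subgroup.normalizer (H : Set π.Aut)) →* (π.fixPlane H hq).Aut where
  toFun g :=
    ⟨({ toFun := fun p => ⟨(g : π.Aut) • p.1, smul_fix_mem g.2 p.2⟩
        invFun := fun p => ⟨(g : π.Aut)⁻¹ • p.1, smul_fix_mem (Subgroup.inv_mem _ g.2) p.2⟩
        left_inv := fun p => Subtype.ext (inv_smul_smul _ _)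
        right_inv := fun p => Subtype.ext (smul_inv_smul _ _) },
      { toFun := fun p => ⟨(g : π.Aut) • p.1, smul_fix_mem_line g.2 p.2⟩
        invFun := fun p => ⟨(g : π.Aut)⁻¹ • p.1, smul_fix_mem_line (Subgroup.inv_mem _ g.2) p.2⟩
        left_inv := fun p => Subtype.ext (inv_smul_smul _ _)
        right_inv := fun p => Subtype.ext (smul_inv_smul _ _) }),
      fun p l => by rw [fixPlane_I, fixPlane_I]; exact smul_I_iff (g : π.Aut) p.1 l.1⟩
  map_one' := by
    refine Subtype.ext (Prod.ext (Equiv.ext fun p => Subtype.ext ?_)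
      (Equiv.ext fun p => Subtype.ext ?_)) <;> exact one_smul _ _
  map_mul' := by
    intro a b
    refine Subtype.ext (Prod.ext (Equiv.ext fun p => Subtype.ext ?_)
      (Equiv.ext fun p => Subtype.ext ?_)) <;> exact mul_smul (a : π.Aut) (b : π.Aut) _

theorem restrict_smul (H : Subgroup π.Aut) (hq : π.FixQuad H)
    (g : ↥(Subgroup.normalizer (H : Set π.Aut))) (p : π.FixP H) :
    ((restrict H hq g) • p).1 = (g : π.Aut) • p.1 := rfl

theorem restrict_smul_line (H : Subgroup π.Aut) (hq : π.FixQuad H)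
    (g : ↥(Subgroup.normalizer (H : Set π.Aut))) (l : π.FixL H) :
    ((restrict H hq g) • l).1 = (g : π.Aut) • l.1 := rfl

theorem restrict_ker_fixQuad {H K : Subgroup π.Aut} (hq : π.FixQuad H)
    (hK : ∀ k ∈ K, ∀ p : π.FixP H, k • p.1 = p.1) : π.FixQuad K := by
  obtain ⟨a, b, c, d, hquad, hf⟩ := hq
  exact ⟨a, b, c, d, hquad, fun k hk => ⟨hK k hk ⟨a, fun h hh => (hf h hh).1⟩,
    hK k hk ⟨b, fun h hh => (hf h hh).2.1⟩, hK k hk ⟨c, fun h hh => (hf h hh).2.2.1⟩,
    hK k hk ⟨d, fun h hh => (hf h hh).2.2.2⟩⟩⟩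

/-- A quadrangle of the fixed subplane is a quadrangle of the plane. -/
theorem fixPlane_quad {H : Subgroup π.Aut} (hq : π.FixQuad H) {a b c d : π.FixP H}
    (h : (π.fixPlane H hq).Quad a b c d) : π.Quad a.1 b.1 c.1 d.1 := by
  intro l
  have key : ∀ x y z : π.FixP H, x ≠ y → π.I x.1 l → π.I y.1 l → π.I z.1 l →
      ∃ l' : π.FixL H, (π.fixPlane H hq).I x l' ∧ (π.fixPlane H hq).I y l' ∧
        (π.fixPlane H hq).I z l' := by
    intro x y z hxy h1 h2 h3
    refine ⟨⟨l, fun g hg => fix_line (fun e => hxy (Subtype.ext e)) h1 h2 (x.2 g hg) (y.2 g hg)⟩,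
      ?_, ?_, ?_⟩ <;> rw [fixPlane_I] <;> assumption
  obtain ⟨hab, hac, had, hbc, -, -⟩ := h.ne
  refine ⟨?_, ?_, ?_, ?_⟩ <;> rintro ⟨h1, h2, h3⟩
  · obtain ⟨l', e⟩ := key a b c hab h1 h2 h3; exact (h l').1 e
  · obtain ⟨l', e⟩ := key a b d hab h1 h2 h3; exact (h l').2.1 e
  · obtain ⟨l', e⟩ := key a c d hac h1 h2 h3; exact (h l').2.2.1 e
  · obtain ⟨l', e⟩ := key b c d hbc h1 h2 h3; exact (h l').2.2.2 e

theorem fixPlane_card_line {H : Subgroup π.Aut} (hq : π.FixQuad H) {l : L}
    (hl : ∀ h ∈ H, h • l = l) :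
    Nat.card {p : P // π.I p l ∧ ∀ h ∈ H, h • p = p} = (π.fixPlane H hq).n + 1 := by
  rw [← (π.fixPlane H hq).card_line ⟨l, hl⟩]
  refine Nat.card_congr
    ⟨fun p => ⟨⟨p.1, p.2.2⟩, (π.fixPlane_I H hq _ _).mpr p.2.1⟩,
      fun p => ⟨p.1.1, (π.fixPlane_I H hq _ _).mp p.2, p.1.2⟩, fun _ => rfl, fun _ => rfl⟩

/-- A Baer involution: the fixed subplane has order the square root of the order. -/
theorem baer_order {g : π.Aut} (hg2 : g * g = 1) (hg : g ≠ 1)
    (hq : π.FixQuad (Subgroup.zpowers g)) :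
    π.n = (π.fixPlane _ hq).n * (π.fixPlane _ hq).n := by
  classical
  set σ := π.fixPlane _ hq
  have hz : ∀ {p : P}, g • p = p → ∀ h ∈ Subgroup.zpowers g, h • p = p := fun {p} hp h hh =>
    (Subgroup.zpowers_le.mpr (show g ∈ MulAction.stabilizer π.Aut p from hp)) hh
  obtain ⟨l⟩ := σ.nonempty_line
  obtain ⟨q, hql, hqf⟩ : ∃ q, π.I q l.1 ∧ g • q ≠ q := by
    by_contra hc
    push Not at hc
    exact hg (hq.not_axis (Subgroup.mem_zpowers g) hc)
  have hlf : g • l.1 = l.1 := l.2 g (Subgroup.mem_zpowers g)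
  have hgg : ∀ k : L, g • (g • k) = k := fun k => by rw [← mul_smul, hg2, one_smul]
  have hk : ∀ k, π.I q k → k ≠ l.1 → g • k ≠ k := fun k hk hkl e =>
    hqf (fix_point hkl hk hql e hlf)
  have hx : ∀ k, π.I q k → k ≠ l.1 →
      g • π.meet k (g • k) = π.meet k (g • k) ∧ ¬ π.I (π.meet k (g • k)) l.1 := by
    intro k hk' hkl
    have hfix : g • π.meet k (g • k) = π.meet k (g • k) := by
      refine (meet_eq (Ne.symm (hk k hk' hkl)) ?_
        ((smul_I_iff g _ _).mpr (π.meet_left _ _))).symm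
      have := (smul_I_iff g _ _).mpr (π.meet_right k (g • k))
      rwa [hgg] at this
    refine ⟨hfix, fun e => hqf ?_⟩
    rwa [point_eq hkl hk' (π.meet_left _ _) hql e]
  have e : {p : π.FixP (Subgroup.zpowers g) // ¬ σ.I p l} ≃ {k : L // π.I q k ∧ k ≠ l.1} := by
    refine ⟨fun p => ⟨π.join q p.1.1, π.join_left _ _, fun h => p.2 ?_⟩,
      fun k => ⟨⟨π.meet k.1 (g • k.1), hz (hx k.1 k.2.1 k.2.2).1⟩,
        fun h => (hx k.1 k.2.1 k.2.2).2 ((π.fixPlane_I _ hq _ _).mp h)⟩, ?_, ?_⟩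
    · refine (π.fixPlane_I _ hq _ _).mpr ?_
      rw [← h]
      exact π.join_right _ _
    · intro p
      have hp : g • p.1.1 = p.1.1 := p.1.2 g (Subgroup.mem_zpowers g)
      have hkl : π.join q p.1.1 ≠ l.1 := fun h => p.2 ((π.fixPlane_I _ hq _ _).mpr (by
        rw [← h]; exact π.join_right _ _))
      refine Subtype.ext (Subtype.ext (meet_eq (Ne.symm (hk _ (π.join_left _ _) hkl))
        (π.join_right _ _) ?_))
      conv_lhs => rw [← hp]
      exact (smul_I_iff g _ _).mpr (π.join_right _ _)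
    · intro k
      obtain ⟨hfix, hoff⟩ := hx k.1 k.2.1 k.2.2
      exact Subtype.ext (join_eq (fun h => hqf (by rw [h]; exact hfix)) k.2.1 (π.meet_left _ _))
  rw [← σ.card_off l, Nat.card_congr e, π.card_punctured_lines q l.1 hql]

end Plane

end Cfsg.Agent.H29.OW
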