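import Mathlib

/-!
Finite projective planes as bare incidence structures, with their collineation groups.
Used for the Ostrom-Wagner theorem.
-/

set_option autoImplicit false
set_option linter.unusedSectionVars false

namespace Cfsg.Agent.H29.OW

/-- A finite projective plane of order `n`, as an incidence relation with its axioms. -/
structure Plane (P : Type*) (L : Type*) where
  /-- incidence -/
  I : P → L → Prop
  /-- the order -/
  n : ℕ
  two_le : 2 ≤ n
  exists_join : ∀ p q : P, p ≠ q → ∃ l, I p l ∧ I q l
  exists_meet : ∀ l m : L, l ≠ m → ∃ p, I p l ∧ I p m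
  uniq : ∀ {p q : P} {l m : L}, I p l → I q l → I p m → I q m → p = q ∨ l = m
  card_line : ∀ l : L, Nat.card {p : P // I p l} = n + 1
  card_point : ∀ p : P, Nat.card {l : L // I p l} = n + 1
  nonempty : Nonempty P

namespace Plane

variable {P : Type*} {L : Type*} (π : Plane P L)

theorem exists_line_through (p : P) : ∃ l, π.I p l := by
  have h : Nat.card {l : L // π.I p l} ≠ 0 := by rw [π.card_point p]; omega
  obtain ⟨⟨l, hl⟩⟩ := (Nat.card_ne_zero.mp h).1
  exact ⟨l, hl⟩

theorem exists_point_on (l : L) : ∃ p, π.I p l := by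
  have h : Nat.card {p : P // π.I p l} ≠ 0 := by rw [π.card_line l]; omega
  obtain ⟨⟨p, hp⟩⟩ := (Nat.card_ne_zero.mp h).1
  exact ⟨p, hp⟩

theorem nonempty_line (π : Plane P L) : Nonempty L := by
  obtain ⟨p⟩ := π.nonempty
  obtain ⟨l, -⟩ := π.exists_line_through p
  exact ⟨l⟩

/-- The dual plane. -/
def dual : Plane L P where
  I l p := π.I p l
  n := π.n
  two_le := π.two_le
  exists_join := π.exists_meet
  exists_meet := π.exists_join
  uniq h1 h2 h3 h4 := (π.uniq h1 h3 h2 h4).symm
  card_line := π.card_point
  card_point := π.card_line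
  nonempty := π.nonempty_line

@[simp] theorem dual_n : π.dual.n = π.n := rfl

@[simp] theorem dual_I (l : L) (p : P) : π.dual.I l p ↔ π.I p l := Iff.rfl

theorem exists_line_through' (p q : P) : ∃ l, π.I p l ∧ π.I q l := by
  by_cases h : p = q
  · obtain ⟨l, hl⟩ := π.exists_line_through p
    exact ⟨l, hl, h ▸ hl⟩
  · exact π.exists_join p q h

/-- A line through `p` and `q`; unique if they differ. -/
noncomputable def join (p q : P) : L := Classical.choose (π.exists_line_through' p q)

theorem join_left (p q : P) : π.I p (π.join p q) :=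
  (Classical.choose_spec (π.exists_line_through' p q)).1

theorem join_right (p q : P) : π.I q (π.join p q) :=
  (Classical.choose_spec (π.exists_line_through' p q)).2

/-- A point on `l` and `m`; unique if they differ. -/
noncomputable def meet (l m : L) : P := π.dual.join l m

theorem meet_left (l m : L) : π.I (π.meet l m) l := π.dual.join_left l m

theorem meet_right (l m : L) : π.I (π.meet l m) m := π.dual.join_right l m

variable {π}

theorem line_eq {p q : P} {l m : L} (h : p ≠ q) (hpl : π.I p l) (hql : π.I q l)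
    (hpm : π.I p m) (hqm : π.I q m) : l = m :=
  (π.uniq hpl hql hpm hqm).resolve_left h

theorem point_eq {p q : P} {l m : L} (h : l ≠ m) (hpl : π.I p l) (hql : π.I q l)
    (hpm : π.I p m) (hqm : π.I q m) : p = q :=
  (π.uniq hpl hql hpm hqm).resolve_right h

theorem join_eq {p q : P} {l : L} (h : p ≠ q) (hp : π.I p l) (hq : π.I q l) : π.join p q = l :=
  line_eq h (π.join_left p q) (π.join_right p q) hp hq

theorem meet_eq {l m : L} {p : P} (h : l ≠ m) (hl : π.I p l) (hm : π.I p m) : π.meet l m = p :=
  point_eq h (π.meet_left l m) hl (π.meet_right l m) hm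

variable (π) [Finite P] [Finite L]

theorem exists_point_ne (l : L) (a : P) : ∃ p, π.I p l ∧ p ≠ a := by
  by_contra hc
  push Not at hc
  have : Subsingleton {p : P // π.I p l} :=
    ⟨fun x y => Subtype.ext ((hc _ x.2).trans (hc _ y.2).symm)⟩
  have h := Finite.card_le_one_iff_subsingleton.mpr this
  rw [π.card_line l] at h
  have := π.two_le
  omega

theorem exists_point_ne_ne (l : L) (a b : P) : ∃ p, π.I p l ∧ p ≠ a ∧ p ≠ b := by
  classical
  by_contra hc
  push Not at hc
  have hsub : {p : P | π.I p l} ⊆ {a, b} := by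
    intro p hp
    by_cases hpa : p = a
    · exact Or.inl hpa
    · exact Or.inr (hc p hp hpa)
  have h := Set.ncard_le_ncard hsub (Set.toFinite _)
  rw [← Nat.card_coe_set_eq] at h
  have h2 : ({a, b} : Set P).ncard ≤ 2 := (Set.ncard_insert_le _ _).trans (by simp)
  have := π.card_line l
  have := π.two_le
  simp only [Set.coe_ofPred] at h
  omega

theorem exists_line_ne (p : P) (a : L) : ∃ l, π.I p l ∧ l ≠ a := π.dual.exists_point_ne p a

theorem exists_line_ne_ne (p : P) (a b : L) : ∃ l, π.I p l ∧ l ≠ a ∧ l ≠ b :=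
  π.dual.exists_point_ne_ne p a b

theorem exists_off (l : L) : ∃ p, ¬ π.I p l := by
  obtain ⟨a, ha⟩ := π.exists_point_on l
  obtain ⟨m, ham, hml⟩ := π.exists_line_ne a l
  obtain ⟨p, hp, hpa⟩ := π.exists_point_ne m a
  exact ⟨p, fun h => hpa (point_eq hml hp ham h ha)⟩

theorem exists_not_through (p : P) : ∃ l, ¬ π.I p l := π.dual.exists_off p

theorem card_punctured (l : L) (a : P) (ha : π.I a l) :
    Nat.card {p : P // π.I p l ∧ p ≠ a} = π.n := by
  classical
  have h := π.card_line l
  have e : {p : P // π.I p l} ≃ Option {p : P // π.I p l ∧ p ≠ a} := by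
    refine ⟨fun x => if hx : x.1 = a then none else some ⟨x.1, x.2, hx⟩,
      fun o => o.elim ⟨a, ha⟩ (fun y => ⟨y.1, y.2.1⟩), ?_, ?_⟩
    · intro x
      by_cases hx : x.1 = a
      · simp only [hx, dite_true, Option.elim_none]
        exact Subtype.ext hx.symm
      · simp [hx]
    · intro o
      cases o with
      | none => simp
      | some y => simp [y.2.2]
  rw [Nat.card_congr e, Finite.card_option] at h
  omega

theorem card_punctured_lines (p : P) (a : L) (ha : π.I p a) :
    Nat.card {l : L // π.I p l ∧ l ≠ a} = π.n := π.dual.card_punctured p a ha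

/-- Affine points: points off a line. -/
theorem card_P : Nat.card P = π.n * π.n + π.n + 1 := by
  classical
  obtain ⟨a⟩ := π.nonempty
  have e : P ≃ Option (Σ l : {l : L // π.I a l}, {p : P // π.I p l.1 ∧ p ≠ a}) := by
    refine ⟨fun p => if hp : p = a then none else
        some ⟨⟨π.join a p, π.join_left a p⟩, ⟨p, π.join_right a p, hp⟩⟩,
      fun o => o.elim a (fun y => y.2.1), ?_, ?_⟩
    · intro p
      by_cases hp : p = a
      · simp [hp]
      · simp [hp]
    · intro o
      cases o with
      | none => simp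
      | some y =>
        obtain ⟨⟨l, hl⟩, ⟨p, hp, hpa⟩⟩ := y
        have hj : π.join a p = l := join_eq (Ne.symm hpa) hl hp
        subst hj
        simp [hpa]
  have := Fintype.ofFinite {l : L // π.I a l}
  rw [Nat.card_congr e, Finite.card_option, Nat.card_sigma,
    Finset.sum_congr rfl (fun l _ => π.card_punctured l.1 a l.2), Finset.sum_const,
    Finset.card_univ, ← Nat.card_eq_fintype_card, π.card_point a, smul_eq_mul]
  ring

theorem card_L : Nat.card L = π.n * π.n + π.n + 1 := π.dual.card_P

theorem card_off (l : L) : Nat.card {p : P // ¬ π.I p l} = π.n * π.n := by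
  classical
  have h : Nat.card P = Nat.card {p : P // π.I p l} + Nat.card {p : P // ¬ π.I p l} := by
    rw [← Nat.card_sum]; exact Nat.card_congr (Equiv.sumCompl _).symm
  rw [π.card_P, π.card_line l] at h
  omega

theorem card_not_through (p : P) : Nat.card {l : L // ¬ π.I p l} = π.n * π.n :=
  π.dual.card_off p

/-! ### collineations -/

/-- Pairs of permutations preserving incidence. -/
def autSub : Subgroup (Equiv.Perm P × Equiv.Perm L) where
  carrier := {g | ∀ p l, π.I (g.1 p) (g.2 l) ↔ π.I p l}
  one_mem' := fun p l => Iff.rfl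
  mul_mem' := by
    intro a b ha hb p l
    show π.I (a.1 (b.1 p)) (a.2 (b.2 l)) ↔ _
    rw [ha, hb]
  inv_mem' := by
    intro a ha p l
    have h := ha (a.1⁻¹ p) (a.2⁻¹ l)
    simp only [Equiv.Perm.coe_inv, Equiv.apply_symm_apply] at h
    exact h.symm

/-- The full collineation group. -/
abbrev Aut := ↥π.autSub

instance actPoint : MulAction π.Aut P where
  smul g p := g.1.1 p
  one_smul _ := rfl
  mul_smul _ _ _ := rfl

instance actLine : MulAction π.Aut L where
  smul g l := g.1.2 l
  one_smul _ := rfl
  mul_smul _ _ _ := rfl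

variable {π}

theorem smul_I_iff (g : π.Aut) (p : P) (l : L) : π.I (g • p) (g • l) ↔ π.I p l := g.2 p l

theorem smul_line_I_iff (g : π.Aut) (p : P) (l : L) : π.I p (g • l) ↔ π.I (g⁻¹ • p) l := by
  conv_lhs => rw [← smul_inv_smul g p]
  exact smul_I_iff g _ _

theorem smul_point_I_iff (g : π.Aut) (p : P) (l : L) : π.I (g • p) l ↔ π.I p (g⁻¹ • l) := by
  conv_lhs => rw [← smul_inv_smul g l]
  exact smul_I_iff g _ _

theorem smul_join (g : π.Aut) {p q : P} (h : p ≠ q) :
    g • π.join p q = π.join (g • p) (g • q) :=
  (join_eq (fun e => h (MulAction.injective g e)) ((smul_I_iff g _ _).mpr (π.join_left p q))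
    ((smul_I_iff g _ _).mpr (π.join_right p q))).symm

theorem fix_join {g : π.Aut} {p q : P} (h : p ≠ q) (hp : g • p = p) (hq : g • q = q) :
    g • π.join p q = π.join p q := by rw [smul_join g h, hp, hq]

/-- A line with two fixed points is fixed. -/
theorem fix_line {g : π.Aut} {p q : P} {l : L} (h : p ≠ q) (hpl : π.I p l) (hql : π.I q l)
    (hp : g • p = p) (hq : g • q = q) : g • l = l := by
  rw [← join_eq h hpl hql]; exact fix_join h hp hq

/-- A point on two fixed lines is fixed. -/
theorem fix_point {g : π.Aut} {l m : L} {p : P} (h : l ≠ m) (hl : π.I p l) (hm : π.I p m)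
    (hgl : g • l = l) (hgm : g • m = m) : g • p = p := by
  refine point_eq h ?_ hl ?_ hm
  · conv_rhs => rw [← hgl]
    exact (smul_I_iff g p l).mpr hl
  · conv_rhs => rw [← hgm]
    exact (smul_I_iff g p m).mpr hm

theorem eq_one_of_fix_points {g : π.Aut} (h : ∀ p : P, g • p = p) : g = 1 := by
  apply Subtype.ext
  apply Prod.ext
  · exact Equiv.ext h
  · refine Equiv.ext fun l => ?_
    obtain ⟨p, hp⟩ := π.exists_point_on l
    obtain ⟨q, hq, hqp⟩ := π.exists_point_ne l p
    exact fix_line (Ne.symm hqp) hp hq (h p) (h q)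

variable (π)

/-- The duality isomorphism of collineation groups. -/
def flipAut : π.Aut ≃* π.dual.Aut where
  toFun g := ⟨(g.1.2, g.1.1), fun l p => g.2 p l⟩
  invFun g := ⟨(g.1.2, g.1.1), fun p l => g.2 l p⟩
  left_inv _ := rfl
  right_inv _ := rfl
  map_mul' _ _ := rfl

@[simp] theorem flipAut_smul_line (g : π.Aut) (l : L) : π.flipAut g • l = g • l := rfl

@[simp] theorem flipAut_smul_point (g : π.Aut) (p : P) : π.flipAut g • p = g • p := rfl

/-! ### fixed elements -/

theorem sum_fixed_aux (α : Type*) [Fintype α] (f : α → Prop) [DecidablePred f] (n : ℕ) :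
    (∑ a : α, if f a then n + 1 else 1) = n * Nat.card {a // f a} + Nat.card α := by
  have h1 : ∀ a : α, (if f a then n + 1 else 1) = n * (if f a then 1 else 0) + 1 := by
    intro a; split_ifs <;> simp
  rw [Finset.sum_congr rfl (fun a _ => h1 a), Finset.sum_add_distrib, ← Finset.mul_sum,
    Finset.sum_boole, Finset.sum_const, Nat.card_eq_fintype_card, Nat.card_eq_fintype_card,
    Fintype.card_subtype]
  simp

/-- A collineation fixes as many points as lines. -/
theorem card_fixed_eq (g : π.Aut) :
    Nat.card {p : P // g • p = p} = Nat.card {l : L // g • l = l} := by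
  classical
  have := Fintype.ofFinite P
  have := Fintype.ofFinite L
  have hP : Nat.card {x : P × L // π.I x.1 x.2 ∧ π.I (g • x.1) x.2} =
      ∑ p : P, if g • p = p then π.n + 1 else 1 := by
    rw [Nat.card_congr (Equiv.subtypeProdEquivSigmaSubtype
      (fun p l => π.I p l ∧ π.I (g • p) l)), Nat.card_sigma]
    refine Finset.sum_congr rfl fun p _ => ?_
    split_ifs with hp
    · rw [hp]
      simp only [and_self]
      exact π.card_point p
    · have : Unique {l : L // π.I p l ∧ π.I (g • p) l} :=
        ⟨⟨⟨π.join p (g • p), π.join_left _ _, π.join_right _ _⟩⟩,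
          fun l => Subtype.ext (join_eq (Ne.symm hp) l.2.1 l.2.2).symm⟩
      exact Nat.card_unique
  have hL : Nat.card {x : P × L // π.I x.1 x.2 ∧ π.I (g • x.1) x.2} =
      ∑ l : L, if g • l = l then π.n + 1 else 1 := by
    let e' : {x : P × L // π.I x.1 x.2 ∧ π.I (g • x.1) x.2} ≃
        {y : L × P // π.I y.2 y.1 ∧ π.I (g • y.2) y.1} :=
      (Equiv.prodComm P L).subtypeEquiv (fun x => Iff.rfl)
    rw [Nat.card_congr e', Nat.card_congr (Equiv.subtypeProdEquivSigmaSubtype
      (fun l p => π.I p l ∧ π.I (g • p) l)), Nat.card_sigma]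
    refine Finset.sum_congr rfl fun l _ => ?_
    have key : ∀ p, π.I (g • p) l ↔ π.I p (g⁻¹ • l) := fun p => smul_point_I_iff g p l
    split_ifs with hl
    · have hl' : g⁻¹ • l = l := by
        conv_lhs => rw [← hl]
        exact inv_smul_smul g l
      simp only [key, hl', and_self]
      exact π.card_line l
    · have hne : l ≠ g⁻¹ • l := fun e => hl (by
        conv_lhs => rw [e]
        exact smul_inv_smul g l)
      simp only [key]
      have : Unique {p : P // π.I p l ∧ π.I p (g⁻¹ • l)} :=
        ⟨⟨⟨π.meet l (g⁻¹ • l), π.meet_left _ _, π.meet_right _ _⟩⟩,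
          fun p => Subtype.ext (meet_eq hne p.2.1 p.2.2).symm⟩
      exact Nat.card_unique
  rw [hP] at hL
  rw [sum_fixed_aux P _ π.n, sum_fixed_aux L _ π.n, π.card_P, π.card_L] at hL
  have h2 : π.n * Nat.card {p : P // g • p = p} = π.n * Nat.card {l : L // g • l = l} := by
    omega
  exact Nat.eq_of_mul_eq_mul_left (by have := π.two_le; omega) h2

/-- A subgroup of collineations has as many point orbits as line orbits. -/
theorem card_orbits_eq (H : Subgroup π.Aut) :
    Nat.card (Quotient (MulAction.orbitRel H P)) =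
      Nat.card (Quotient (MulAction.orbitRel H L)) := by
  classical
  have := Fintype.ofFinite P
  have := Fintype.ofFinite L
  have := Fintype.ofFinite H
  have hf : ∀ h : H, Fintype.card (MulAction.fixedBy P h) =
      Fintype.card (MulAction.fixedBy L h) := by
    intro h
    rw [← Nat.card_eq_fintype_card, ← Nat.card_eq_fintype_card]
    exact π.card_fixed_eq h.1
  have h1 := MulAction.sum_card_fixedBy_eq_card_orbits_mul_card_group H P
  have h2 := MulAction.sum_card_fixedBy_eq_card_orbits_mul_card_group H L
  rw [Finset.sum_congr rfl (fun h _ => hf h), h2] at h1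
  rw [Nat.card_eq_fintype_card, Nat.card_eq_fintype_card]
  exact (Nat.eq_of_mul_eq_mul_right Fintype.card_pos h1).symm

end Plane

end Cfsg.Agent.H29.OW
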