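import Cfsg.Agent.H29.OW.Elation

/-!
A finite projective plane of odd order in which every pair of points and every pair of lines is
fixed by an involutory homology has prime power order.
-/

set_option autoImplicit false
set_option linter.unusedSectionVars false

namespace Cfsg.Agent.H29.OW

namespace Plane

variable {P : Type*} {L : Type*} (π : Plane P L) [Finite P] [Finite L]

/-- There is an involutory homology with centre `c` and axis `l`. -/
def HC (c : P) (l : L) : Prop :=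
  ¬ π.I c l ∧ ∃ g : π.Aut, g ≠ 1 ∧ g * g = 1 ∧ π.Center g c ∧ π.Axis g l

/-- `elCenter X` consists of `n` elations, all with axis `m`. -/
def Full (X : P) (m : L) : Prop :=
  π.I X m ∧ (∀ a ∈ π.elCenter X, π.Axis a m) ∧ Nat.card (π.elCenter X) = π.n

variable {π}

theorem HC.conj {c : P} {l : L} (h : π.HC c l) (t : π.Aut) : π.HC (t • c) (t • l) := by
  obtain ⟨hcl, g, hg, hg2, hc, ha⟩ := h
  refine ⟨by rwa [smul_I_iff], t * g * t⁻¹, fun e => hg (conj_eq_one_iff.mp e), ?_, hc.conj t,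
    ha.conj t⟩
  rw [show t * g * t⁻¹ * (t * g * t⁻¹) = t * (g * g) * t⁻¹ by group, hg2]
  group

theorem HC.flip {c : P} {l : L} (h : π.HC c l) : π.dual.HC l c := by
  obtain ⟨hcl, g, hg, hg2, hc, ha⟩ := h
  exact ⟨hcl, π.flipAut g, fun e => hg (flip_eq_one.mp e), by rw [← map_mul, hg2, map_one], ha, hc⟩

theorem HC.unflip {c : P} {l : L} (h : π.dual.HC l c) : π.HC c l := by
  obtain ⟨hcl, g, hg, hg2, hc, ha⟩ := h
  exact ⟨hcl, π.flipAut.symm g, fun e => hg (by simpa using congrArg π.flipAut e),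
    by rw [← map_mul, hg2, map_one], ha, hc⟩

theorem HC.exists_el {X : P} {l m : L} (h : π.HC X l) (h' : π.HC X m) :
    ∃ e ∈ π.elCenter X, e • l = m := by
  obtain ⟨hl, g, hg, -, hc, ha⟩ := h
  obtain ⟨hm, g', hg', -, hc', ha'⟩ := h'
  exact exists_elation_homologies' hc hc' hg hg' ha.line ha'.line hl hm

theorem eq_of_dvd_of_two_mul_ge {n d : ℕ} (hn : Odd n) (hd : d ∣ n) (h : n ≤ 2 * d) : d = n := by
  obtain ⟨j, rfl⟩ := hd
  have hd0 : 0 < d := Nat.pos_of_ne_zero (fun e => by subst e; simp at hn)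
  have hj : j ≤ 2 := Nat.le_of_mul_le_mul_left (by rw [mul_comm d 2]; exact h) hd0
  interval_cases j
  · simp at hn
  · simp
  · exact absurd hn (by simp [parity_simps])

/-- An elation group with a large orbit on a line through its centre. -/
theorem pp_or_full_of_orbit (hodd : Odd π.n) {X Y : P} {g : L} (hXg : π.I X g) (hYg : π.I Y g)
    (hYX : Y ≠ X) (hbig : π.n ≤ 2 * Nat.card (MulAction.orbit (π.elCenter X) Y)) :
    IsPrimePow π.n ∨ ∃ m, π.Full X m := by
  classical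
  obtain ⟨hd, hdK⟩ := elCenter_orbit hXg hYg hYX
  have hdn := eq_of_dvd_of_two_mul_ge hodd hd hbig
  rw [hdn] at hdK
  by_cases h2 : π.TwoAxes X
  · left
    exact h2.isPrimePow (hdK ▸ Nat.le_mul_of_pos_right _ Nat.card_pos)
  right
  have hEn : π.n ≤ Nat.card (π.elCenter X) := hdK ▸ Nat.le_mul_of_pos_right _ Nat.card_pos
  obtain ⟨a, ha, ha1⟩ : ∃ a ∈ π.elCenter X, a ≠ 1 := by
    by_contra hc
    push Not at hc
    have : Nat.card (π.elCenter X) = 1 := by
      rw [(Subgroup.eq_bot_iff_forall _).mpr hc, Subgroup.card_bot]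
    have := π.two_le
    omega
  obtain ⟨hca, m, hXm, hm⟩ := id ha
  have hall : ∀ b ∈ π.elCenter X, π.Axis b m := by
    intro b hb
    by_cases hb1 : b = 1
    · subst hb1; exact (π.axisSub m).one_mem
    obtain ⟨-, m', -, hm'⟩ := id hb
    by_cases e : m' = m
    · exact e ▸ hm'
    · exact absurd ⟨a, b, m, m', ha, hb, ha1, hb1, hm, hm', Ne.symm e⟩ h2
  refine ⟨m, hXm, hall, ?_⟩
  have hmg : m ≠ g := by
    rintro rfl
    have hK : Nat.card ↥(π.elCenter X ⊓ π.axisSub m) = Nat.card (π.elCenter X) := by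
      rw [inf_eq_left.mpr (fun b hb => hall b hb)]
    rw [hK] at hdK
    have hpos : 0 < Nat.card (π.elCenter X) := Nat.card_pos
    have := π.two_le
    nlinarith
  have hK1 : π.elCenter X ⊓ π.axisSub g = ⊥ := by
    rw [eq_bot_iff]
    rintro b ⟨hb, hbg⟩
    exact axis_two (hall b hb) hbg hmg
  rw [hK1, Subgroup.card_bot, mul_one] at hdK
  exact hdK.symm

theorem pair_cases (hP : ∀ X Y : P, X ≠ Y → ∃ c l, π.HC c l ∧ (π.I X l ∨ X = c) ∧ (π.I Y l ∨ Y = c))
    {g : L} (hg : ∀ c, ¬ π.HC c g) {U V : P} (hU : π.I U g) (hV : π.I V g) (hUV : U ≠ V) :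
    (∃ l, π.HC U l ∧ π.I V l) ∨ (∃ l, π.HC V l ∧ π.I U l) := by
  obtain ⟨c, l, hcl, hUl, hVl⟩ := hP U V hUV
  rcases hUl with hUl | rfl
  · rcases hVl with hVl | rfl
    · exact absurd (line_eq hUV hUl hVl hU hV ▸ hcl) (hg c)
    · exact Or.inr ⟨l, hcl, hUl⟩
  · rcases hVl with hVl | rfl
    · exact Or.inl ⟨l, hcl, hVl⟩
    · exact absurd rfl hUV

/-- A line which is not an axis. -/
theorem pp_or_full_of_nonaxis (hodd : Odd π.n)
    (hP : ∀ X Y : P, X ≠ Y → ∃ c l, π.HC c l ∧ (π.I X l ∨ X = c) ∧ (π.I Y l ∨ Y = c))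
    {g : L} (hg : ∀ c, ¬ π.HC c g) : IsPrimePow π.n ∨ ∃ X m, π.Full X m := by
  classical
  have := Fintype.ofFinite P
  set S : Finset P := Finset.univ.filter (fun p => π.I p g) with hS
  have hScard : S.card = π.n + 1 := by
    rw [← π.card_line g, Nat.card_eq_fintype_card, Fintype.card_subtype]
  set A : Finset (P × P) :=
    S.offDiag.filter (fun x => ∃ l, π.HC x.1 l ∧ π.I x.2 l) with hA
  have hsub : S.offDiag ⊆ A ∪ A.image Prod.swap := by
    rintro ⟨u, v⟩ hx
    obtain ⟨hu, hv, huv⟩ := Finset.mem_offDiag.mp hx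
    rw [hS, Finset.mem_filter] at hu hv
    rcases pair_cases hP hg hu.2 hv.2 huv with h | h
    · exact Finset.mem_union_left _ (Finset.mem_filter.mpr ⟨hx, h⟩)
    · refine Finset.mem_union_right _ (Finset.mem_image.mpr ⟨(v, u), ?_, rfl⟩)
      refine Finset.mem_filter.mpr ⟨Finset.mem_offDiag.mpr ?_, h⟩
      exact ⟨by simp [hS, hv.2], by simp [hS, hu.2], Ne.symm huv⟩
  have hA2 : (π.n + 1) * π.n ≤ 2 * A.card := by
    have h := (Finset.card_le_card hsub).trans (Finset.card_union_le _ _)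
    have h' := Finset.card_image_le (s := A) (f := Prod.swap)
    rw [Finset.offDiag_card, hScard, show (π.n + 1) * (π.n + 1) - (π.n + 1) = (π.n + 1) * π.n by
      rw [Nat.mul_add (π.n + 1) π.n 1, Nat.mul_one, Nat.add_sub_cancel]] at h
    omega
  have hAsum : A.card = ∑ X ∈ S, (A.filter (fun x => x.1 = X)).card :=
    Finset.card_eq_sum_card_fiberwise fun x hx =>
      (Finset.mem_offDiag.mp (Finset.mem_filter.mp hx).1).1
  obtain ⟨X, hX, hXbig⟩ : ∃ X ∈ S, π.n ≤ 2 * (A.filter (fun x => x.1 = X)).card := by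
    by_contra hc
    push Not at hc
    have : ∑ X ∈ S, 2 * (A.filter (fun x => x.1 = X)).card < ∑ _X ∈ S, π.n :=
      Finset.sum_lt_sum_of_nonempty (Finset.card_pos.mp (by omega)) hc
    rw [← Finset.mul_sum, ← hAsum, Finset.sum_const, hScard, smul_eq_mul] at this
    omega
  obtain ⟨⟨u, Z0⟩, hZ0⟩ : (A.filter (fun x => x.1 = X)).Nonempty :=
    Finset.card_pos.mp (by have := π.two_le; omega)
  obtain ⟨hZA, rfl⟩ := Finset.mem_filter.mp hZ0
  obtain ⟨hZoff, l0, hl0, hZl0⟩ := Finset.mem_filter.mp hZA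
  obtain ⟨hu, hz, huz⟩ := Finset.mem_offDiag.mp hZoff
  rw [hS, Finset.mem_filter] at hu hz
  have hbig : π.n ≤ 2 * Nat.card (MulAction.orbit (π.elCenter u) Z0) := by
    refine hXbig.trans (Nat.mul_le_mul_left _ ?_)
    rw [Nat.card_eq_fintype_card, ← Set.toFinset_card]
    refine Finset.card_le_card_of_injOn Prod.snd ?_ ?_
    · rintro ⟨v, Z⟩ hx
      rw [Finset.mem_coe, Finset.mem_filter] at hx
      obtain ⟨hxA, rfl⟩ := hx
      obtain ⟨hxoff, l, hl, hZl⟩ := Finset.mem_filter.mp hxA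
      obtain ⟨-, hZS, -⟩ := Finset.mem_offDiag.mp hxoff
      rw [hS, Finset.mem_filter] at hZS
      obtain ⟨e, he, hel⟩ := hl0.exists_el hl
      rw [Finset.mem_coe, Set.mem_toFinset]
      refine ⟨⟨e, he⟩, ?_⟩
      show e • Z0 = Z
      have hne : g ≠ l := fun h => hl.1 (h ▸ hu.2)
      refine point_eq hne ?_ hZS.2 ?_ hZl
      · rw [← he.1 g hu.2]; exact (smul_I_iff e _ _).mpr hz.2
      · rw [← hel]; exact (smul_I_iff e _ _).mpr hZl0
    · rintro ⟨v, Z⟩ hx ⟨v', Z'⟩ hx' (rfl : Z = Z')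
      rw [Finset.mem_coe, Finset.mem_filter] at hx hx'
      exact Prod.ext (hx.2.trans hx'.2.symm) rfl
  rcases pp_or_full_of_orbit hodd hu.2 hz.2 (Ne.symm huz) hbig with h | ⟨m, hm⟩
  · exact Or.inl h
  · exact Or.inr ⟨u, m, hm⟩

theorem Full.exists_ne_one {X : P} {m : L} (h : π.Full X m) :
    ∃ a ∈ π.elCenter X, a ≠ 1 := by
  by_contra hc
  push Not at hc
  have h1 : Nat.card (π.elCenter X) = 1 := by
    rw [(Subgroup.eq_bot_iff_forall _).mpr hc, Subgroup.card_bot]
  rw [h.2.2] at h1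
  have := π.two_le
  omega

theorem Full.conj {X : P} {m : L} (h : π.Full X m) (t : π.Aut) : π.Full (t • X) (t • m) := by
  obtain ⟨hXm, hall, hcard⟩ := h
  have hmem : ∀ g, g ∈ π.elCenter (t • X) ↔ t⁻¹ * g * t ∈ π.elCenter X := by
    intro g
    constructor
    · rintro ⟨hc, k, hk, ha⟩
      have h1 := hc.conj t⁻¹
      have h2 := ha.conj t⁻¹
      rw [inv_smul_smul, inv_inv] at h1
      rw [inv_inv] at h2
      exact ⟨h1, t⁻¹ • k, by rw [← smul_I_iff t, smul_inv_smul]; exact hk, h2⟩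
    · rintro ⟨hc, k, hk, ha⟩
      have e : g = t * (t⁻¹ * g * t) * t⁻¹ := by group
      rw [e]
      exact ⟨hc.conj t, t • k, (smul_I_iff _ _ _).mpr hk, ha.conj t⟩
  refine ⟨(smul_I_iff _ _ _).mpr hXm, fun a ha => ?_, ?_⟩
  · have := (hall _ ((hmem a).mp ha)).conj t
    rwa [show t * (t⁻¹ * a * t) * t⁻¹ = a by group] at this
  · rw [← hcard]
    refine Nat.card_congr ⟨fun g => ⟨t⁻¹ * g.1 * t, (hmem g.1).mp g.2⟩,
      fun g => ⟨t * g.1 * t⁻¹, (hmem _).mpr (by
        rw [show t⁻¹ * (t * g.1 * t⁻¹) * t = g.1 by group]; exact g.2)⟩,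
      fun g => Subtype.ext (show t * (t⁻¹ * g.1 * t) * t⁻¹ = g.1 by group),
      fun g => Subtype.ext (show t⁻¹ * (t * g.1 * t⁻¹) * t = g.1 by group)⟩

theorem Full.free_line {X : P} {m : L} (h : π.Full X m) {Y : P} {k : L} (hXk : π.I X k)
    (hY : π.I Y k) (hYX : Y ≠ X) (hkm : k ≠ m) {Z : P} (hZ : π.I Z k) (hZX : Z ≠ X) :
    ∃ e ∈ π.elCenter X, e • Y = Z := by
  classical
  let φ : π.elCenter X → {p : P // π.I p k ∧ p ≠ X} := fun e => ⟨(e : π.Aut) • Y, by
    conv => rhs; rw [← e.2.1 k hXk]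
    exact (smul_I_iff _ _ _).mpr hY, fun he => hYX (MulAction.injective (e : π.Aut) (he.trans e.2.1.point.symm))⟩
  have hinj : Function.Injective φ := by
    intro a b hab
    have hab' : (a : π.Aut) • Y = (b : π.Aut) • Y := congrArg Subtype.val hab
    have hmem : (b : π.Aut)⁻¹ * a ∈ π.elCenter X := mul_mem (inv_mem b.2) a.2
    have hfix : ((b : π.Aut)⁻¹ * a) • Y = Y := by rw [mul_smul, hab', inv_smul_smul]
    have h2 := elCenter_axis_of_fix hmem hYX hfix
    rw [join_eq (Ne.symm hYX) hXk hY] at h2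
    exact Subtype.ext (inv_mul_eq_one.mp (axis_two h2 (h.2.1 _ hmem) hkm)).symm
  have hbij := hinj.bijective_of_nat_card_le (by rw [π.card_punctured k X hXk, h.2.2])
  obtain ⟨e, he⟩ := hbij.surjective ⟨Z, hZ, hZX⟩
  exact ⟨e, e.2, congrArg Subtype.val he⟩

/-- A second elation with centre on the axis of a full group. -/
theorem Full.pp_of_center_on {X : P} {m : L} (h : π.Full X m) {g : π.Aut} {Y : P}
    (hg : g ∈ π.elCenter Y) (hg1 : g ≠ 1) (hY : π.I Y m) (hYX : Y ≠ X) : IsPrimePow π.n := by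
  classical
  obtain ⟨hcY, m', hYm', ha⟩ := id hg
  obtain ⟨x, hx, hx1⟩ := h.exists_ne_one
  by_cases hmm : m' = m
  · subst hmm
    have h2 : π.dual.TwoAxes m' := by
      refine ⟨π.flipAut x, π.flipAut g, X, Y, ⟨h.2.1 x hx, X, h.1, hx.1⟩, ⟨ha, Y, hYm', hcY⟩,
        fun e => hx1 (flip_eq_one.mp e), fun e => hg1 (flip_eq_one.mp e), hx.1, hcY, Ne.symm hYX⟩
    refine h2.isPrimePow ?_
    rw [dual_n, ← h.2.2]
    refine Nat.card_le_card_of_injective
      (fun e => ⟨π.flipAut e.1, h.2.1 e.1 e.2, X, h.1, e.2.1⟩) (fun a b hab => ?_)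
    exact Subtype.ext (π.flipAut.injective (congrArg Subtype.val hab))
  have hXm' : ¬ π.I X m' := fun e => hmm (line_eq (Ne.symm hYX) e hYm' h.1 hY)
  let φ : π.elCenter X → π.elCenter Y := fun t => ⟨(t : π.Aut) * g * (t : π.Aut)⁻¹, by
    have hfix : (t : π.Aut) • Y = Y := h.2.1 _ t.2 Y hY
    refine ⟨?_, (t : π.Aut) • m', ?_, ha.conj _⟩
    · have := hcY.conj (t : π.Aut); rwa [hfix] at this
    · rw [← hfix]; exact (smul_I_iff _ _ _).mpr hYm'⟩
  have hkey : ∀ a b : π.elCenter X, φ a = φ b → a = b := by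
    intro a b hab
    have hab' : (a : π.Aut) * g * (a : π.Aut)⁻¹ = (b : π.Aut) * g * (b : π.Aut)⁻¹ :=
      congrArg Subtype.val hab
    have h1 := ha.conj (a : π.Aut)
    rw [hab'] at h1
    have h2 := Axis.axis_eq h1 (ha.conj (b : π.Aut)) (fun e => hg1 (conj_eq_one_iff.mp e))
    have hfix : ((b : π.Aut)⁻¹ * a) • m' = m' := by rw [mul_smul, h2, inv_smul_smul]
    exact Subtype.ext
      (inv_mul_eq_one.mp (elCenter_free (mul_mem (inv_mem b.2) a.2) hXm' hfix)).symm
  have hle : π.n ≤ Nat.card (π.elCenter Y) := h.2.2 ▸ Nat.card_le_card_of_injective φ hkey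
  refine TwoAxes.isPrimePow ⟨g, φ ⟨x, hx⟩, m', x • m', hg, (φ ⟨x, hx⟩).2, hg1,
    fun e => hg1 (conj_eq_one_iff.mp e), ha, ha.conj x, fun e => ?_⟩ hle
  exact hx1 (elCenter_free hx hXm' e.symm)

/-- An elation in special position to a full group. -/
theorem Full.pp_of_special {X : P} {m : L} (h : π.Full X m) {g : π.Aut} {Y : P} {m' : L}
    (hg1 : g ≠ 1) (hc : π.Center g Y) (ha : π.Axis g m') (hinc : π.I Y m')
    (hflag : ¬ (Y = X ∧ m' = m)) (hspecial : π.I Y m ∨ π.I X m') : IsPrimePow π.n := by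
  classical
  by_cases hY : π.I Y m ∧ Y ≠ X
  · exact h.pp_of_center_on ⟨hc, m', hinc, ha⟩ hg1 hY.1 hY.2
  have hXm' : π.I X m' := by
    rcases hspecial with h1 | h1
    · have : Y = X := by by_contra e; exact hY ⟨h1, e⟩
      exact this ▸ hinc
    · exact h1
  by_cases hm : m' = m
  · subst hm
    exact absurd ⟨hinc, fun e => hflag ⟨e, rfl⟩⟩ hY
  by_cases hsingle : ∀ a ∈ π.elAxis m, π.Center a X
  · have hd : π.dual.Full m X := by
      refine ⟨h.1, fun a ha => hsingle (π.flipAut.symm a) ha, ?_⟩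
      rw [← π.card_elAxis_eq m, dual_n, ← h.2.2]
      refine Nat.card_congr
        ⟨fun a => ⟨a.1, hsingle a.1 a.2, m, h.1, a.2.1⟩,
          fun a => ⟨a.1, h.2.1 a.1 a.2, X, h.1, a.2.1⟩, fun _ => rfl, fun _ => rfl⟩
    exact hd.pp_of_center_on (g := π.flipAut g) (Y := m') ⟨ha, Y, hinc, hc⟩
      (fun e => hg1 (flip_eq_one.mp e)) hXm' hm
  push Not at hsingle
  obtain ⟨a, ha', hax⟩ := hsingle
  obtain ⟨hma, c, hcm, hca⟩ := ha'
  exact h.pp_of_center_on ⟨hca, m, hcm, hma⟩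
    (fun e => hax (by subst e; exact (π.centerSub X).one_mem)) hcm (fun e => hax (e ▸ hca))

/-- Two full groups in general position make every point of the joining line full. -/
theorem Full.line_full {X : P} {m : L} (h : π.Full X m) {g : π.Aut} {Y : P} {m' : L} (hg1 : g ≠ 1)
    (hc : π.Center g Y) (ha : π.Axis g m') (hY : ¬ π.I Y m) (hX : ¬ π.I X m') (hinc : π.I Y m')
    (Z : P) (hZ : π.I Z (π.join X Y)) :
    ∃ mz, π.Full Z mz ∧ π.I (π.meet m m') mz := by
  have hXY : X ≠ Y := fun e => hX (e ▸ hinc)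
  have hhm : π.join X Y ≠ m := fun e => hY (e ▸ π.join_right X Y)
  by_cases hZX : Z = X
  · exact ⟨m, hZX ▸ h, π.meet_left _ _⟩
  have hgX : g • X ≠ X := fun e => by
    rcases ha.fixed_cases hc hg1 e with h1 | h1
    · exact hX h1
    · exact hXY h1
  have hgh : π.I (g • X) (π.join X Y) := by
    conv => rhs; rw [← hc _ (π.join_right X Y)]
    exact (smul_I_iff _ _ _).mpr (π.join_left X Y)
  obtain ⟨e, he, heq⟩ := h.free_line (π.join_left X Y) hgh hgX hhm hZ hZX
  refine ⟨e • g • m, by have := (h.conj g).conj e; rwa [heq] at this, ?_⟩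
  have hP1 : g • π.meet m m' = π.meet m m' := ha _ (π.meet_right _ _)
  have hP2 : e • π.meet m m' = π.meet m m' := h.2.1 e he _ (π.meet_left _ _)
  conv => lhs; rw [← hP2, ← hP1]
  exact (smul_I_iff _ _ _).mpr ((smul_I_iff _ _ _).mpr (π.meet_left _ _))

theorem exists_two_off {g h : L} (hne : g ≠ h) :
    ∃ U V, U ≠ V ∧ π.I U g ∧ π.I V g ∧ ¬ π.I U h ∧ ¬ π.I V h := by
  obtain ⟨U, hU, hUo⟩ := π.exists_point_ne g (π.meet g h)
  obtain ⟨V, hV, hVo, hVU⟩ := π.exists_point_ne_ne g (π.meet g h) U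
  exact ⟨U, V, Ne.symm hVU, hU, hV, fun e => hUo (meet_eq hne hU e).symm,
    fun e => hVo (meet_eq hne hV e).symm⟩

theorem Full.pp (hP : ∀ X Y : P, X ≠ Y → ∃ c l, π.HC c l ∧ (π.I X l ∨ X = c) ∧ (π.I Y l ∨ Y = c))
    {X : P} {m : L} (h : π.Full X m) : IsPrimePow π.n := by
  classical
  by_contra hpp
  have gen : ∀ {X : P} {m : L}, π.Full X m → ∀ {g : π.Aut} {Y : P} {m' : L}, g ≠ 1 →
      π.Center g Y → π.Axis g m' → π.I Y m' → ¬ (Y = X ∧ m' = m) → ¬ π.I Y m ∧ ¬ π.I X m' := by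
    intro X m h g Y m' hg1 hc ha hinc hflag
    constructor <;> intro e
    · exact hpp (h.pp_of_special hg1 hc ha hinc hflag (Or.inl e))
    · exact hpp (h.pp_of_special hg1 hc ha hinc hflag (Or.inr e))
  by_cases hother : ∃ (g : π.Aut) (Y : P) (m' : L), g ≠ 1 ∧ π.Center g Y ∧ π.Axis g m' ∧
      π.I Y m' ∧ ¬ (Y = X ∧ m' = m)
  · obtain ⟨g, Y, m', hg1, hc, ha, hinc, hflag⟩ := hother
    obtain ⟨hY, hX⟩ := gen h hg1 hc ha hinc hflag
    set hl := π.join X Y with hhl
    set Q := π.meet m m' with hQ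
    have hfull : ∀ Z, π.I Z hl → ∃ mz, π.Full Z mz ∧ π.I Q mz := fun Z hZ =>
      h.line_full hg1 hc ha hY hX hinc Z hZ
    have hcentres : ∀ (k : π.Aut) (W : P) (u : L), k ≠ 1 → π.Center k W → π.Axis k u →
        π.I W u → π.I W hl := by
      intro k W u hk hcW hau hWu
      by_contra hW
      obtain ⟨Q0, hQ0, hQ0X⟩ := π.exists_point_ne m X
      obtain ⟨mz, hmz⟩ : ∃ mz, π.Full Q0 mz := by
        set Y' := π.meet (π.join W Q0) hl with hY'
        have hY'h : π.I Y' hl := π.meet_right _ _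
        obtain ⟨my, hmy, -⟩ := hfull Y' hY'h
        have hne : W ≠ Y' := fun e => hW (e ▸ hY'h)
        obtain ⟨h1, h2⟩ := gen hmy hk hcW hau hWu (fun e => hne e.1)
        obtain ⟨mz, hmz, -⟩ := hmy.line_full hk hcW hau h1 h2 hWu Q0 (by
          rw [join_eq (Ne.symm hne) (π.meet_left (π.join W Q0) hl) (π.join_left W Q0)]
          exact π.join_right W Q0)
        exact ⟨mz, hmz⟩
      obtain ⟨x, hx, hx1⟩ := hmz.exists_ne_one
      exact hpp (h.pp_of_center_on hx hx1 hQ0 hQ0X)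
    have haxes : ∀ (k : π.Aut) (W : P) (u : L), k ≠ 1 → π.Center k W → π.Axis k u →
        π.I W u → π.I Q u := by
      intro k W u hk hcW hau hWu
      obtain ⟨mw, hmw, hQmw⟩ := hfull W (hcentres k W u hk hcW hau hWu)
      rw [hau.axis_eq (hmw.2.1 k ⟨hcW, u, hWu, hau⟩) hk]
      exact hQmw
    obtain ⟨x, hx, hx1⟩ := h.exists_ne_one
    have hXY : X ≠ Y := fun e => hX (e ▸ hinc)
    have hfix : ∀ t : π.Aut, t • hl = hl ∧ t • Q = Q := by
      intro t
      have n1 : t * x * t⁻¹ ≠ 1 := fun e => hx1 (conj_eq_one_iff.mp e)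
      have n2 : t * g * t⁻¹ ≠ 1 := fun e => hg1 (conj_eq_one_iff.mp e)
      have a1 := hcentres _ _ _ n1 (hx.1.conj t) ((h.2.1 x hx).conj t) ((smul_I_iff _ _ _).mpr h.1)
      have a2 := hcentres _ _ _ n2 (hc.conj t) (ha.conj t) ((smul_I_iff _ _ _).mpr hinc)
      have b1 := haxes _ _ _ n1 (hx.1.conj t) ((h.2.1 x hx).conj t) ((smul_I_iff _ _ _).mpr h.1)
      have b2 := haxes _ _ _ n2 (hc.conj t) (ha.conj t) ((smul_I_iff _ _ _).mpr hinc)
      constructor
      · exact line_eq (fun e => hXY (MulAction.injective t e))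
          ((smul_I_iff _ _ _).mpr (π.join_left X Y)) ((smul_I_iff _ _ _).mpr (π.join_right X Y))
          a1 a2
      · exact point_eq (l := t • m) (m := t • m')
          (fun e => hY ((MulAction.injective t e).symm ▸ hinc))
          ((smul_I_iff _ _ _).mpr (π.meet_left _ _)) b1
          ((smul_I_iff _ _ _).mpr (π.meet_right _ _)) b2
    have hQh : ¬ π.I Q hl := fun e => hX (by
      have hne : m ≠ hl := fun h' => hY (h' ▸ π.join_right X Y)
      rw [point_eq hne h.1 (π.meet_left m m') (π.join_left X Y) e]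
      exact π.meet_right m m')
    obtain ⟨gg, hgg, hgl, hgQ⟩ := π.exists_line_ne_ne X hl (π.join X Q)
    have hXQ : X ≠ Q := fun e => hQh (e ▸ π.join_left X Y)
    have hQg : ¬ π.I Q gg := fun e => hgQ (join_eq hXQ hgg e).symm
    obtain ⟨U, V, hUV, hU, hV, hUh, hVh⟩ := exists_two_off (π := π) hgl
    obtain ⟨c, l, hcl, hUl, hVl⟩ := hP U V hUV
    obtain ⟨hcl', a, ha1, -, hac, haa⟩ := hcl
    obtain ⟨fh, fQ⟩ := hfix a
    have h_l : π.I c hl ∨ hl = l := hac.fixed_cases haa ha1 fh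
    have h_Q : π.I Q l ∨ Q = c := haa.fixed_cases hac ha1 fQ
    have other : ∀ U V, ¬ π.I U hl → ¬ π.I V hl → U = c → π.I V l → False := by
      intro U V hUh hVh e hV
      subst e
      rcases h_l with h1 | h1
      · exact hUh h1
      · exact hVh (h1 ▸ hV)
    rcases hUl with hUl | hUc <;> rcases hVl with hVl | hVc
    · have hlg : l = gg := line_eq hUV hUl hVl hU hV
      rcases h_Q with h1 | h1
      · exact hQg (hlg ▸ h1)
      · rcases h_l with h2 | h2
        · exact hQh (h1 ▸ h2)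
        · exact hgl (hlg.symm.trans h2.symm)
    · exact other V U hVh hUh hVc hUl
    · exact other U V hUh hVh hUc hVl
    · exact hUV (hUc.trans hVc.symm)
  push Not at hother
  obtain ⟨x, hx, hx1⟩ := h.exists_ne_one
  have hfix : ∀ t : π.Aut, t • X = X ∧ t • m = m := fun t =>
    hother _ _ _ (fun e => hx1 (conj_eq_one_iff.mp e)) (hx.1.conj t) ((h.2.1 x hx).conj t)
      ((smul_I_iff _ _ _).mpr h.1)
  have hHC : ∀ gg, ¬ π.I X gg → π.HC X gg := by
    intro gg hgg
    have hgm : gg ≠ m := fun e => hgg (e ▸ h.1)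
    obtain ⟨U, V, hUV, hU, hV, hUm, hVm⟩ := exists_two_off (π := π) hgm
    obtain ⟨c, l, hcl, hUl, hVl⟩ := hP U V hUV
    obtain ⟨hcl', a, ha1, ha2, hac, haa⟩ := hcl
    obtain ⟨fX, fm⟩ := hfix a
    have h_l : π.I c m ∨ m = l := hac.fixed_cases haa ha1 fm
    have other : ∀ U V, ¬ π.I U m → ¬ π.I V m → U = c → π.I V l → False := by
      intro U V hUh hVh e hV
      subst e
      rcases h_l with h1 | h1
      · exact hUh h1
      · exact hVh (h1 ▸ hV)
    rcases hUl with hUl | hUc <;> rcases hVl with hVl | hVc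
    · have hlg : l = gg := line_eq hUV hUl hVl hU hV
      subst hlg
      have hcX : X = c := (haa.fixed_cases hac ha1 fX).resolve_left hgg
      exact ⟨hgg, a, ha1, ha2, hcX ▸ hac, haa⟩
    · exact (other V U hVm hUm hVc hUl).elim
    · exact (other U V hUm hVm hUc hVl).elim
    · exact absurd (hUc.trans hVc.symm) hUV
  obtain ⟨g0, hg0⟩ := π.exists_not_through X
  have hex : ∀ k : {k : L // ¬ π.I X k}, ∃ e : π.elCenter X, (e : π.Aut) • g0 = k.1 := fun k => by
    obtain ⟨e, he, hek⟩ := (hHC g0 hg0).exists_el (hHC k.1 k.2)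
    exact ⟨⟨e, he⟩, hek⟩
  choose φ hφ using hex
  have hle := Nat.card_le_card_of_injective φ (fun a b hab =>
    Subtype.ext ((hφ a).symm.trans (hab ▸ hφ b)))
  rw [π.card_not_through X, h.2.2] at hle
  have := π.two_le
  nlinarith

theorem exists_fixed_of_odd {α : Type*} [Finite α] (hodd : Odd (Nat.card α)) (f : α → α)
    (hf : ∀ a, f (f a) = a) : ∃ a, f a = a := by
  classical
  have := Fintype.ofFinite α
  by_contra hc
  push Not at hc
  have h : (∑ _a : α, (1 : ZMod 2)) = 0 :=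
    Finset.sum_involution (fun a _ => f a) (fun a _ => by decide) (fun a _ _ => hc a)
      (fun a _ => Finset.mem_univ _) (fun a _ => hf a)
  rw [Finset.sum_const, Finset.card_univ, ← Nat.card_eq_fintype_card, nsmul_eq_mul, mul_one,
    ZMod.natCast_eq_zero_iff_even] at h
  exact (Nat.not_odd_iff_even.mpr h) hodd

/-- If `W` is the centre of a homology with axis through `Y`, then `W` is on an axis of `Y`. -/
theorem HC.symm_axis (hodd : Odd π.n) {W Y : P} {m l0 : L} (hW : π.HC W m) (hY : π.I Y m)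
    (hl0 : π.HC Y l0) : ∃ l, π.HC Y l ∧ π.I W l := by
  classical
  obtain ⟨-, a, ha1, ha2, hac, haa⟩ := hW
  have haY : a • Y = Y := haa Y hY
  let φ : π.elCenter Y → {l : L // π.HC Y l} := fun e => ⟨(e : π.Aut) • l0, by
    have := hl0.conj (e : π.Aut)
    rwa [e.2.1.point] at this⟩
  have hbij : Function.Bijective φ := by
    constructor
    · intro e f hef
      have h' : (e : π.Aut) • l0 = (f : π.Aut) • l0 := congrArg Subtype.val hef
      refine Subtype.ext (inv_mul_eq_one.mp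
        (elCenter_free (mul_mem (inv_mem f.2) e.2) hl0.1 ?_)).symm
      rw [mul_smul, h', inv_smul_smul]
    · rintro ⟨l, hl⟩
      obtain ⟨e, he, hel⟩ := hl0.exists_el hl
      exact ⟨⟨e, he⟩, Subtype.ext hel⟩
  have hcard : Odd (Nat.card {l : L // π.HC Y l}) := by
    rw [← Nat.card_eq_of_bijective φ hbij]
    exact π.odd_card_elCenter hodd Y
  obtain ⟨⟨l, hl⟩, hfix⟩ := exists_fixed_of_odd hcard
    (fun l => ⟨a • l.1, by have := l.2.conj a; rwa [haY] at this⟩)
    (fun l => Subtype.ext (show a • a • l.1 = l.1 by rw [← mul_smul, ha2, one_smul]))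
  refine ⟨l, hl, ?_⟩
  rcases hac.fixed_cases haa ha1 (congrArg Subtype.val hfix) with h | h
  · exact h
  · exact absurd (show π.I Y l by rw [show l = m from h]; exact hY) hl.1

/-- A polarity without absolute points is impossible. -/
theorem no_polarity (φ : P → L) (hφ : Function.Injective φ)
    (hsymm : ∀ X Y, π.I Y (φ X) → π.I X (φ Y)) (habs : ∀ X, ¬ π.I X (φ X)) : False := by
  classical
  have := Fintype.ofFinite P
  obtain ⟨p, hp, hpn⟩ := Nat.exists_prime_and_dvd (n := π.n) (by have := π.two_le; omega)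
  have : Fact p.Prime := ⟨hp⟩
  have hn0 : (π.n : ZMod p) = 0 := (ZMod.natCast_eq_zero_iff _ _).mpr hpn
  let A : Matrix P P (ZMod p) := fun X Y => if π.I Y (φ X) then 1 else 0
  let J : Matrix P P (ZMod p) := fun _ _ => 1
  have hAA : A * A = J := by
    ext X Y
    have e : ∀ Z, A X Z * A Z Y = if π.I Z (φ X) ∧ π.I Z (φ Y) then 1 else 0 := by
      intro Z
      have hiff : π.I Y (φ Z) ↔ π.I Z (φ Y) := ⟨hsymm Z Y, hsymm Y Z⟩
      simp only [A, hiff]
      split_ifs <;> simp_all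
    rw [Matrix.mul_apply, Finset.sum_congr rfl (fun Z _ => e Z), Finset.sum_boole,
      ← Fintype.card_subtype, ← Nat.card_eq_fintype_card]
    show _ = (1 : ZMod p)
    by_cases hXY : X = Y
    · subst hXY
      simp only [and_self]
      rw [π.card_line (φ X)]
      push_cast
      rw [hn0, zero_add]
    · have : Unique {Z : P // π.I Z (φ X) ∧ π.I Z (φ Y)} :=
        ⟨⟨⟨π.meet (φ X) (φ Y), π.meet_left _ _, π.meet_right _ _⟩⟩,
          fun Z => Subtype.ext (meet_eq (fun e => hXY (hφ e)) Z.2.1 Z.2.2).symm⟩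
      rw [Nat.card_unique]
      simp
  have hJA : J * A = J := by
    ext X Y
    have e : ∀ Z, J X Z * A Z Y = if π.I Z (φ Y) then 1 else 0 := by
      intro Z
      have hiff : π.I Y (φ Z) ↔ π.I Z (φ Y) := ⟨hsymm Z Y, hsymm Y Z⟩
      simp only [A, J, hiff, one_mul]
    rw [Matrix.mul_apply, Finset.sum_congr rfl (fun Z _ => e Z), Finset.sum_boole,
      ← Fintype.card_subtype, ← Nat.card_eq_fintype_card, π.card_line (φ Y)]
    show _ = (1 : ZMod p)
    push_cast
    rw [hn0, zero_add]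
  have hpow : ∀ k : ℕ, A ^ (k + 2) = J := by
    intro k
    induction k with
    | zero => rw [pow_two, hAA]
    | succ k ih => rw [pow_succ, ih, hJA]
  have h1 := ZMod.trace_pow_card A
  obtain ⟨k, hk⟩ : ∃ k, p = k + 2 := ⟨p - 2, by have := hp.two_le; omega⟩
  have htr : A ^ p = J := by
    have := hpow k
    rwa [← hk] at this
  rw [htr] at h1
  have hJ : Matrix.trace J = (1 : ZMod p) := by
    simp only [Matrix.trace, Matrix.diag, J, Finset.sum_const, Finset.card_univ, nsmul_eq_mul,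
      mul_one]
    rw [← Nat.card_eq_fintype_card, π.card_P]
    push_cast
    rw [hn0]
    ring
  have hA : Matrix.trace A = 0 := by
    simp only [Matrix.trace, Matrix.diag, A]
    exact Finset.sum_eq_zero fun X _ => by simp [habs X]
  rw [hJ, hA, zero_pow hp.ne_zero] at h1
  exact one_ne_zero h1

theorem elation_bad_axis (hodd : Odd π.n) {X Y W W' : P} {m : L} (hXm : π.I X m) (hY : π.I Y m)
    (hYX : Y ≠ X) (hW : π.HC W m) (hW' : π.HC W' m) (hne : W ≠ W')
    (hXWW : π.I X (π.join W W'))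
    (hbad : ∀ g ∈ π.elCenter Y, π.Axis g m → g = 1) {l₀ : L} (hl0 : π.HC Y l₀) :
    π.HC Y (π.join W W') := by
  classical
  obtain ⟨l₁, hl₁, hWl₁⟩ := hW.symm_axis hodd hY hl0
  obtain ⟨l₂, hl₂, hWl₂⟩ := hW'.symm_axis hodd hY hl0
  by_cases e12 : l₁ = l₂
  · rw [join_eq hne hWl₁ (e12 ▸ hWl₂)]; exact hl₁
  exfalso
  obtain ⟨e, he, hel⟩ := hl₁.exists_el hl₂
  have he1 : e ≠ 1 := fun h => e12 (by rw [h, one_smul] at hel; exact hel)
  -- axes fixed by a homology with axis `m`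
  have key : ∀ {V : P}, π.HC V m → ∀ (f : π.Aut) (u : L), f ≠ 1 → f ∈ π.elCenter Y →
      π.Axis f u → (∀ a : π.Aut, π.Center a V → π.Axis a m → a * a = 1 → a • u = u) → π.I V u := by
    intro V hV f u hf1 hf hu hfix
    obtain ⟨-, a, ha1, ha2, hac, haa⟩ := hV
    rcases hac.fixed_cases haa ha1 (hfix a hac haa ha2) with h | h
    · exact h
    · exact absurd (hbad f hf (h ▸ hu)) hf1
  by_cases htwo : π.TwoAxes Y
  swap
  · obtain ⟨-, u, hYu, hu⟩ := id he
    have hfix : ∀ {V : P} (a : π.Aut), π.Center a V → π.Axis a m → a * a = 1 → a • u = u := by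
      intro V a _ haa _
      by_contra hne'
      refine htwo ⟨e, a * e * a⁻¹, u, a • u, he, ?_, he1, fun h => he1 (conj_eq_one_iff.mp h), hu,
        hu.conj a, Ne.symm hne'⟩
      refine ⟨?_, a • u, ?_, hu.conj a⟩
      · have := he.1.conj a; rwa [haa Y hY] at this
      · rw [← haa Y hY]; exact (smul_I_iff _ _ _).mpr hYu
    have h1 := key hW e u he1 he hu (fun a => hfix a)
    have h2 := key hW' e u he1 he hu (fun a => hfix a)
    have hu' : π.join W W' = u := join_eq hne h1 h2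
    refine hYX (point_eq (l := m) (m := u) ?_ hY hXm hYu (hu' ▸ hXWW))
    intro h
    exact hW.1 (h ▸ h1)
  obtain ⟨p, -, -, -, hcomm⟩ := htwo.structure
  obtain ⟨hWm, a, ha1, ha2, hac, haa⟩ := id hW
  have hainv : a⁻¹ = a := inv_eq_of_mul_eq_one_right ha2
  set u0 := π.join Y W
  have hall : ∀ f ∈ π.elCenter Y, π.Axis f u0 := by
    intro f hf
    set s := a * f * a with hs
    have hsmem : s ∈ π.elCenter Y := by
      obtain ⟨hcf, u, hu, hfu⟩ := hf
      have h1 := hcf.conj a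
      rw [haa Y hY, hainv] at h1
      refine ⟨h1, a • u, ?_, ?_⟩
      · rw [← haa Y hY]; exact (smul_I_iff _ _ _).mpr hu
      · have := hfu.conj a; rwa [hainv] at this
    have hsc : a * s * a = f := by
      rw [hs, show a * (a * f * a) * a = (a * a) * f * (a * a) by group, ha2, one_mul, mul_one]
    have hax : ∀ x ∈ π.elCenter Y, (a * x * a = x ∨ a * x * a = x⁻¹) → π.Axis x u0 := by
      intro x hx hfx
      by_cases hx1 : x = 1
      · subst hx1; exact (π.axisSub u0).one_mem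
      obtain ⟨-, u, hYu, hu⟩ := id hx
      have hau : a • u = u := by
        have h2 := hu.conj a
        rw [hainv] at h2
        rcases hfx with h | h <;> rw [h] at h2
        · exact h2.axis_eq hu hx1
        · exact h2.axis_eq ((π.axisSub u).inv_mem hu) (fun h' => hx1 (inv_eq_one.mp h'))
      rcases hac.fixed_cases haa ha1 hau with h | h
      · rwa [show u0 = u from join_eq (fun h' => hWm (h' ▸ hY)) hYu h]
      · exact absurd (hbad x hx (h ▸ hu)) hx1
    have h1 : π.Axis (f * s) u0 := hax _ (mul_mem hf hsmem) (Or.inl (by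
      rw [show a * (f * s) * a = (a * f * a) * (a * a)⁻¹ * (a * s * a) by group, ← hs, hsc, ha2,
        inv_one, mul_one]
      exact (hcomm s hsmem f hf).eq))
    have h2 : π.Axis (f * s⁻¹) u0 := hax _ (mul_mem hf (inv_mem hsmem)) (Or.inr (by
      have : a * s⁻¹ * a = f⁻¹ := by
        rw [← inv_inj, inv_inv, mul_inv_rev, mul_inv_rev, inv_inv, hainv, ← mul_assoc]
        exact hsc
      rw [show a * (f * s⁻¹) * a = (a * f * a) * (a * a)⁻¹ * (a * s⁻¹ * a) by group, ← hs, this,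
        ha2, inv_one, mul_one, mul_inv_rev, inv_inv]))
    have h3 : π.Axis (f ^ 2) u0 := by
      have hmul := (π.axisSub u0).mul_mem h1 h2
      rwa [show f * s * (f * s⁻¹) = f ^ 2 by
        rw [mul_assoc, ← mul_assoc s, (hcomm s hsmem f hf).eq, mul_assoc f s,
          mul_inv_cancel, mul_one, pow_two]] at hmul
    have hord : Odd (orderOf f) := by
      have hdvd : orderOf f ∣ Nat.card (π.elCenter Y) := by
        have h := orderOf_dvd_natCard (⟨f, hf⟩ : π.elCenter Y)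
        rwa [Subgroup.orderOf_mk] at h
      exact (π.odd_card_elCenter hodd Y).of_dvd_nat hdvd
    obtain ⟨k, hk⟩ := hord
    have hf' : (f ^ 2) ^ (k + 1) = f := by
      rw [← pow_mul, show 2 * (k + 1) = orderOf f + 1 by omega, pow_succ, pow_orderOf_eq_one,
        one_mul]
    rw [← hf']
    exact (π.axisSub u0).pow_mem h3 (k + 1)
  obtain ⟨f, g, m₁, m₂, hf, hg, hf1, hg1, h1, h2, hne'⟩ := htwo
  exact hne' (((h1.axis_eq (hall f hf) hf1)).trans ((h2.axis_eq (hall g hg) hg1)).symm)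

/-- The main lemma. -/
theorem isPrimePow_of_homologies (hodd : Odd π.n)
    (hP : ∀ X Y : P, X ≠ Y → ∃ c l, π.HC c l ∧ (π.I X l ∨ X = c) ∧ (π.I Y l ∨ Y = c))
    (hL : ∀ l m : L, l ≠ m → ∃ k c, π.HC c k ∧ (π.I c l ∨ l = k) ∧ (π.I c m ∨ m = k)) :
    IsPrimePow π.n := by
  classical
  by_contra hpp
  have hP' : ∀ l m : L, l ≠ m →
      ∃ k c, π.dual.HC k c ∧ (π.dual.I l c ∨ l = k) ∧ (π.dual.I m c ∨ m = k) := fun l m h => by
    obtain ⟨k, c, h1, h2, h3⟩ := hL l m h
    exact ⟨k, c, h1.flip, h2, h3⟩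
  have hall : ∀ g, ∃ c, π.HC c g := by
    intro g
    by_contra hg
    push Not at hg
    rcases pp_or_full_of_nonaxis hodd hP hg with h | ⟨X, m, h⟩
    · exact hpp h
    · exact hpp (h.pp hP)
  have hallc : ∀ c, ∃ l, π.HC c l := by
    intro c
    by_contra hc
    push Not at hc
    rcases pp_or_full_of_nonaxis (π := π.dual) hodd hP' (g := c) (fun l h => hc l h.unflip) with
      h | ⟨X, m, h⟩
    · exact hpp h
    · exact hpp (h.pp (π := π.dual) hP')
  choose φ hφ using hallc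
  by_cases huniq : ∀ X l, π.HC X l → l = φ X
  · have hsurj : Function.Surjective φ := fun g => by
      obtain ⟨c, hc⟩ := hall g
      exact ⟨c, (huniq c g hc).symm⟩
    have hcards : Nat.card P = Nat.card L := by rw [π.card_P, π.card_L]
    refine no_polarity φ (hsurj.bijective_of_nat_card_le hcards.le).injective
      (fun X Y hY => ?_) (fun X => (hφ X).1)
    obtain ⟨l, hl, hXl⟩ := (hφ X).symm_axis hodd hY (hφ Y)
    exact huniq Y l hl ▸ hXl
  push Not at huniq
  obtain ⟨X, l, hl, hlne⟩ := huniq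
  obtain ⟨τ, hτ, hτl⟩ := (hφ X).exists_el hl
  have hτ1 : τ ≠ 1 := fun e => hlne (by rw [e, one_smul] at hτl; exact hτl.symm)
  obtain ⟨hτc, m, hXm, hτm⟩ := id hτ
  obtain ⟨W, hW⟩ := hall m
  have hW' : π.HC (τ • W) m := by
    have := hW.conj τ
    rwa [hτm.line] at this
  have hWX : W ≠ X := fun e => hW.1 (e ▸ hXm)
  have hne : W ≠ τ • W := fun e => by
    rcases hτm.fixed_cases hτc hτ1 e.symm with h | h
    · exact hW.1 h
    · exact hWX h
  set L0 := π.join W (τ • W)
  have hXL0 : π.I X L0 := by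
    have h1 : π.I (τ • W) (π.join X W) := by
      conv => rhs; rw [← hτc _ (π.join_left X W)]
      exact (smul_I_iff _ _ _).mpr (π.join_right X W)
    rw [show L0 = π.join X W from join_eq hne (π.join_right X W) h1]
    exact π.join_left X W
  have := Fintype.ofFinite P
  set S := Finset.univ.filter (fun Y => π.I Y m ∧ Y ≠ X) with hS
  set Gd := S.filter (fun Y => ∃ g ∈ π.elCenter Y, g ≠ 1 ∧ π.Axis g m) with hGd
  set Bd := S.filter (fun Y => ¬ ∃ g ∈ π.elCenter Y, g ≠ 1 ∧ π.Axis g m) with hBd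
  have hsum : Gd.card + Bd.card = π.n := by
    rw [hGd, hBd, Finset.card_filter_add_card_filter_not, hS, ← Fintype.card_subtype,
      ← Nat.card_eq_fintype_card, π.card_punctured m X hXm]
  have hbadL : ∀ Y ∈ Bd, π.I Y m ∧ Y ≠ X ∧ π.HC Y L0 := by
    intro Y hY
    rw [hBd, Finset.mem_filter, hS, Finset.mem_filter] at hY
    obtain ⟨⟨-, hYm, hYX⟩, hbad⟩ := hY
    push Not at hbad
    refine ⟨hYm, hYX, elation_bad_axis hodd hXm hYm hYX hW hW' hne hXL0
      (fun g hg ha => ?_) (hφ Y)⟩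
    by_contra hg1
    exact hbad g hg hg1 ha
  by_cases hbig : π.n ≤ 2 * Bd.card
  · obtain ⟨Y0, hY0⟩ : Bd.Nonempty := Finset.card_pos.mp (by have := π.two_le; omega)
    obtain ⟨hY0m, hY0X, hY0L⟩ := hbadL Y0 hY0
    have horb : π.n ≤ 2 * Nat.card (MulAction.orbit (π.elCenter X) Y0) := by
      refine hbig.trans (Nat.mul_le_mul_left _ ?_)
      rw [Nat.card_eq_fintype_card, ← Set.toFinset_card]
      refine Finset.card_le_card fun Y hY => ?_
      rw [Set.mem_toFinset]
      by_cases hYY : Y = Y0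
      · subst hYY; exact MulAction.mem_orbit_self _
      obtain ⟨hYm, hYX, hYL⟩ := hbadL Y hY
      obtain ⟨hY0n, a, ha1, -, hac, haa⟩ := hY0L
      obtain ⟨hYn, b, hb1, -, hbc, hba⟩ := hYL
      obtain ⟨e, he, heq⟩ := exists_elation_homologies haa hba ha1 hb1 hac.point hbc.point hY0n hYn
      obtain ⟨hea, c, hcL, hec⟩ := he
      have hcY0 : c ≠ Y0 := fun h => hY0n (h ▸ hcL)
      have hline : π.I (e • Y0) (π.join c Y0) := by
        conv => rhs; rw [← hec _ (π.join_left c Y0)]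
        exact (smul_I_iff _ _ _).mpr (π.join_right c Y0)
      rw [heq] at hline
      have hjm : π.join c Y0 = m := line_eq (Ne.symm hYY) (π.join_right c Y0) hline hY0m hYm
      have hLm : L0 ≠ m := fun h => hW.1 (h ▸ π.join_left W (τ • W))
      have hcX : c = X := point_eq hLm hcL hXL0 (hjm ▸ π.join_left c Y0) hXm
      subst hcX
      exact ⟨⟨e, hec, L0, hXL0, hea⟩, heq⟩
    rcases pp_or_full_of_orbit hodd hXm hY0m hY0X horb with h | ⟨m', h⟩
    · exact hpp h
    · exact hpp (h.pp hP)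
  push Not at hbig
  have hgood : ∀ Y : {Y // Y ∈ Gd}, ∃ g ∈ π.elCenter Y.1, g ≠ 1 ∧ π.Axis g m := fun Y =>
    (Finset.mem_filter.mp Y.2).2
  choose gY hgY hgY1 hgYm using hgood
  obtain ⟨Y0, hY0⟩ : Gd.Nonempty := Finset.card_pos.mp (by omega)
  have hY0' : π.I Y0 m ∧ Y0 ≠ X :=
    (Finset.mem_filter.mp (Finset.mem_filter.mp hY0).1).2
  have htwo : π.dual.TwoAxes m :=
    ⟨π.flipAut τ, π.flipAut (gY ⟨Y0, hY0⟩), X, Y0, ⟨hτm, X, hXm, hτc⟩,
      ⟨hgYm _, Y0, hY0'.1, (hgY ⟨Y0, hY0⟩).1⟩, fun e => hτ1 (flip_eq_one.mp e),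
      fun e => hgY1 _ (flip_eq_one.mp e), hτc, (hgY ⟨Y0, hY0⟩).1, Ne.symm hY0'.2⟩
  have hord : ∀ Y, gY Y * gY Y ≠ 1 := by
    intro Y h
    have hdvd : orderOf (gY Y) ∣ Nat.card (π.elCenter Y.1) := by
      have h := orderOf_dvd_natCard (⟨_, hgY Y⟩ : π.elCenter Y.1)
      rwa [Subgroup.orderOf_mk] at h
    have hodd' : Odd (orderOf (gY Y)) := (π.odd_card_elCenter hodd Y.1).of_dvd_nat hdvd
    have h2 : orderOf (gY Y) ∣ 2 := orderOf_dvd_of_pow_eq_one (by rw [pow_two]; exact h)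
    rcases (Nat.dvd_prime Nat.prime_two).mp h2 with h3 | h3
    · exact hgY1 Y (orderOf_eq_one_iff.mp h3)
    · rw [h3] at hodd'; exact absurd hodd' (by decide)
  let ψ : {Y // Y ∈ Gd} × Bool → π.elAxis m := fun x =>
    if x.2 then ⟨gY x.1, hgYm x.1, x.1.1,
        (Finset.mem_filter.mp (Finset.mem_filter.mp x.1.2).1).2.1, (hgY x.1).1⟩
    else (⟨gY x.1, hgYm x.1, x.1.1,
        (Finset.mem_filter.mp (Finset.mem_filter.mp x.1.2).1).2.1, (hgY x.1).1⟩ : π.elAxis m)⁻¹
  have hψc : ∀ x, π.Center (ψ x : π.Aut) x.1.1 ∧ (ψ x : π.Aut) ≠ 1 := by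
    rintro ⟨Y, b⟩
    cases b
    · exact ⟨(π.centerSub Y.1).inv_mem (hgY Y).1, fun e => hgY1 Y (inv_eq_one.mp e)⟩
    · exact ⟨(hgY Y).1, hgY1 Y⟩
  have hψ : Function.Injective ψ := by
    rintro ⟨Y, b⟩ ⟨Y', b'⟩ he
    have hYY : Y = Y' := by
      refine Subtype.ext ((hψc (Y, b)).1.center_eq ?_ (hψc (Y, b)).2)
      rw [he]
      exact (hψc (Y', b')).1
    subst hYY
    have he' := congrArg (fun z : π.elAxis m => (z : π.Aut)) he
    cases b <;> cases b' <;> simp only [ψ, Bool.false_eq_true, if_false, if_true,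
      InvMemClass.coe_inv] at he' ⊢
    · exact absurd (by rw [← mul_inv_cancel (gY Y), he']) (hord Y)
    · exact absurd (by rw [← mul_inv_cancel (gY Y), ← he']) (hord Y)
  have hle := Nat.card_le_card_of_injective ψ hψ
  rw [Nat.card_prod, Nat.card_eq_fintype_card (α := {Y // Y ∈ Gd}), Fintype.card_coe,
    Nat.card_eq_fintype_card (α := Bool), Fintype.card_bool, π.card_elAxis_eq m] at hle
  exact hpp (htwo.isPrimePow (by rw [dual_n]; omega))

end Plane

end Cfsg.Agent.H29.OW
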