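import Cfsg.Agent.H29.OW.Coord

/-!
The Ostrom-Wagner theorem: a finite projective plane with a collineation group 2-transitive on
points is the plane over a finite field.
-/

set_option autoImplicit false
set_option linter.unusedSectionVars false

open scoped LinearAlgebra.Projectivization

namespace Cfsg.Agent.H29.OW

/-- The linear functional `v ↦ ∑ k i * v i`. -/
def dotL {F : Type*} [CommRing F] (k : Fin 3 → F) : (Fin 3 → F) →ₗ[F] F where
  toFun v := k 0 * v 0 + k 1 * v 1 + k 2 * v 2
  map_add' v w := by simp only [Pi.add_apply]; ring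
  map_smul' r v := by simp only [Pi.smul_apply, smul_eq_mul, RingHom.id_apply]; ring

theorem dotL_apply {F : Type*} [CommRing F] (k v : Fin 3 → F) :
    dotL k v = k 0 * v 0 + k 1 * v 1 + k 2 * v 2 := rfl

theorem finrank_ker_dotL {F : Type*} [Field F] {k : Fin 3 → F} (hk : k ≠ 0) :
    Module.finrank F (LinearMap.ker (dotL k)) = 2 := by
  have hsurj : Function.Surjective (dotL k) := by
    obtain ⟨i, hi⟩ := Function.ne_iff.mp hk
    intro r
    refine ⟨Pi.single i (r / k i), ?_⟩
    simp only [Pi.zero_apply] at hi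
    fin_cases i <;> simp_all [dotL_apply, mul_div_cancel₀]
  have h := LinearMap.finrank_range_add_finrank_ker (dotL k)
  rw [LinearMap.range_eq_top.mpr hsurj, finrank_top, Module.finrank_self,
    Module.finrank_pi, Fintype.card_fin] at h
  omega

namespace Plane.Coords

variable {P L : Type*} [Finite P] [Finite L] {π : Plane P L} {F : Type*} [Field F]
  (C : Plane.Coords π F)

theorem exists_proj (hmul : ∀ a x, C.mul a x = a * x) :
    ∃ φ : P ≃ Projectivization F (Fin 3 → F),
      (∀ l : L, ∃ W : Submodule F (Fin 3 → F), Module.finrank F W = 2 ∧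
          ∀ p : P, π.I p l ↔ (φ p).submodule ≤ W) ∧
      (∀ W : Submodule F (Fin 3 → F), Module.finrank F W = 2 →
          ∃ l : L, ∀ p : P, π.I p l ↔ (φ p).submodule ≤ W) := by
  classical
  let r : (F × F) ⊕ F ⊕ Unit → P :=
    Sum.elim (fun z => C.pt z.1 z.2) (Sum.elim C.dir fun _ => C.Y)
  have hr : Function.Bijective r := by
    constructor
    · rintro (⟨x, y⟩ | a | ⟨⟩) (⟨x', y'⟩ | a' | ⟨⟩) h
      · obtain ⟨rfl, rfl⟩ := C.pt_inj h; rfl
      · exact absurd h (C.pt_ne_dir _ _ _)
      · exact absurd h (C.pt_ne_Y _ _)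
      · exact absurd h.symm (C.pt_ne_dir _ _ _)
      · exact congrArg _ (congrArg _ (C.dir_inj h))
      · exact absurd h (C.dir_ne _)
      · exact absurd h.symm (C.pt_ne_Y _ _)
      · exact absurd h.symm (C.dir_ne _)
      · rfl
    · intro p
      rcases C.point_cases p with ⟨x, y, rfl⟩ | ⟨a, rfl⟩ | rfl
      · exact ⟨Sum.inl (x, y), rfl⟩
      · exact ⟨Sum.inr (Sum.inl a), rfl⟩
      · exact ⟨Sum.inr (Sum.inr ()), rfl⟩
  let vec : (F × F) ⊕ F ⊕ Unit → {v : Fin 3 → F // v ≠ 0} :=
    Sum.elim (fun z => ⟨![1, z.1, z.2], fun h => one_ne_zero (congrFun h 0)⟩)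
      (Sum.elim (fun a => ⟨![0, 1, a], fun h => one_ne_zero (congrFun h 1)⟩)
        fun _ => ⟨![0, 0, 1], fun h => one_ne_zero (congrFun h 2)⟩)
  let q : (F × F) ⊕ F ⊕ Unit → Projectivization F (Fin 3 → F) := fun z =>
    Projectivization.mk F (vec z).1 (vec z).2
  have hq : Function.Bijective q := by
    constructor
    · intro z z' h
      obtain ⟨a, ha⟩ := (Projectivization.mk_eq_mk_iff' F _ _ _ _).mp h
      have h0 := congrFun ha 0
      have h1 := congrFun ha 1
      have h2 := congrFun ha 2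
      rcases z with ⟨x, y⟩ | b | ⟨⟩ <;> rcases z' with ⟨x', y'⟩ | b' | ⟨⟩ <;>
        simp_all [vec]
    · intro p
      induction p using Projectivization.ind with
      | _ v hv =>
        by_cases h0 : v 0 = 0
        · by_cases h1 : v 1 = 0
          · have h2 : v 2 ≠ 0 := fun h2 => hv (funext fun i => by fin_cases i <;> simp_all)
            refine ⟨Sum.inr (Sum.inr ()), (Projectivization.mk_eq_mk_iff' F _ _ _ _).mpr
              ⟨(v 2)⁻¹, funext fun i => ?_⟩⟩
            fin_cases i <;> simp [vec, h0, h1, h2]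
          · refine ⟨Sum.inr (Sum.inl (v 2 / v 1)), (Projectivization.mk_eq_mk_iff' F _ _ _ _).mpr
              ⟨(v 1)⁻¹, funext fun i => ?_⟩⟩
            fin_cases i <;> simp [vec, h0, h1, div_eq_inv_mul]
        · refine ⟨Sum.inl (v 1 / v 0, v 2 / v 0), (Projectivization.mk_eq_mk_iff' F _ _ _ _).mpr
            ⟨(v 0)⁻¹, funext fun i => ?_⟩⟩
          fin_cases i <;> simp [vec, h0, div_eq_inv_mul]
  let φ : P ≃ Projectivization F (Fin 3 → F) :=
    (Equiv.ofBijective r hr).symm.trans (Equiv.ofBijective q hq)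
  have hφ : ∀ z, φ (r z) = q z := fun z => by
    show q ((Equiv.ofBijective r hr).symm (Equiv.ofBijective r hr z)) = _
    rw [Equiv.symm_apply_apply]
  have hsub : ∀ z (W : Submodule F (Fin 3 → F)), (φ (r z)).submodule ≤ W ↔ (vec z).1 ∈ W := by
    intro z W
    rw [hφ, Projectivization.submodule_mk, Submodule.span_singleton_le_iff_mem]
  have hline : ∀ l : L, ∃ k : Fin 3 → F, k ≠ 0 ∧ ∀ z, π.I (r z) l ↔ dotL k (vec z).1 = 0 := by
    intro l
    rcases C.line_cases l with rfl | ⟨a, t, rfl⟩ | ⟨c, rfl⟩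
    · refine ⟨![1, 0, 0], fun h => one_ne_zero (congrFun h 0), ?_⟩
      rintro (⟨x, y⟩ | b | ⟨⟩)
      · simp [r, vec, dotL_apply, C.pt_off]
      · simp [r, vec, dotL_apply, C.dir_on]
      · simp [r, vec, dotL_apply, C.hY]
    · refine ⟨![t, a, -1], fun h => one_ne_zero (neg_eq_zero.mp (congrFun h 2)), ?_⟩
      rintro (⟨x, y⟩ | b | ⟨⟩)
      · simp only [r, vec, Sum.elim_inl, dotL_apply, C.ln_pt, hmul, Matrix.cons_val_zero,
          Matrix.cons_val_one, Matrix.cons_val]
        constructor <;> intro h <;> linear_combination -h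
      · simp only [r, vec, Sum.elim_inl, Sum.elim_inr, dotL_apply, Matrix.cons_val_zero,
          Matrix.cons_val_one, Matrix.cons_val]
        refine ⟨fun h => ?_, fun h => ?_⟩
        · rw [C.dir_mem_ln h]; ring
        · have hb : b = a := by linear_combination -h
          rw [hb]; exact C.ln_dir a t
      · simp [r, vec, dotL_apply, C.Y_not_mem_ln]
    · refine ⟨![c, -1, 0], fun h => one_ne_zero (neg_eq_zero.mp (congrFun h 1)), ?_⟩
      rintro (⟨x, y⟩ | b | ⟨⟩)
      · simp only [r, vec, Sum.elim_inl, dotL_apply, C.vl_pt, Matrix.cons_val_zero,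
          Matrix.cons_val_one, Matrix.cons_val]
        constructor <;> intro h <;> linear_combination -h
      · simp [r, vec, dotL_apply, C.dir_not_mem_vl]
      · simp [r, vec, dotL_apply, C.vl_Y]
  have hW : ∀ l, ∃ W : Submodule F (Fin 3 → F), Module.finrank F W = 2 ∧
      ∀ p : P, π.I p l ↔ (φ p).submodule ≤ W := by
    intro l
    obtain ⟨k, hk, hI⟩ := hline l
    refine ⟨LinearMap.ker (dotL k), finrank_ker_dotL hk, fun p => ?_⟩
    obtain ⟨z, rfl⟩ := hr.2 p
    rw [hsub, LinearMap.mem_ker, hI]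
  refine ⟨φ, hW, fun W hW2 => ?_⟩
  -- two points spanning `W`
  obtain ⟨b⟩ : Nonempty (Module.Basis (Fin 2) F W) := ⟨Module.finBasisOfFinrankEq F W hW2⟩
  have hv : ∀ i, ((b i : W) : Fin 3 → F) ≠ 0 := fun i h => b.ne_zero i (Subtype.ext h)
  set u := Projectivization.mk F _ (hv 0) with hu
  set v := Projectivization.mk F _ (hv 1) with hv'
  have huv : φ.symm u ≠ φ.symm v := by
    intro h
    obtain ⟨a, ha⟩ := (Projectivization.mk_eq_mk_iff' F _ _ _ _).mp (φ.symm.injective h)
    have h1 : a • b 1 = b 0 := Subtype.ext ha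
    have := congrArg (fun w => b.repr w 0) h1
    simp at this
  obtain ⟨l, hlu, hlv⟩ := π.exists_join _ _ huv
  obtain ⟨W', hW', hI⟩ := hW l
  refine ⟨l, fun p => ?_⟩
  suffices W = W' by rw [this, hI]
  refine Submodule.eq_of_le_of_finrank_le ?_ (by rw [hW', hW2])
  intro w hw
  have hmem : ∀ i, ((b i : W) : Fin 3 → F) ∈ W' := by
    intro i
    fin_cases i
    · have := (hI _).mp hlu
      rwa [Equiv.apply_symm_apply, hu, Projectivization.submodule_mk,
        Submodule.span_singleton_le_iff_mem] at this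
    · have := (hI _).mp hlv
      rwa [Equiv.apply_symm_apply, hv', Projectivization.submodule_mk,
        Submodule.span_singleton_le_iff_mem] at this
  have hle : ∀ x : W, (x : Fin 3 → F) ∈ W' := by
    intro x
    rw [← b.sum_repr x, Submodule.coe_sum]
    refine sum_mem fun i _ => ?_
    rw [Submodule.coe_smul]
    exact W'.smul_mem _ (hmem i)
  exact hle ⟨w, hw⟩

end Plane.Coords

theorem desarguesian {P L : Type*} [Membership P L] [Fintype P] [Fintype L]
    [Configuration.ProjectivePlane P L]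
    (h2t : ∀ p₁ p₂ q₁ q₂ : P, p₁ ≠ p₂ → q₁ ≠ q₂ →
      ∃ (σ : Equiv.Perm P) (τ : Equiv.Perm L), (∀ (p : P) (l : L), σ p ∈ τ l ↔ p ∈ l) ∧
        σ p₁ = q₁ ∧ σ p₂ = q₂) :
    ∃ (F : Type) (_ : Field F) (_ : Fintype F) (φ : P ≃ Projectivization F (Fin 3 → F)),
      (∀ l : L, ∃ W : Submodule F (Fin 3 → F), Module.finrank F W = 2 ∧
          ∀ p : P, p ∈ l ↔ (φ p).submodule ≤ W) ∧
      (∀ W : Submodule F (Fin 3 → F), Module.finrank F W = 2 →
          ∃ l : L, ∀ p : P, p ∈ l ↔ (φ p).submodule ≤ W) := by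
  classical
  let π : Plane P L :=
    { I := fun p l => p ∈ l
      n := Configuration.ProjectivePlane.order P L
      two_le := Configuration.ProjectivePlane.one_lt_order P L
      exists_join := fun p q h => ⟨_, Configuration.HasLines.mkLine_ax h⟩
      exists_meet := fun l m h => ⟨_, Configuration.HasPoints.mkPoint_ax h⟩
      uniq := fun h1 h2 h3 h4 => Configuration.Nondegenerate.eq_or_eq h1 h2 h3 h4
      card_line := fun l => Configuration.ProjectivePlane.pointCount_eq P l
      card_point := fun p => Configuration.ProjectivePlane.lineCount_eq L p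
      nonempty := by
        obtain ⟨p₁, -⟩ := Configuration.ProjectivePlane.exists_config (P := P) (L := L)
        exact ⟨p₁⟩ }
  have htt : π.TwoTrans := by
    intro p₁ p₂ q₁ q₂ hp hq
    obtain ⟨σ, τ, h, h1, h2⟩ := h2t p₁ p₂ q₁ q₂ hp hq
    exact ⟨⟨(σ, τ), h⟩, h1, h2⟩
  obtain ⟨F, iF, iFt, C, hC⟩ := Plane.exists_field_coords (Plane.isMoufang_of_twoTrans htt)
  obtain ⟨φ, h1, h2⟩ := C.exists_proj hC
  exact ⟨F, iF, iFt, φ, h1, h2⟩

end Cfsg.Agent.H29.OW
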