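import Cfsg.Agent.H29.OW.Moufang

/-!
The translations of a finite Moufang plane and the resulting coordinates.
-/

set_option autoImplicit false
set_option linter.unusedSectionVars false
set_option linter.style.haveILetI false

universe u v w

namespace Cfsg.Agent.H29.OW

namespace Plane

variable {P : Type u} {L : Type v}

/-- Coordinates of an affine part of `π` by an additive group with a multiplication which is
linear in the second argument. -/
structure Coords (π : Plane P L) (A : Type w) [AddCommGroup A] where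
  /-- the line at infinity -/
  linf : L
  /-- the direction of the vertical lines -/
  Y : P
  hY : π.I Y linf
  /-- affine points -/
  pt : A → A → P
  pt_off : ∀ x y, ¬ π.I (pt x y) linf
  pt_inj : ∀ {x y x' y'}, pt x y = pt x' y' → x = x' ∧ y = y'
  pt_surj : ∀ p, ¬ π.I p linf → ∃ x y, pt x y = p
  /-- directions of the lines which are not vertical -/
  dir : A → P
  dir_on : ∀ a, π.I (dir a) linf
  dir_ne : ∀ a, dir a ≠ Y
  dir_surj : ∀ C, π.I C linf → C ≠ Y → ∃ a, dir a = C
  /-- multiplication -/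
  mul : A → A →+ A
  /-- the identity -/
  one : A
  one_ne : one ≠ 0
  one_mul : ∀ x, mul one x = x
  mul_one : ∀ a, mul a one = a
  zero_mul : ∀ x, mul 0 x = 0
  line : ∀ a t, ∃ l, π.I (dir a) l ∧ ∀ x y, π.I (pt x y) l ↔ y = mul a x + t
  vert : ∀ c, ∃ l, π.I Y l ∧ ∀ x y, π.I (pt x y) l ↔ x = c

/-- Coordinates transported along an isomorphism. -/
def Coords.map {π : Plane P L} {A B : Type*} [AddCommGroup A] [AddCommGroup B]
    (C : Coords π A) (e : B ≃+ A) : Coords π B where
  linf := C.linf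
  Y := C.Y
  hY := C.hY
  pt x y := C.pt (e x) (e y)
  pt_off x y := C.pt_off _ _
  pt_inj h := ⟨e.injective (C.pt_inj h).1, e.injective (C.pt_inj h).2⟩
  pt_surj p hp := by
    obtain ⟨x, y, h⟩ := C.pt_surj p hp
    exact ⟨e.symm x, e.symm y, by simp [h]⟩
  dir a := C.dir (e a)
  dir_on a := C.dir_on _
  dir_ne a := C.dir_ne _
  dir_surj Q h1 h2 := by
    obtain ⟨a, h⟩ := C.dir_surj Q h1 h2
    exact ⟨e.symm a, by simp [h]⟩
  mul a := e.symm.toAddMonoidHom.comp ((C.mul (e a)).comp e.toAddMonoidHom)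
  one := e.symm C.one
  one_ne h := C.one_ne (by simpa using congrArg e h)
  one_mul x := by simp [C.one_mul]
  mul_one a := by simp [C.mul_one]
  zero_mul x := by simp [C.zero_mul]
  line a t := by
    obtain ⟨l, h1, h2⟩ := C.line (e a) (e t)
    refine ⟨l, h1, fun x y => (h2 _ _).trans ?_⟩
    rw [← e.injective.eq_iff (b := _ + t)]
    simp
  vert c := by
    obtain ⟨l, h1, h2⟩ := C.vert (e c)
    exact ⟨l, h1, fun x y => (h2 _ _).trans e.injective.eq_iff⟩

variable {π : Plane P L} [Finite P] [Finite L]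

theorem elFlag_le_elAxis {C : P} {l : L} (hC : π.I C l) : π.elFlag C l ≤ π.elAxis l :=
  fun _ hg => mem_elAxis.mpr ⟨(mem_elFlag.mp hg).2, C, hC, (mem_elFlag.mp hg).1⟩

theorem elFlag_inter {C D : P} {l : L} (h : C ≠ D) {g : π.Aut} (hC : g ∈ π.elFlag C l)
    (hD : g ∈ π.elFlag D l) : g = 1 :=
  center_two (mem_elFlag.mp hC).1 (mem_elFlag.mp hD).1 h

theorem trans_inj {l : L} {O : P} (hO : ¬ π.I O l) {g k : π.Aut} (hg : g ∈ π.elAxis l)
    (hk : k ∈ π.elAxis l) (h : g • O = k • O) : g = k :=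
  (inv_mul_eq_one.mp (elAxis_free (mul_mem (inv_mem hg) hk) hO
    (by rw [mul_smul, ← h, inv_smul_smul])))

theorem trans_off {l : L} {p : P} (hp : ¬ π.I p l) {g : π.Aut} (hg : g ∈ π.elAxis l) :
    ¬ π.I (g • p) l := by
  intro h
  rw [← (mem_elAxis.mp hg).1.line] at h
  exact hp ((smul_I_iff g p l).mp h)

variable (hm : IsMoufang π) {linf : L} {O : P} (hO : ¬ π.I O linf)
include hm hO

/-- Translations with given centre move `O` to every point of the line through the centre. -/
theorem exists_trans {C : P} (hC : π.I C linf) {k : L} (hCk : π.I C k) (hOk : π.I O k) {p : P}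
    (hpk : π.I p k) (hp : ¬ π.I p linf) : ∃ g ∈ π.elFlag C linf, g • O = p := by
  obtain ⟨g, h1, h2, h3⟩ := hm C linf hC k hCk (fun e => hO (e ▸ hOk)) O p hOk
    (fun e => hO (e ▸ hC)) hpk (fun e => hp (e ▸ hC))
  exact ⟨g, mem_elFlag.mpr ⟨h2, h1⟩, h3⟩

theorem exists_trans_any {p : P} (hp : ¬ π.I p linf) : ∃ g ∈ π.elAxis linf, g • O = p := by
  by_cases h : p = O
  · exact ⟨1, one_mem _, by rw [one_smul, h]⟩
  · have hC := π.meet_right (π.join O p) linf
    obtain ⟨g, hg, hgp⟩ := exists_trans hm hO hC (π.meet_left _ _) (π.join_left O p)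
      (π.join_right O p) hp
    exact ⟨g, elFlag_le_elAxis hC hg, hgp⟩

/-- Lines through the point `C` at infinity are cosets of the translations with centre `C`. -/
theorem line_iff {C : P} (hC : π.I C linf) {k : L} (hCk : π.I C k) {g h : π.Aut}
    (hg : g ∈ π.elAxis linf) (hh : h ∈ π.elAxis linf) (hgk : π.I (g • O) k) :
    π.I (h • O) k ↔ g⁻¹ * h ∈ π.elFlag C linf := by
  have hgh : g⁻¹ * h ∈ π.elAxis linf := mul_mem (inv_mem hg) hh
  have hOk : π.I O (g⁻¹ • k) := (smul_point_I_iff g O k).mp hgk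
  have hCk' : π.I C (g⁻¹ • k) := by
    have := (smul_I_iff g⁻¹ C k).mpr hCk
    rwa [(mem_elAxis.mp (inv_mem hg)).1 C hC] at this
  constructor
  · intro hhk
    have h1 : π.I ((g⁻¹ * h) • O) (g⁻¹ • k) := by
      rw [mul_smul]; exact (smul_I_iff g⁻¹ _ _).mpr hhk
    obtain ⟨z, hz, hzp⟩ := exists_trans hm hO hC hCk' hOk h1 (trans_off hO hgh)
    rwa [← trans_inj hO (elFlag_le_elAxis hC hz) hgh hzp]
  · intro hz
    have h1 : π.I ((g⁻¹ * h) • O) ((g⁻¹ * h) • (g⁻¹ • k)) := (smul_I_iff _ _ _).mpr hOk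
    rw [(mem_elFlag.mp hz).1 _ hCk', mul_smul] at h1
    exact (smul_I_iff g⁻¹ _ _).mp h1

theorem split {C D : P} (hC : π.I C linf) (hD : π.I D linf) (hCD : C ≠ D) {g : π.Aut}
    (hg : g ∈ π.elAxis linf) :
    ∃ u ∈ π.elFlag C linf, ∃ v ∈ π.elFlag D linf, g = u * v := by
  set p := g • O with hp_def
  have hp : ¬ π.I p linf := trans_off hO hg
  set k := π.join p D
  set m := π.join O C
  set Q := π.meet k m
  have hQ : ¬ π.I Q linf := by
    intro h
    have h1 : D = Q := point_eq (fun e : k = linf => hp (e ▸ π.join_left p D)) (π.join_right p D)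
      (π.meet_left k m) hD h
    have h2 : C = Q := point_eq (fun e : m = linf => hO (e ▸ π.join_left O C)) (π.join_right O C)
      (π.meet_right k m) hC h
    exact hCD (h2.trans h1.symm)
  obtain ⟨u, hu, huQ⟩ := exists_trans hm hO hC (π.join_right O C) (π.join_left O C)
    (π.meet_right k m) hQ
  refine ⟨u, hu, u⁻¹ * g, ?_, (mul_inv_cancel_left u g).symm⟩
  exact (line_iff hm hO hD (π.join_right p D) (elFlag_le_elAxis hC hu) hg
    (huQ ▸ π.meet_left k m)).mp (π.join_left p D)

theorem elAxis_comm {X Y : P} (hX : π.I X linf) (hY : π.I Y linf) (hXY : X ≠ Y) {g k : π.Aut}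
    (hg : g ∈ π.elAxis linf) (hk : k ∈ π.elAxis linf) : g * k = k * g := by
  have hex : ∀ C, π.I C linf → ∃ a ∈ π.elFlag C linf, a ≠ 1 := by
    intro C hC
    obtain ⟨p, hp, hpO, hpC⟩ := π.exists_point_ne_ne (π.join O C) O C
    have hpl : ¬ π.I p linf := fun h => hpC (point_eq
      (fun e : π.join O C = linf => hO (e ▸ π.join_left O C)) hp (π.join_right O C) h hC)
    obtain ⟨a, ha, hap⟩ := exists_trans hm hO hC (π.join_right O C) (π.join_left O C) hp hpl
    exact ⟨a, ha, fun e => hpO (by rw [← hap, e, one_smul])⟩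
  obtain ⟨a, ha, ha1⟩ := hex X hX
  obtain ⟨b, hb, hb1⟩ := hex Y hY
  have ha' := mem_elFlag.mp ha
  have hb' := mem_elFlag.mp hb
  have htwo : π.dual.TwoAxes linf :=
    ⟨π.flipAut a, π.flipAut b, X, Y, ⟨ha'.2, X, hX, ha'.1⟩, ⟨hb'.2, Y, hY, hb'.1⟩,
      fun e => ha1 (flip_eq_one.mp e), fun e => hb1 (flip_eq_one.mp e), ha'.1, hb'.1, hXY⟩
  obtain ⟨p, -, -, -, hc⟩ := htwo.structure
  apply π.flipAut.injective
  rw [map_mul, map_mul]
  exact hc _ hg _ hk

omit hO in
theorem exists_coords : ∃ (A : Type (max u v)) (i : AddCommGroup A), Finite A ∧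
    Nonempty (@Coords P L π A i) := by
  classical
  obtain ⟨linf⟩ := π.nonempty_line
  obtain ⟨O, hO⟩ := π.exists_off linf
  obtain ⟨X, hX⟩ := π.exists_point_on linf
  obtain ⟨Y, hY, hYX⟩ := π.exists_point_ne linf X
  obtain ⟨E, hE, hEX, hEY⟩ := π.exists_point_ne_ne linf X Y
  have comm := fun g k (hg : g ∈ π.elAxis linf) (hk : k ∈ π.elAxis linf) =>
    elAxis_comm hm hO hX hY (Ne.symm hYX) hg hk
  -- graphs: split an element of `elFlag X` along the direction `C`
  have hgraph : ∀ C, π.I C linf → C ≠ Y → ∀ s ∈ π.elFlag X linf,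
      ∃ t, (t ∈ π.elFlag Y linf ∧ s * t ∈ π.elFlag C linf) ∧
        ∀ t', t' ∈ π.elFlag Y linf → s * t' ∈ π.elFlag C linf → t' = t := by
    intro C hC hCY s hs
    obtain ⟨u, hu, v, hv, huv⟩ := split hm hO hC hY hCY (elFlag_le_elAxis hX hs)
    have h1 : s * v⁻¹ = u := by rw [huv, mul_inv_cancel_right]
    refine ⟨v⁻¹, ⟨inv_mem hv, h1.symm ▸ hu⟩, fun t' ht' hst => ?_⟩
    have h2 : (s * v⁻¹)⁻¹ * (s * t') = v * t' := by group
    have h3 : v * t' = 1 := elFlag_inter hCY
      (h2 ▸ mul_mem (inv_mem (h1.symm ▸ hu)) hst) (mul_mem hv ht')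
    exact eq_inv_of_mul_eq_one_right h3
  choose f hf hfu using hgraph
  -- the translations `x ↦ sx x` with `sx x * x` of centre `E`
  have hsx : ∀ t ∈ π.elFlag Y linf, ∃ s, (s ∈ π.elFlag X linf ∧ s * t ∈ π.elFlag E linf) ∧
      ∀ s', s' ∈ π.elFlag X linf → s' * t ∈ π.elFlag E linf → s' = s := by
    intro t ht
    obtain ⟨u, hu, v, hv, huv⟩ := split hm hO hE hX hEX (elFlag_le_elAxis hY ht)
    have h1 : v⁻¹ * t = u := by
      rw [huv, comm u v (elFlag_le_elAxis hE hu) (elFlag_le_elAxis hX hv), inv_mul_cancel_left]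
    refine ⟨v⁻¹, ⟨inv_mem hv, h1.symm ▸ hu⟩, fun s' hs' hst => ?_⟩
    have h2 : s' * t * (v⁻¹ * t)⁻¹ = s' * v := by group
    have h3 : s' * v = 1 := elFlag_inter hEX
      (h2 ▸ mul_mem hst (inv_mem (h1.symm ▸ hu))) (mul_mem hs' hv)
    exact eq_inv_of_mul_eq_one_left h3
  choose sx hsx hsxu using hsx
  let G := ↥(π.elFlag Y linf)
  letI : CommGroup G :=
    { (inferInstance : Group G) with
      mul_comm := fun a b => Subtype.ext
        (comm a.1 b.1 (elFlag_le_elAxis hY a.2) (elFlag_le_elAxis hY b.2)) }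
  let S : G → π.Aut := fun t => sx t.1 t.2
  have S_mem : ∀ t, S t ∈ π.elFlag X linf := fun t => (hsx t.1 t.2).1
  have S_T : ∀ t, S t ∈ π.elAxis linf := fun t => elFlag_le_elAxis hX (S_mem t)
  have T_mem : ∀ t : G, t.1 ∈ π.elAxis linf := fun t => elFlag_le_elAxis hY t.2
  have S_E : ∀ t : G, S t * t.1 ∈ π.elFlag E linf := fun t => (hsx t.1 t.2).2
  have S_mul : ∀ a b, S (a * b) = S a * S b := by
    intro a b
    refine (hsxu _ _ _ (mul_mem (S_mem a) (S_mem b)) ?_).symm
    have h : S a * S b * ((a * b : G) : π.Aut) = (S a * a.1) * (S b * b.1) := by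
      show S a * S b * (a.1 * b.1) = _
      rw [mul_assoc (S a), ← mul_assoc (S b), comm (S b) a.1 (S_T b) (T_mem a)]
      group
    rw [h]
    exact mul_mem (S_E a) (S_E b)
  have S_inj : Function.Injective S := by
    intro a b hab
    apply Subtype.ext
    have h2 : (S a * a.1)⁻¹ * (S b * b.1) = a.1⁻¹ * b.1 := by rw [hab]; group
    exact inv_mul_eq_one.mp (elFlag_inter hEY
      (h2 ▸ mul_mem (inv_mem (S_E a)) (S_E b)) (mul_mem (inv_mem a.2) b.2))
  have S_surj : ∀ s ∈ π.elFlag X linf, ∃ t, S t = s := by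
    intro s hs
    exact ⟨⟨f E hE hEY s hs, (hf E hE hEY s hs).1⟩,
      (hsxu _ _ s hs (hf E hE hEY s hs).2).symm⟩
  -- the unit
  obtain ⟨e, he⟩ : ∃ e : G, e ≠ 1 := by
    obtain ⟨p, hp, hpO, hpY⟩ := π.exists_point_ne_ne (π.join O Y) O Y
    have hpl : ¬ π.I p linf := fun h => hpY (point_eq
      (fun e : π.join O Y = linf => hO (e ▸ π.join_left O Y)) hp (π.join_right O Y) h hY)
    obtain ⟨a, ha, hap⟩ := exists_trans hm hO hY (π.join_right O Y) (π.join_left O Y) hp hpl
    exact ⟨⟨a, ha⟩, fun e => hpO (by rw [← hap, show a = 1 from congrArg Subtype.val e, one_smul])⟩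
  have S_one : S 1 = 1 := by
    have h : S 1 = S 1 * S 1 := by rw [← S_mul, one_mul]
    exact mul_eq_left.mp h.symm
  have he' : S e ≠ 1 := fun h => he (S_inj (h.trans S_one.symm))
  -- directions
  let D : G → P := fun a => π.meet (π.join O ((S e * a.1) • O)) linf
  have hne : ∀ a : G, (S e * a.1) • O ≠ O := by
    intro a h
    have h1 : S e * a.1 = 1 := trans_inj hO (mul_mem (S_T e) (T_mem a)) (one_mem _)
      (by rw [h, one_smul])
    exact he' (elFlag_inter (Ne.symm hYX) (S_mem e)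
      (by rw [eq_inv_of_mul_eq_one_left h1]; exact inv_mem a.2))
  have D_on : ∀ a, π.I (D a) linf := fun a => π.meet_right _ _
  have D_mem : ∀ a, S e * a.1 ∈ π.elFlag (D a) linf := by
    intro a
    have h := (line_iff hm hO (D_on a) (π.meet_left _ _) (one_mem _)
      (mul_mem (S_T e) (T_mem a)) (by rw [one_smul]; exact π.join_left _ _)).mp
      (π.join_right O ((S e * a.1) • O))
    rwa [inv_one, one_mul] at h
  have D_ne : ∀ a, D a ≠ Y := by
    intro a h
    have h1 := D_mem a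
    rw [h] at h1
    have h2 := mul_mem h1 (inv_mem a.2)
    rw [mul_inv_cancel_right] at h2
    exact he' (elFlag_inter (Ne.symm hYX) (S_mem e) h2)
  have D_eq : ∀ (C : P) (_ : π.I C linf) (a : G), S e * a.1 ∈ π.elFlag C linf → D a = C := by
    intro C _ a ha
    by_contra hne'
    exact hne a (by rw [elFlag_inter hne' (D_mem a) ha, one_smul])
  -- multiplication
  let M : G → G → G := fun a x =>
    ⟨f (D a) (D_on a) (D_ne a) (S x) (S_mem x), (hf (D a) (D_on a) (D_ne a) (S x) (S_mem x)).1⟩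
  have M_spec : ∀ a x, S x * (M a x).1 ∈ π.elFlag (D a) linf := fun a x =>
    (hf (D a) (D_on a) (D_ne a) (S x) (S_mem x)).2
  have M_uniq : ∀ a x (t : G), S x * t.1 ∈ π.elFlag (D a) linf → t = M a x := fun a x t ht =>
    Subtype.ext (hfu (D a) (D_on a) (D_ne a) (S x) (S_mem x) t.1 t.2 ht)
  have M_mul : ∀ a x y, M a (x * y) = M a x * M a y := by
    intro a x y
    refine (M_uniq _ _ _ ?_).symm
    have h : S (x * y) * ((M a x * M a y : G) : π.Aut) =
        (S x * (M a x).1) * (S y * (M a y).1) := by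
      rw [S_mul]
      show S x * S y * ((M a x).1 * (M a y).1) = _
      rw [mul_assoc (S x), ← mul_assoc (S y), comm (S y) _ (S_T y) (T_mem (M a x))]
      group
    rw [h]
    exact mul_mem (M_spec a x) (M_spec a y)
  let pt : G → G → P := fun x y => (S x * y.1) • O
  have pt_T : ∀ x y : G, S x * y.1 ∈ π.elAxis linf := fun x y => mul_mem (S_T x) (T_mem y)
  refine ⟨Additive G, inferInstance, inferInstance, ⟨
    { linf := linf
      Y := Y
      hY := hY
      pt := fun x y => pt x.toMul y.toMul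
      pt_off := fun x y => trans_off hO (pt_T _ _)
      pt_inj := ?_
      pt_surj := ?_
      dir := fun a => D a.toMul
      dir_on := fun a => D_on _
      dir_ne := fun a => D_ne _
      dir_surj := ?_
      mul := fun a => AddMonoidHom.mk' (fun x => Additive.ofMul (M a.toMul x.toMul))
        (fun x y => congrArg Additive.ofMul (M_mul _ _ _))
      one := Additive.ofMul e
      one_ne := fun h => he (Additive.ofMul.injective h)
      one_mul := ?_
      mul_one := ?_
      zero_mul := ?_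
      line := ?_
      vert := ?_ }⟩⟩
  · intro x y x' y' h
    have h1 : S x.toMul * y.toMul.1 = S x'.toMul * y'.toMul.1 :=
      trans_inj hO (pt_T _ _) (pt_T _ _) h
    have h2 : (S x'.toMul)⁻¹ * S x.toMul = y'.toMul.1 * y.toMul.1⁻¹ := by
      rw [eq_mul_inv_iff_mul_eq, mul_assoc, h1, inv_mul_cancel_left]
    have h3 : (S x'.toMul)⁻¹ * S x.toMul = 1 := elFlag_inter (Ne.symm hYX)
      (mul_mem (inv_mem (S_mem _)) (S_mem _)) (h2 ▸ mul_mem y'.toMul.2 (inv_mem y.toMul.2))
    have hx : x = x' := Additive.toMul.injective (S_inj (inv_mul_eq_one.mp h3).symm)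
    subst hx
    exact ⟨rfl, Additive.toMul.injective (Subtype.ext (mul_left_cancel h1))⟩
  · intro p hp
    obtain ⟨g, hg, hgp⟩ := exists_trans_any hm hO hp
    obtain ⟨u, hu, v, hv, huv⟩ := split hm hO hX hY (Ne.symm hYX) hg
    obtain ⟨x, hx⟩ := S_surj u hu
    refine ⟨Additive.ofMul x, Additive.ofMul ⟨v, hv⟩, ?_⟩
    show (S x * v) • O = p
    rw [hx, ← huv, hgp]
  · intro C hC hCY
    refine ⟨Additive.ofMul ⟨f C hC hCY (S e) (S_mem e), (hf C hC hCY _ _).1⟩, ?_⟩
    exact D_eq C hC _ (hf C hC hCY _ (S_mem e)).2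
  · intro x
    have hDe : D e = E := D_eq E hE e (S_E e)
    refine congrArg Additive.ofMul (M_uniq _ _ _ ?_).symm
    rw [show (Additive.toMul (Additive.ofMul e)) = e from rfl, hDe]
    exact S_E _
  · intro a
    exact congrArg Additive.ofMul (M_uniq _ _ _ (D_mem a.toMul)).symm
  · intro x
    refine congrArg Additive.ofMul (M_uniq 1 x.toMul 1 ?_).symm
    have hD1 : D 1 = X := D_eq X hX 1 (by simpa using S_mem e)
    rw [hD1]
    simpa using S_mem x.toMul
  · intro a t
    refine ⟨π.join (t.toMul.1 • O) (D a.toMul), π.join_right _ _, fun x y => ?_⟩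
    show π.I ((S x.toMul * y.toMul.1) • O) _ ↔ _
    rw [line_iff hm hO (D_on a.toMul) (π.join_right _ _) (T_mem t.toMul) (pt_T _ _)
      (π.join_left _ _)]
    have h : t.toMul.1⁻¹ * (S x.toMul * y.toMul.1) = S x.toMul * ((t.toMul⁻¹ * y.toMul : G) : π.Aut) := by
      show _ = S x.toMul * (t.toMul.1⁻¹ * y.toMul.1)
      rw [← mul_assoc, ← mul_assoc, comm _ _ (inv_mem (T_mem t.toMul)) (S_T _)]
    rw [h]
    constructor
    · intro h'
      have h2 := M_uniq _ _ _ h'
      apply Additive.toMul.injective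
      show y.toMul = M a.toMul x.toMul * t.toMul
      rw [← h2, mul_comm t.toMul⁻¹, inv_mul_cancel_right]
    · intro h'
      have h2 : y.toMul = M a.toMul x.toMul * t.toMul := congrArg Additive.toMul h'
      rw [h2, mul_comm _ t.toMul, inv_mul_cancel_left]
      exact M_spec _ _
  · intro c
    refine ⟨π.join (S c.toMul • O) Y, π.join_right _ _, fun x y => ?_⟩
    show π.I ((S x.toMul * y.toMul.1) • O) _ ↔ _
    rw [line_iff hm hO hY (π.join_right _ _) (S_T c.toMul) (pt_T _ _) (π.join_left _ _)]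
    constructor
    · intro h'
      have h2 := mul_mem h' (inv_mem y.toMul.2)
      rw [← mul_assoc, mul_inv_cancel_right] at h2
      have h3 := elFlag_inter (Ne.symm hYX) (mul_mem (inv_mem (S_mem _)) (S_mem _)) h2
      exact Additive.toMul.injective (S_inj (inv_mul_eq_one.mp h3).symm)
    · rintro rfl
      rw [inv_mul_cancel_left]
      exact y.toMul.2

end Plane

end Cfsg.Agent.H29.OW
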